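import Groth.Prelude.Def_HopfRep
import Mathlib.LinearAlgebra.TensorProduct.Basis
import Mathlib.LinearAlgebra.TensorProduct.Finiteness
import Mathlib.LinearAlgebra.TensorProduct.RightExactness
import Mathlib.LinearAlgebra.Basis.VectorSpace
import Mathlib.RingTheory.Flat.Basic
import Mathlib.RingTheory.Coalgebra.Basic

/-!
Comodule basics: slices of coactions, matrix coefficients, the fundamental theorem on comodules and coalgebras.
-/

set_option autoImplicit false

universe u v w w'

open TensorProduct HopfRep

namespace Groth.Agent.H20Comod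

noncomputable section

section Slices

variable {k : Type u} [CommRing k] {A : Type v} [AddCommGroup A] [Module k A]
  {V : Type w} [AddCommGroup V] [Module k V]

/-- `v ⊗ a ↦ f a • v`. -/
def sliceR (f : A →ₗ[k] k) : V ⊗[k] A →ₗ[k] V :=
  (TensorProduct.rid k V).toLinearMap ∘ₗ f.lTensor V

/-- `v ⊗ a ↦ g v • a`. -/
def sliceL (g : V →ₗ[k] k) : V ⊗[k] A →ₗ[k] A :=
  (TensorProduct.lid k A).toLinearMap ∘ₗ g.rTensor A

@[simp] theorem sliceR_tmul (f : A →ₗ[k] k) (v : V) (a : A) : sliceR f (v ⊗ₜ a) = f a • v := by
  simp [sliceR]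

@[simp] theorem sliceL_tmul (g : V →ₗ[k] k) (v : V) (a : A) : sliceL g (v ⊗ₜ a) = g v • a := by
  simp [sliceL]

theorem sliceR_rTensor {V' : Type w'} [AddCommGroup V'] [Module k V'] (f : A →ₗ[k] k) (φ : V →ₗ[k] V')
    (x : V ⊗[k] A) : sliceR f (φ.rTensor A x) = φ (sliceR f x) := by
  induction x using TensorProduct.induction_on with
  | zero => simp
  | tmul v a => simp
  | add x y hx hy => simp [hx, hy]

theorem sliceR_lTensor {A' : Type w'} [AddCommGroup A'] [Module k A'] (f : A' →ₗ[k] k) (ψ : A →ₗ[k] A')
    (x : V ⊗[k] A) : sliceR f (ψ.lTensor V x) = sliceR (f ∘ₗ ψ) x := by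
  induction x using TensorProduct.induction_on with
  | zero => simp
  | tmul v a => simp
  | add x y hx hy => simp [hx, hy]

theorem sliceL_lTensor {A' : Type w'} [AddCommGroup A'] [Module k A'] (g : V →ₗ[k] k) (ψ : A →ₗ[k] A')
    (x : V ⊗[k] A) : sliceL g (ψ.lTensor V x) = ψ (sliceL g x) := by
  induction x using TensorProduct.induction_on with
  | zero => simp
  | tmul v a => simp
  | add x y hx hy => simp [hx, hy]

theorem sliceL_rTensor {V' : Type w'} [AddCommGroup V'] [Module k V'] (g : V' →ₗ[k] k) (φ : V →ₗ[k] V')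
    (x : V ⊗[k] A) : sliceL g (φ.rTensor A x) = sliceL (g ∘ₗ φ) x := by
  induction x using TensorProduct.induction_on with
  | zero => simp
  | tmul v a => simp
  | add x y hx hy => simp [hx, hy]

theorem eq_sum_basis_tmul_sliceL {ι : Type w'} [Fintype ι] (b : Module.Basis ι k V) (x : V ⊗[k] A) :
    x = ∑ i, b i ⊗ₜ[k] sliceL (b.coord i) x := by
  induction x using TensorProduct.induction_on with
  | zero => simp
  | tmul v a =>
    simp only [sliceL_tmul, ← TensorProduct.smul_tmul, ← TensorProduct.sum_tmul, Module.Basis.coord_apply,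
      b.sum_repr]
  | add x y hx hy =>
    simp only [map_add, TensorProduct.tmul_add, Finset.sum_add_distrib]
    rw [← hx, ← hy]

/-- Over a free module, an element of a tensor product all whose slices vanish is zero. -/
theorem eq_zero_of_forall_sliceR [Module.Free k A] {x : V ⊗[k] A}
    (h : ∀ f : A →ₗ[k] k, sliceR f x = 0) : x = 0 := by
  classical
  have B := Module.Free.chooseBasis k A
  apply (TensorProduct.equivFinsuppOfBasisRight B (M := V)).injective
  ext i
  have : ∀ y : V ⊗[k] A, TensorProduct.equivFinsuppOfBasisRight B y i = sliceR (B.coord i) y := by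
    intro y
    induction y using TensorProduct.induction_on with
    | zero => simp
    | tmul v a => simp
    | add x y hx hy => simp [hx, hy]
  rw [this, h, map_zero, Finsupp.zero_apply]

theorem sliceR_mem_of_mem_range {W : Submodule k V} {x : V ⊗[k] A}
    (hx : x ∈ LinearMap.range (W.subtype.rTensor A)) (f : A →ₗ[k] k) : sliceR f x ∈ W := by
  obtain ⟨y, rfl⟩ := hx
  rw [sliceR_rTensor]
  exact (sliceR f y).2

theorem mem_range_rTensor_subtype_iff [Module.Free k A] (W : Submodule k V) (x : V ⊗[k] A) :
    x ∈ LinearMap.range (W.subtype.rTensor A) ↔ ∀ f : A →ₗ[k] k, sliceR f x ∈ W := by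
  refine ⟨fun hx f => sliceR_mem_of_mem_range hx f, fun h => ?_⟩
  have hex : Function.Exact (W.subtype.rTensor A) (W.mkQ.rTensor A) :=
    rTensor_exact A (LinearMap.exact_subtype_mkQ W) W.mkQ_surjective
  refine (hex x).1 (eq_zero_of_forall_sliceR fun f => ?_)
  rw [sliceR_rTensor]
  exact (Submodule.Quotient.mk_eq_zero W).2 (h f)

end Slices

section Comodules

variable {k : Type u} [CommRing k] {A : Type v} [AddCommGroup A] [Module k A] [Coalgebra k A]

/-- The convolution product of two linear forms on a coalgebra. -/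
def conv (f g : A →ₗ[k] k) : A →ₗ[k] k :=
  LinearMap.mul' k k ∘ₗ TensorProduct.map f g ∘ₗ CoalgebraStruct.comul (R := k) (A := A)

variable {V : Type w} [AddCommGroup V] [Module k V] [Comod k A V]

/-- The action of a linear form on a comodule. -/
def actL (f : A →ₗ[k] k) : V →ₗ[k] V := sliceR f ∘ₗ Comod.coact (k := k) (A := A)

theorem actL_apply (f : A →ₗ[k] k) (v : V) : actL f v = sliceR f (Comod.coact (k := k) (A := A) v) := rfl

theorem actL_counit (v : V) : actL (CoalgebraStruct.counit (R := k) (A := A)) v = v := by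
  have := LinearMap.congr_fun (Comod.counit_comp (k := k) (A := A) (V := V)) v
  simp only [LinearMap.coe_comp, Function.comp_apply, LinearMap.flip_apply, TensorProduct.mk_apply] at this
  simp [actL, sliceR, this]

theorem actL_conv (f g : A →ₗ[k] k) (v : V) : actL (conv f g) v = actL f (actL g v) := by
  have hco := LinearMap.congr_fun (Comod.coassoc (k := k) (A := A) (V := V)) v
  simp only [LinearMap.coe_comp, Function.comp_apply, LinearEquiv.coe_coe] at hco
  have h1 : ∀ y : V ⊗[k] A, sliceR (LinearMap.mul' k k ∘ₗ TensorProduct.map f g)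
      (TensorProduct.assoc k V A A ((Comod.coact (k := k) (A := A)).rTensor A y)) = actL f (sliceR g y) := by
    intro y
    induction y using TensorProduct.induction_on with
    | zero => simp
    | tmul w a =>
      simp only [LinearMap.rTensor_tmul, sliceR_tmul, map_smul, actL_apply]
      generalize Comod.coact (k := k) (A := A) w = z
      induction z using TensorProduct.induction_on with
      | zero => simp
      | tmul u b =>
        simp only [TensorProduct.assoc_tmul, sliceR_tmul, LinearMap.coe_comp, Function.comp_apply,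
          TensorProduct.map_tmul, LinearMap.mul'_apply, smul_smul]
        rw [mul_comm]
      | add x y hx hy => simp only [TensorProduct.add_tmul, map_add, hx, hy, smul_add]
    | add x y hx hy => simp [hx, hy]
  rw [actL_apply (f := conv f g), conv, ← LinearMap.comp_assoc, ← sliceR_lTensor, ← hco, h1]
  rfl

theorem actL_mem_of_isSubcomod {W : Submodule k V} (hW : IsSubcomod (k := k) (A := A) W) (f : A →ₗ[k] k)
    {v : V} (hv : v ∈ W) : actL f v ∈ W := sliceR_mem_of_mem_range (hW v hv) f

theorem isSubcomod_iff_forall_actL [Module.Free k A] (W : Submodule k V) :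
    IsSubcomod (k := k) (A := A) W ↔ ∀ v ∈ W, ∀ f : A →ₗ[k] k, actL f v ∈ W :=
  forall₂_congr fun _ _ => mem_range_rTensor_subtype_iff W _

theorem isSubcomod_top : IsSubcomod (k := k) (A := A) (⊤ : Submodule k V) := by
  intro w _
  apply LinearMap.range_eq_top.2 (LinearMap.rTensor_surjective A (fun x => ⟨⟨x, trivial⟩, rfl⟩)) |>.ge
  trivial

theorem isSubcomod_bot : IsSubcomod (k := k) (A := A) (⊥ : Submodule k V) := by
  intro w hw
  rw [(Submodule.mem_bot k).1 hw, map_zero]
  exact zero_mem _

theorem isSubcomod_iSup {ι : Sort w'} (W : ι → Submodule k V) (h : ∀ i, IsSubcomod (k := k) (A := A) (W i)) :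
    IsSubcomod (k := k) (A := A) (⨆ i, W i) := by
  intro w hw
  induction hw using Submodule.iSup_induction' with
  | mem i x hx =>
    obtain ⟨y, hy⟩ := h i x hx
    refine ⟨(Submodule.inclusion (le_iSup W i)).rTensor A y, ?_⟩
    rw [← LinearMap.comp_apply, ← LinearMap.rTensor_comp]
    exact hy
  | zero => simp
  | add x y _ _ hx hy => rw [map_add]; exact add_mem hx hy

theorem isSubcomod_sup {W W' : Submodule k V} (h : IsSubcomod (k := k) (A := A) W)
    (h' : IsSubcomod (k := k) (A := A) W') : IsSubcomod (k := k) (A := A) (W ⊔ W') := by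
  rw [sup_eq_iSup]
  exact isSubcomod_iSup _ (Bool.rec h' h)

theorem isSubcomod_inf [Module.Free k A] {W W' : Submodule k V} (h : IsSubcomod (k := k) (A := A) W)
    (h' : IsSubcomod (k := k) (A := A) W') : IsSubcomod (k := k) (A := A) (W ⊓ W') := by
  rw [isSubcomod_iff_forall_actL]
  exact fun v hv f => ⟨actL_mem_of_isSubcomod h f hv.1, actL_mem_of_isSubcomod h' f hv.2⟩

variable (k A) in
/-- The subcomodule generated by a set (for a coalgebra free as a module). -/
def gen (s : Set V) : Submodule k V :=
  Submodule.span k {x | ∃ (f : A →ₗ[k] k), ∃ v ∈ s, actL f v = x}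

theorem subset_gen (s : Set V) : s ⊆ gen k A s :=
  fun v hv => Submodule.subset_span ⟨CoalgebraStruct.counit, v, hv, actL_counit v⟩

theorem isSubcomod_gen [Module.Free k A] (s : Set V) : IsSubcomod (k := k) (A := A) (gen k A s) := by
  rw [isSubcomod_iff_forall_actL]
  intro x hx f
  have : gen k A s ≤ (gen k A s).comap (actL f) := by
    rw [gen, Submodule.span_le]
    rintro _ ⟨g, v, hv, rfl⟩
    exact Submodule.subset_span ⟨conv f g, v, hv, actL_conv f g v⟩
  exact this hx

theorem gen_le [Module.Free k A] {s : Set V} {W : Submodule k V} (hW : IsSubcomod (k := k) (A := A) W)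
    (hs : s ⊆ W) : gen k A s ≤ W := by
  rw [gen, Submodule.span_le]
  rintro _ ⟨f, v, hv, rfl⟩
  exact actL_mem_of_isSubcomod hW f (hs hv)

theorem exists_fg_ge_gen {s : Set V} (hs : s.Finite) :
    ∃ N : Submodule k V, N.FG ∧ gen k A s ≤ N := by
  classical
  choose S hS using fun v : V => TensorProduct.exists_finset (Comod.coact (k := k) (A := A) v)
  refine ⟨Submodule.span k (⋃ v ∈ s, Prod.fst '' (S v : Set (V × A))),
    Submodule.fg_span (hs.biUnion fun v _ => (S v).finite_toSet.image _), ?_⟩
  rw [gen, Submodule.span_le]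
  rintro _ ⟨f, v, hv, rfl⟩
  rw [SetLike.mem_coe, actL_apply, hS v, map_sum]
  refine Submodule.sum_mem _ fun i hi => ?_
  rw [sliceR_tmul]
  exact Submodule.smul_mem _ _ (Submodule.subset_span (Set.mem_biUnion hv ⟨i, hi, rfl⟩))

theorem finite_gen [IsNoetherianRing k] {s : Set V} (hs : s.Finite) : Module.Finite k (gen k A s) := by
  obtain ⟨N, hN, hle⟩ := exists_fg_ge_gen (k := k) (A := A) hs
  haveI := Module.Finite.of_fg hN
  exact Module.Finite.of_injective (Submodule.inclusion hle) (Submodule.inclusion_injective hle)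

/-- A finite family spanning invariant data has matrix coefficients satisfying the comatrix identities. -/
theorem comul_matCoeff {ι : Type w'} [Fintype ι] [DecidableEq ι] (e : ι → V) (g : ι → V →ₗ[k] k)
    (hg : ∀ i j, g i (e j) = if i = j then 1 else 0) (m : ι → ι → A)
    (hm : ∀ j, Comod.coact (k := k) (A := A) (e j) = ∑ i, e i ⊗ₜ[k] m i j) (i j : ι) :
    CoalgebraStruct.comul (R := k) (m i j) = ∑ l, m i l ⊗ₜ[k] m l j := by
  have hco := LinearMap.congr_fun (Comod.coassoc (k := k) (A := A) (V := V)) (e j)
  simp only [LinearMap.coe_comp, Function.comp_apply, LinearEquiv.coe_coe, hm, map_sum,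
    LinearMap.rTensor_tmul, TensorProduct.sum_tmul, TensorProduct.assoc_tmul, LinearMap.lTensor_tmul] at hco
  have := congrArg (sliceL (g i)) hco
  simp only [map_sum, sliceL_tmul, hg, ite_smul, one_smul, zero_smul, Finset.sum_ite_eq,
    Finset.mem_univ, if_true] at this
  exact this.symm

theorem counit_matCoeff {ι : Type w'} [Fintype ι] [DecidableEq ι] (e : ι → V) (g : ι → V →ₗ[k] k)
    (hg : ∀ i j, g i (e j) = if i = j then 1 else 0) (m : ι → ι → A)
    (hm : ∀ j, Comod.coact (k := k) (A := A) (e j) = ∑ i, e i ⊗ₜ[k] m i j) (i j : ι) :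
    CoalgebraStruct.counit (R := k) (m i j) = if i = j then 1 else 0 := by
  have := congrArg (g i) (actL_counit (k := k) (A := A) (e j))
  simp only [actL_apply, hm, map_sum, sliceR_tmul, map_smul, hg, smul_eq_mul, mul_ite, mul_one, mul_zero,
    Finset.sum_ite_eq, Finset.mem_univ, if_true] at this
  exact this

variable (k A V) in
/-- The span of the matrix coefficients of a comodule. -/
def coeffs : Submodule k A :=
  Submodule.span k {a | ∃ (g : V →ₗ[k] k) (v : V), sliceL g (Comod.coact (k := k) (A := A) v) = a}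

theorem coact_basis {ι : Type w'} [Fintype ι] (b : Module.Basis ι k V) (j : ι) :
    Comod.coact (k := k) (A := A) (b j) =
      ∑ i, b i ⊗ₜ[k] sliceL (b.coord i) (Comod.coact (k := k) (A := A) (b j)) :=
  eq_sum_basis_tmul_sliceL b _

theorem comul_coeff_basis {ι : Type w'} [Fintype ι] (b : Module.Basis ι k V) (i j : ι) :
    CoalgebraStruct.comul (R := k) (sliceL (b.coord i) (Comod.coact (k := k) (A := A) (b j))) =
      ∑ l, sliceL (b.coord i) (Comod.coact (k := k) (A := A) (b l)) ⊗ₜ[k]
        sliceL (b.coord l) (Comod.coact (k := k) (A := A) (b j)) := by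
  classical
  exact comul_matCoeff b (fun i => b.coord i)
    (fun i j => by simp [Finsupp.single_apply, eq_comm])
    (fun i j => sliceL (b.coord i) (Comod.coact (k := k) (A := A) (b j))) (coact_basis b) i j

theorem counit_coeff_basis {ι : Type w'} [Fintype ι] [DecidableEq ι] (b : Module.Basis ι k V) (i j : ι) :
    CoalgebraStruct.counit (R := k) (sliceL (b.coord i) (Comod.coact (k := k) (A := A) (b j))) =
      if i = j then 1 else 0 :=
  counit_matCoeff b (fun i => b.coord i)
    (fun i j => by simp [Finsupp.single_apply, eq_comm])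
    (fun i j => sliceL (b.coord i) (Comod.coact (k := k) (A := A) (b j))) (coact_basis b) i j

/-- A submodule closed under comultiplication. -/
abbrev IsSubcoalg (B : Submodule k A) : Prop :=
  ∀ b ∈ B, CoalgebraStruct.comul (R := k) b ∈ LinearMap.range (TensorProduct.map B.subtype B.subtype)

omit [Coalgebra k A] in
theorem tmul_mem_range_map {B B' : Submodule k A} {x y : A} (hx : x ∈ B) (hy : y ∈ B') :
    x ⊗ₜ[k] y ∈ LinearMap.range (TensorProduct.map B.subtype B'.subtype) :=
  ⟨⟨x, hx⟩ ⊗ₜ ⟨y, hy⟩, rfl⟩

theorem isSubcoalg_span {s : Set A}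
    (h : ∀ a ∈ s, CoalgebraStruct.comul (R := k) a ∈
      Submodule.span k {z | ∃ x ∈ Submodule.span k s, ∃ y ∈ Submodule.span k s, x ⊗ₜ[k] y = z}) :
    IsSubcoalg (k := k) (Submodule.span k s) := by
  have hle : Submodule.span k {z | ∃ x ∈ Submodule.span k s, ∃ y ∈ Submodule.span k s, x ⊗ₜ[k] y = z} ≤
      LinearMap.range (TensorProduct.map (Submodule.span k s).subtype (Submodule.span k s).subtype) := by
    rw [Submodule.span_le]
    rintro _ ⟨x, hx, y, hy, rfl⟩
    exact tmul_mem_range_map hx hy
  intro b hb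
  induction hb using Submodule.span_induction with
  | mem x hx => exact hle (h x hx)
  | zero => simp
  | add x y _ _ hx hy => rw [map_add]; exact add_mem hx hy
  | smul c x _ hx => rw [map_smul]; exact Submodule.smul_mem _ c hx

theorem isSubcoalg_span_coeff_basis {ι : Type w'} [Fintype ι] (b : Module.Basis ι k V) :
    IsSubcoalg (k := k) (Submodule.span k (Set.range fun p : ι × ι =>
      sliceL (b.coord p.1) (Comod.coact (k := k) (A := A) (b p.2)))) := by
  refine isSubcoalg_span ?_
  rintro _ ⟨⟨i, j⟩, rfl⟩
  rw [comul_coeff_basis]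
  exact Submodule.sum_mem _ fun l _ => Submodule.subset_span
    ⟨_, Submodule.subset_span ⟨(i, l), rfl⟩, _, Submodule.subset_span ⟨(l, j), rfl⟩, rfl⟩

theorem coeffs_eq_span_basis {ι : Type w'} [Fintype ι] (b : Module.Basis ι k V) :
    coeffs k A V = Submodule.span k (Set.range fun p : ι × ι =>
      sliceL (b.coord p.1) (Comod.coact (k := k) (A := A) (b p.2))) := by
  apply le_antisymm
  · rw [coeffs, Submodule.span_le]
    rintro _ ⟨g, v, rfl⟩
    rw [SetLike.mem_coe, ← b.sum_repr v]
    simp only [map_sum, map_smul]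
    refine Submodule.sum_mem _ fun j _ => Submodule.smul_mem _ _ ?_
    rw [coact_basis b j]
    simp only [map_sum, sliceL_tmul]
    exact Submodule.sum_mem _ fun i _ => Submodule.smul_mem _ _ (Submodule.subset_span ⟨(i, j), rfl⟩)
  · rw [Submodule.span_le]
    rintro _ ⟨⟨i, j⟩, rfl⟩
    exact Submodule.subset_span ⟨_, _, rfl⟩

theorem isSubcoalg_coeffs [Module.Free k V] [Module.Finite k V] : IsSubcoalg (k := k) (coeffs k A V) := by
  classical
  rw [coeffs_eq_span_basis (Module.Free.chooseBasis k V)]
  exact isSubcoalg_span_coeff_basis _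

end Comodules

section Field

variable {k : Type u} [Field k] {A : Type v} [AddCommGroup A] [Module k A] [Coalgebra k A]
  {V : Type w} [AddCommGroup V] [Module k V] [Comod k A V]

/-- A finite-dimensional subcomodule has matrix coefficients with respect to any basis. -/
theorem exists_matCoeff_of_isSubcomod {W : Submodule k V} (hW : IsSubcomod (k := k) (A := A) W)
    {ι : Type w'} [Fintype ι] [DecidableEq ι] (b : Module.Basis ι k W) :
    ∃ m : ι → ι → A, (∀ j, Comod.coact (k := k) (A := A) (b j : V) = ∑ i, (b i : V) ⊗ₜ[k] m i j) ∧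
      (∀ i j, CoalgebraStruct.comul (R := k) (m i j) = ∑ l, m i l ⊗ₜ[k] m l j) ∧
      ∀ i j, CoalgebraStruct.counit (R := k) (m i j) = if i = j then 1 else 0 := by
  choose y hy using fun j => hW (b j : V) (b j).2
  choose g hg using fun i => LinearMap.exists_extend (b.coord i)
  have hge : ∀ i j, g i (b j : V) = if i = j then 1 else 0 := by
    intro i j
    have := LinearMap.congr_fun (hg i) (b j)
    simp only [LinearMap.coe_comp, Function.comp_apply, Submodule.coe_subtype] at this
    simp [this, Finsupp.single_apply, eq_comm]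
  have hm : ∀ j, Comod.coact (k := k) (A := A) (b j : V) =
      ∑ i, (b i : V) ⊗ₜ[k] sliceL (b.coord i) (y j) := by
    intro j
    rw [← hy j]
    conv_lhs => rw [eq_sum_basis_tmul_sliceL b (y j)]
    simp [map_sum]
  exact ⟨_, hm, comul_matCoeff (fun i => (b i : V)) g hge _ hm, counit_matCoeff (fun i => (b i : V)) g hge _ hm⟩

/-- Fundamental theorem of comodules. -/
theorem exists_finite_subcomod {s : Set V} (hs : s.Finite) :
    ∃ W : Submodule k V, Module.Finite k W ∧ s ⊆ W ∧ IsSubcomod (k := k) (A := A) W :=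
  ⟨gen k A s, finite_gen hs, subset_gen s, isSubcomod_gen s⟩

variable (k) in
/-- Fundamental theorem of coalgebras. -/
theorem exists_finite_subcoalg {s : Set A} (hs : s.Finite) :
    ∃ B : Submodule k A, Module.Finite k B ∧ s ⊆ B ∧ IsSubcoalg (k := k) B := by
  classical
  obtain ⟨E, hEf, hsE, hE⟩ := exists_finite_subcomod (k := k) (A := A) (V := A) hs
  let b := Module.Free.chooseBasis k E
  obtain ⟨m, hm, hcm, -⟩ := exists_matCoeff_of_isSubcomod hE b
  refine ⟨Submodule.span k (Set.range fun p : _ × _ => m p.1 p.2),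
    Module.Finite.span_of_finite k (Set.finite_range _), ?_, ?_⟩
  · intro x hx
    have hEle : E ≤ Submodule.span k (Set.range fun p : _ × _ => m p.1 p.2) := by
      intro e he
      have hkey : ∀ j, (b j : A) ∈ Submodule.span k (Set.range fun p : _ × _ => m p.1 p.2) := by
        intro j
        have h2 : CoalgebraStruct.comul (R := k) (b j : A) = ∑ i, (b i : A) ⊗ₜ[k] m i j := hm j
        have := congrArg (TensorProduct.lid k A) (Coalgebra.rTensor_counit_comul (R := k) (b j : A))
        rw [h2] at this
        simp only [map_sum, LinearMap.rTensor_tmul, TensorProduct.lid_tmul, one_smul] at this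
        rw [← this]
        exact Submodule.sum_mem _ fun i _ => Submodule.smul_mem _ _ (Submodule.subset_span ⟨(i, j), rfl⟩)
      have h3 := congrArg Subtype.val (b.sum_repr ⟨e, he⟩)
      simp only [AddSubmonoidClass.coe_finset_sum, SetLike.val_smul] at h3
      rw [← h3]
      exact Submodule.sum_mem _ fun j _ => Submodule.smul_mem _ _ (hkey j)
    exact hEle (hsE hx)
  · refine isSubcoalg_span ?_
    rintro _ ⟨⟨i, j⟩, rfl⟩
    rw [hcm]
    exact Submodule.sum_mem _ fun l _ => Submodule.subset_span
      ⟨_, Submodule.subset_span ⟨(i, l), rfl⟩, _, Submodule.subset_span ⟨(l, j), rfl⟩, rfl⟩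

omit [Coalgebra k A] in
/-- `B ⊗ B` inside `A ⊗ A` is the intersection of `B ⊗ A` and `A ⊗ B`. -/
theorem mem_range_map_subtype_iff (B : Submodule k A) (x : A ⊗[k] A) :
    x ∈ LinearMap.range (TensorProduct.map B.subtype B.subtype) ↔
      (∀ f : A →ₗ[k] k, sliceR f x ∈ B) ∧ (∀ g : A →ₗ[k] k, sliceL g x ∈ B) := by
  constructor
  · rintro ⟨y, rfl⟩
    induction y using TensorProduct.induction_on with
    | zero => simp
    | tmul a b => exact ⟨fun f => by simpa using B.smul_mem _ a.2, fun g => by simpa using B.smul_mem _ b.2⟩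
    | add y z hy hz =>
      exact ⟨fun f => by simpa using add_mem (hy.1 f) (hz.1 f), fun g => by simpa using add_mem (hy.2 g) (hz.2 g)⟩
  · rintro ⟨h1, h2⟩
    obtain ⟨y, hy⟩ := (mem_range_rTensor_subtype_iff B x).2 h1
    have hy' : ∀ f : (↥B) →ₗ[k] k, sliceL f y ∈ B := by
      intro f
      obtain ⟨g, hg⟩ := LinearMap.exists_extend f
      rw [← hg, ← sliceL_rTensor, hy]
      exact h2 g
    let bB := Module.Free.chooseBasis k B
    obtain ⟨z, hz⟩ : y ∈ LinearMap.range (B.subtype.lTensor B) := by
      have hex : Function.Exact (B.subtype.lTensor B) (B.mkQ.lTensor B) :=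
        lTensor_exact B (LinearMap.exact_subtype_mkQ B) B.mkQ_surjective
      refine (hex y).1 ?_
      apply (TensorProduct.equivFinsuppOfBasisLeft bB (N := A ⧸ B)).injective
      ext i
      have : ∀ z : B ⊗[k] (A ⧸ B), TensorProduct.equivFinsuppOfBasisLeft bB z i = sliceL (bB.coord i) z := by
        intro z
        induction z using TensorProduct.induction_on with
        | zero => simp
        | tmul v a => simp
        | add x y hx hy => simp [hx, hy]
      rw [this, sliceL_lTensor, map_zero, Finsupp.zero_apply]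
      exact (Submodule.Quotient.mk_eq_zero B).2 (hy' _)
    refine ⟨z, ?_⟩
    rw [← LinearMap.rTensor_comp_lTensor, LinearMap.comp_apply, hz, hy]

theorem isSubcoalg_inf {B B' : Submodule k A} (h : IsSubcoalg (k := k) B) (h' : IsSubcoalg (k := k) B') :
    IsSubcoalg (k := k) (B ⊓ B') := by
  intro b hb
  rw [mem_range_map_subtype_iff]
  have h1 := (mem_range_map_subtype_iff B _).1 (h b hb.1)
  have h2 := (mem_range_map_subtype_iff B' _).1 (h' b hb.2)
  exact ⟨fun f => ⟨h1.1 f, h2.1 f⟩, fun g => ⟨h1.2 g, h2.2 g⟩⟩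

theorem IsSubcoalg.isSubcomod {B : Submodule k A} (h : IsSubcoalg (k := k) B) :
    IsSubcomod (k := k) (A := A) B := by
  rw [isSubcomod_iff_forall_actL]
  exact fun b hb f => ((mem_range_map_subtype_iff B _).1 (h b hb)).1 f

end Field

theorem isSubcoalg_iSup {k : Type u} [CommRing k] {A : Type v} [AddCommGroup A] [Module k A] [Coalgebra k A]
    {ι : Sort w'} (B : ι → Submodule k A) (h : ∀ i, IsSubcoalg (k := k) (B i)) :
    IsSubcoalg (k := k) (⨆ i, B i) := by
  intro b hb
  induction hb using Submodule.iSup_induction' with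
  | mem i x hx =>
    obtain ⟨y, hy⟩ := h i x hx
    refine ⟨TensorProduct.map (Submodule.inclusion (le_iSup B i)) (Submodule.inclusion (le_iSup B i)) y, ?_⟩
    rw [← LinearMap.comp_apply, ← TensorProduct.map_comp]
    exact hy
  | zero => simp
  | add x y _ _ hx hy => rw [map_add]; exact add_mem hx hy

end

end Groth.Agent.H20Comod
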