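import Groth.Agent.H20Comod.Reynolds
import Groth.Prelude.Def_W4c1tameactTame

/-!
Relative Hopf modules, total integrals and the Reynolds map.
-/

set_option autoImplicit false

universe u v w w' w''

open TensorProduct HopfRep WithConv

namespace Groth.Agent.H20Comod

noncomputable section

variable {k : Type u} [CommRing k] {A : Type v} [CommRing A] [HopfAlgebra k A]

section Shear

variable {M : Type w'} [AddCommGroup M] [Module k M] [Comod k A M]

variable (M) in
/-- `m ⊗ a ↦ ∑ m₀ ⊗ g m₁ * a`. -/
def shear (g : A →ₗ[k] A) : M ⊗[k] A →ₗ[k] M ⊗[k] A :=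
  (LinearMap.mul' k A).lTensor M ∘ₗ (TensorProduct.assoc k M A A).toLinearMap ∘ₗ
    (g.lTensor M ∘ₗ Comod.coact (k := k) (A := A)).rTensor A

theorem shear_tmul (g : A →ₗ[k] A) (m : M) (a : A) :
    shear M g (m ⊗ₜ a) = (LinearMap.mulRight k a ∘ₗ g).lTensor M (Comod.coact (k := k) (A := A) m) := by
  simp only [shear, LinearMap.coe_comp, Function.comp_apply, LinearMap.rTensor_tmul, LinearEquiv.coe_coe]
  generalize Comod.coact (k := k) (A := A) m = z
  induction z using TensorProduct.induction_on with
  | zero => simp
  | tmul x c => simp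
  | add u v hu hv => simp only [TensorProduct.add_tmul, map_add, hu, hv]

theorem shear_shear_tmul (g h : A →ₗ[k] A) (m : M) (a : A) :
    shear M g (shear M h (m ⊗ₜ a)) =
      (LinearMap.mulRight k a ∘ₗ LinearMap.mul' k A ∘ₗ TensorProduct.map g h ∘ₗ CoalgebraStruct.comul).lTensor M
        (Comod.coact (k := k) (A := A) m) := by
  have hc := LinearMap.congr_fun (Comod.coassoc (k := k) (A := A) (V := M)) m
  simp only [LinearMap.coe_comp, Function.comp_apply, LinearEquiv.coe_coe] at hc
  rw [shear_tmul]
  simp only [LinearMap.lTensor_comp, LinearMap.coe_comp, Function.comp_apply]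
  rw [← hc]
  generalize Comod.coact (k := k) (A := A) m = z
  induction z using TensorProduct.induction_on with
  | zero => simp
  | tmul x c =>
    simp only [LinearMap.lTensor_tmul, shear_tmul, LinearMap.rTensor_tmul]
    generalize Comod.coact (k := k) (A := A) x = y
    induction y using TensorProduct.induction_on with
    | zero => simp
    | tmul p b => simp [mul_assoc]
    | add u v hu hv => simp only [TensorProduct.add_tmul, map_add, hu, hv]
  | add u v hu hv => simp only [map_add, hu, hv]

theorem shear_unit_tmul (m : M) (a : A) :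
    (LinearMap.mulRight k a ∘ₗ (Algebra.linearMap k A ∘ₗ CoalgebraStruct.counit)).lTensor M
      (Comod.coact (k := k) (A := A) m) = m ⊗ₜ a := by
  have hc := LinearMap.congr_fun (Comod.counit_comp (k := k) (A := A) (V := M)) m
  simp only [LinearMap.coe_comp, Function.comp_apply, LinearMap.flip_apply, TensorProduct.mk_apply] at hc
  rw [← LinearMap.comp_assoc, LinearMap.lTensor_comp, LinearMap.comp_apply, hc]
  simp

theorem shear_id_shear_antipode (z : M ⊗[k] A) :
    shear M LinearMap.id (shear M (HopfAlgebra.antipode k) z) = z := by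
  induction z using TensorProduct.induction_on with
  | zero => simp
  | tmul m a =>
    rw [shear_shear_tmul, show LinearMap.mul' k A ∘ₗ TensorProduct.map LinearMap.id (HopfAlgebra.antipode k) ∘ₗ
      CoalgebraStruct.comul = Algebra.linearMap k A ∘ₗ CoalgebraStruct.counit from
      HopfAlgebra.mul_antipode_lTensor_comul, shear_unit_tmul]
  | add u v hu hv => simp only [map_add, hu, hv]

theorem shear_antipode_shear_id (z : M ⊗[k] A) :
    shear M (HopfAlgebra.antipode k) (shear M LinearMap.id z) = z := by
  induction z using TensorProduct.induction_on with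
  | zero => simp
  | tmul m a =>
    rw [shear_shear_tmul, show LinearMap.mul' k A ∘ₗ TensorProduct.map (HopfAlgebra.antipode k) LinearMap.id ∘ₗ
      CoalgebraStruct.comul = Algebra.linearMap k A ∘ₗ CoalgebraStruct.counit from
      HopfAlgebra.mul_antipode_rTensor_comul, shear_unit_tmul]
  | add u v hu hv => simp only [map_add, hu, hv]

variable (k A M) in
/-- The diagonal coaction on `M ⊗ A`. -/
def diagCoact : M ⊗[k] A →ₗ[k] (M ⊗[k] A) ⊗[k] A :=
  (LinearMap.mul' k A).lTensor (M ⊗[k] A) ∘ₗ
    (TensorProduct.tensorTensorTensorComm k M A A A).toLinearMap ∘ₗ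
      TensorProduct.map (Comod.coact (k := k) (A := A)) CoalgebraStruct.comul

theorem shear_id_rTensor_diagCoact (z : M ⊗[k] A) :
    (shear M LinearMap.id).rTensor A (diagCoact k A M z) =
      (TensorProduct.assoc k M A A).symm ((CoalgebraStruct.comul (R := k)).lTensor M (shear M LinearMap.id z)) := by
  induction z using TensorProduct.induction_on with
  | zero => simp
  | tmul m a =>
    have hc := LinearMap.congr_fun (Comod.coassoc (k := k) (A := A) (V := M)) m
    simp only [LinearMap.coe_comp, Function.comp_apply, LinearEquiv.coe_coe] at hc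
    have h1 : (CoalgebraStruct.comul (R := k)).lTensor M (shear M LinearMap.id (m ⊗ₜ a)) =
        (LinearMap.mulRight k (CoalgebraStruct.comul (R := k) a)).lTensor M
          ((CoalgebraStruct.comul (R := k)).lTensor M (Comod.coact (k := k) (A := A) m)) := by
      rw [shear_tmul]
      generalize Comod.coact (k := k) (A := A) m = y
      induction y using TensorProduct.induction_on with
      | zero => simp
      | tmul x c => simp
      | add u v hu hv => simp only [map_add, hu, hv]
    rw [h1, ← hc]
    simp only [diagCoact, LinearMap.coe_comp, Function.comp_apply, TensorProduct.map_tmul, LinearEquiv.coe_coe]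
    generalize CoalgebraStruct.comul (R := k) a = t
    generalize Comod.coact (k := k) (A := A) m = y
    induction y using TensorProduct.induction_on with
    | zero => simp
    | tmul x c =>
      induction t using TensorProduct.induction_on with
      | zero => simp
      | tmul p q =>
        simp only [TensorProduct.tensorTensorTensorComm_tmul, LinearMap.lTensor_tmul, LinearMap.mul'_apply,
          LinearMap.rTensor_tmul, shear_tmul, LinearMap.comp_id]
        generalize Comod.coact (k := k) (A := A) x = w
        induction w using TensorProduct.induction_on with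
        | zero => simp
        | tmul y b => simp
        | add u v hu hv => simp only [TensorProduct.add_tmul, map_add, hu, hv]
      | add u v hu hv =>
        simp only [TensorProduct.tmul_add, map_add, hu, hv]
        generalize (TensorProduct.assoc k M A A) (Comod.coact.rTensor A (x ⊗ₜ[k] c)) = w
        induction w using TensorProduct.induction_on with
        | zero => simp
        | tmul y b => simp [mul_add, TensorProduct.tmul_add]
        | add u v hu hv => simp only [map_add, ← hu, ← hv]; abel
    | add u v hu hv => simp only [TensorProduct.add_tmul, map_add, hu, hv]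
  | add u v hu hv => simp only [map_add, hu, hv]

theorem shear_antipode_rTensor_comul (z : M ⊗[k] A) :
    (shear M (HopfAlgebra.antipode k)).rTensor A
        ((TensorProduct.assoc k M A A).symm ((CoalgebraStruct.comul (R := k)).lTensor M z)) =
      diagCoact k A M (shear M (HopfAlgebra.antipode k) z) := by
  conv_lhs => rw [← shear_id_shear_antipode (M := M) z]
  rw [← shear_id_rTensor_diagCoact, ← LinearMap.comp_apply, ← LinearMap.rTensor_comp,
    show shear M (HopfAlgebra.antipode k) ∘ₗ shear M LinearMap.id = (LinearMap.id : M ⊗[k] A →ₗ[k] M ⊗[k] A)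
      from LinearMap.ext shear_antipode_shear_id, LinearMap.rTensor_id, LinearMap.id_apply]

end Shear

section HopfMod

variable {B : Type w} [CommRing B] [Algebra k B] [Comod k A B]
  {M : Type w'} [AddCommGroup M] [Module k M] [Module B M] [IsScalarTower k B M] [Comod k A M]
  [TameAct.IsHopfMod k A B M]

omit [Comod k A B] [TameAct.IsHopfMod k A B M] in
theorem reynolds_tmul_eq (α : A →ₗ[k] B) (m : M) :
    TameAct.reynolds k A B M α m = TensorProduct.lift
      (LinearMap.mk₂ k (fun x c => α (HopfAlgebra.antipode k c) • x)
        (fun x x' c => smul_add _ x x') (fun r x c => smul_comm _ r x)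
        (fun x c c' => by rw [map_add, map_add, add_smul]) (fun r x c => by rw [map_smul, map_smul, smul_assoc]))
      (Comod.coact (k := k) (A := A) m) := by
  show TensorProduct.lift _ _ = _
  congr 1

variable (M) in
/-- `m ⊗ a ↦ α a • m`. -/
def evalSMul (α : A →ₗ[k] B) : M ⊗[k] A →ₗ[k] M :=
  TensorProduct.lift ((Algebra.lsmul k k M : B →ₐ[k] Module.End k M).toLinearMap ∘ₗ α).flip

omit [Comod k A B] [Comod k A M] [TameAct.IsHopfMod k A B M] in
@[simp] theorem evalSMul_tmul (α : A →ₗ[k] B) (m : M) (a : A) : evalSMul M α (m ⊗ₜ a) = α a • m := rfl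

theorem coact_apply_of_hom {α : A →ₗ[k] B} (hα : Hoch.IsComodHom A α) (x : A) :
    Comod.coact (k := k) (A := A) (α x) = α.rTensor A (CoalgebraStruct.comul (R := k) x) :=
  LinearMap.congr_fun hα x

theorem coact_evalSMul {α : A →ₗ[k] B} (hα : Hoch.IsComodHom A α) (z : M ⊗[k] A) :
    Comod.coact (k := k) (A := A) (evalSMul M α z) = (evalSMul M α).rTensor A (diagCoact k A M z) := by
  induction z using TensorProduct.induction_on with
  | zero => simp
  | tmul m a =>
    rw [evalSMul_tmul, TameAct.IsHopfMod.coact_smul, coact_apply_of_hom hα]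
    simp only [diagCoact, LinearMap.coe_comp, Function.comp_apply, TensorProduct.map_tmul, LinearEquiv.coe_coe]
    generalize CoalgebraStruct.comul (R := k) a = t
    generalize Comod.coact (k := k) (A := A) m = y
    induction y using TensorProduct.induction_on with
    | zero => simp
    | tmul x c =>
      induction t using TensorProduct.induction_on with
      | zero => simp
      | tmul p q => simp [mul_comm c q]
      | add u v hu hv => simp only [TensorProduct.tmul_add, map_add, LinearMap.add_apply, hu, hv]
    | add u v hu hv => simp only [TensorProduct.add_tmul, map_add, hu, hv]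
  | add u v hu hv => simp only [map_add, hu, hv]

variable (M) in
/-- `m ⊗ a ↦ ∑ α (S m₁ · a) • m₀`. -/
def lam (α : A →ₗ[k] B) : M ⊗[k] A →ₗ[k] M := evalSMul M α ∘ₗ shear M (HopfAlgebra.antipode k)

omit [Comod k A B] [TameAct.IsHopfMod k A B M] in
theorem lam_tmul_one (α : A →ₗ[k] B) (m : M) : lam M α (m ⊗ₜ 1) = TameAct.reynolds k A B M α m := by
  rw [lam, LinearMap.comp_apply, shear_tmul, reynolds_tmul_eq]
  generalize Comod.coact (k := k) (A := A) m = z
  induction z using TensorProduct.induction_on with
  | zero => simp
  | tmul x c => simp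
  | add u v hu hv => simp only [map_add, hu, hv]

theorem coact_lam {α : A →ₗ[k] B} (hα : Hoch.IsComodHom A α) (z : M ⊗[k] A) :
    Comod.coact (k := k) (A := A) (lam M α z) = (lam M α).rTensor A
      ((TensorProduct.assoc k M A A).symm ((CoalgebraStruct.comul (R := k)).lTensor M z)) := by
  rw [lam, LinearMap.comp_apply, coact_evalSMul hα, LinearMap.rTensor_comp, LinearMap.comp_apply,
    shear_antipode_rTensor_comul]

theorem coact_lam_tmul {α : A →ₗ[k] B} (hα : Hoch.IsComodHom A α) (m : M) (a : A) :
    Comod.coact (k := k) (A := A) (lam M α (m ⊗ₜ a)) = (lam M α).rTensor A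
      ((TensorProduct.assoc k M A A).symm (m ⊗ₜ CoalgebraStruct.comul (R := k) a)) :=
  coact_lam hα _

omit [Comod k A B] [TameAct.IsHopfMod k A B M] in
theorem lam_coact {α : A →ₗ[k] B} (h1 : α 1 = 1) (m : M) :
    lam M α (Comod.coact (k := k) (A := A) m) = m := by
  rw [lam, LinearMap.comp_apply, show Comod.coact (k := k) (A := A) m = shear M LinearMap.id (m ⊗ₜ 1) by
    rw [shear_tmul, LinearMap.comp_id, LinearMap.mulRight_one, LinearMap.lTensor_id, LinearMap.id_apply],
    shear_antipode_shear_id, evalSMul_tmul, h1, one_smul]

theorem reynolds_mem_fixedPts {α : A →ₗ[k] B} (hα : Hoch.IsComodHom A α) (m : M) :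
    TameAct.reynolds k A B M α m ∈ fixedPts k A M := by
  show Comod.coact (k := k) (A := A) (TameAct.reynolds k A B M α m) = _
  rw [← lam_tmul_one, coact_lam_tmul hα, Bialgebra.comul_one, Algebra.TensorProduct.one_def,
    TensorProduct.assoc_symm_tmul, LinearMap.rTensor_tmul]

omit [Comod k A B] [TameAct.IsHopfMod k A B M] in
theorem reynolds_eq_self {α : A →ₗ[k] B} (h1 : α 1 = 1) {m : M} (hm : m ∈ fixedPts k A M) :
    TameAct.reynolds k A B M α m = m := by
  rw [TameAct.reynolds_apply_of_coact_eq k A B M α m m 1 hm, HopfAlgebra.antipode_one, h1, one_smul]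

omit [Comod k A B] [TameAct.IsHopfMod k A B M] in
theorem reynolds_map {N : Type w''} [AddCommGroup N] [Module k N] [Module B N] [IsScalarTower k B N]
    [Comod k A N] (α : A →ₗ[k] B) (f : M →ₗ[B] N) (hf : Hoch.IsComodHom A (f.restrictScalars k)) (m : M) :
    TameAct.reynolds k A B N α (f m) = f (TameAct.reynolds k A B M α m) := by
  rw [reynolds_tmul_eq, reynolds_tmul_eq,
    show Comod.coact (k := k) (A := A) (f m) = (f.restrictScalars k).rTensor A (Comod.coact (k := k) (A := A) m)
      from LinearMap.congr_fun hf m]
  generalize Comod.coact (k := k) (A := A) m = z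
  induction z using TensorProduct.induction_on with
  | zero => simp
  | tmul x c => simp
  | add u v hu hv => simp only [map_add, hu, hv]

theorem coact_smul_of_fixed {b : B} (hb : b ∈ fixedPts k A B) (m : M) :
    Comod.coact (k := k) (A := A) (b • m) =
      (DistribSMul.toLinearMap k M b).rTensor A (Comod.coact (k := k) (A := A) m) := by
  rw [TameAct.IsHopfMod.coact_smul, show Comod.coact (k := k) (A := A) b = b ⊗ₜ[k] (1 : A) from hb]
  generalize Comod.coact (k := k) (A := A) m = z
  induction z using TensorProduct.induction_on with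
  | zero => simp
  | tmul x c => simp
  | add u v hu hv => simp only [map_add, hu, hv]

theorem reynolds_smul_of_fixed (α : A →ₗ[k] B) {b : B} (hb : b ∈ fixedPts k A B) (m : M) :
    TameAct.reynolds k A B M α (b • m) = b • TameAct.reynolds k A B M α m := by
  rw [reynolds_tmul_eq, reynolds_tmul_eq, coact_smul_of_fixed hb]
  generalize Comod.coact (k := k) (A := A) m = z
  induction z using TensorProduct.induction_on with
  | zero => simp
  | tmul x c =>
    simp only [LinearMap.rTensor_tmul, TensorProduct.lift.tmul, LinearMap.mk₂_apply, DistribSMul.toLinearMap_apply]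
    exact smul_comm _ _ _
  | add u v hu hv => simp only [map_add, hu, hv, smul_add]

theorem smul_mem_fixedPts {b : B} (hb : b ∈ fixedPts k A B) {m : M} (hm : m ∈ fixedPts k A M) :
    b • m ∈ fixedPts k A M := by
  show Comod.coact (k := k) (A := A) (b • m) = _
  rw [coact_smul_of_fixed hb, show Comod.coact (k := k) (A := A) m = m ⊗ₜ[k] (1 : A) from hm,
    LinearMap.rTensor_tmul]
  rfl

end HopfMod

/-- An algebra with an action is a relative Hopf module over itself. -/
theorem isHopfMod_self {A : Type v} [CommRing A] [Bialgebra k A] {B : Type w} [CommRing B] [Algebra k B]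
    [Comod k A B] [GLin.IsCoactAlg k A B] : TameAct.IsHopfMod k A B B where
  coact_smul b m := by
    rw [smul_eq_mul, GLin.IsCoactAlg.coact_mul]
    generalize Comod.coact (k := k) (A := A) b = x
    generalize Comod.coact (k := k) (A := A) m = y
    induction x using TensorProduct.induction_on with
    | zero => simp
    | tmul p q =>
      induction y using TensorProduct.induction_on with
      | zero => simp
      | tmul r s => simp [Algebra.TensorProduct.tmul_mul_tmul]
      | add u v hu hv => simp only [map_add, mul_add, hu, hv]
    | add u v hu hv => simp only [map_add, LinearMap.add_apply, add_mul, hu, hv]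

section Trivial

variable {k : Type u} [CommRing k] {A : Type v} [CommRing A] [Bialgebra k A]
  {B : Type w} [CommRing B] [Algebra k B] [Comod k A B] [GLin.IsCoactAlg k A B]

theorem isComodHom_algebraMap_comp {α₀ : A →ₗ[k] k}
    (h : ∀ a, α₀.rTensor A (CoalgebraStruct.comul (R := k) a) = α₀ a ⊗ₜ[k] (1 : A)) :
    Hoch.IsComodHom A (Algebra.linearMap k B ∘ₗ α₀) := by
  apply LinearMap.ext
  intro a
  show Comod.coact (k := k) (A := A) (algebraMap k B (α₀ a)) =
    (Algebra.linearMap k B ∘ₗ α₀).rTensor A (CoalgebraStruct.comul (R := k) a)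
  rw [LinearMap.rTensor_comp, LinearMap.comp_apply, h, LinearMap.rTensor_tmul]
  exact (GLin.invariants k A B).algebraMap_mem (α₀ a)

theorem rTensor_comul_eq_of_isIntegral {α₀ : A →ₗ[k] k}
    (h : ∀ a, sliceL α₀ (CoalgebraStruct.comul (R := k) a) = α₀ a • (1 : A)) (a : A) :
    α₀.rTensor A (CoalgebraStruct.comul (R := k) a) = α₀ a ⊗ₜ[k] (1 : A) := by
  apply (TensorProduct.lid k A).injective
  rw [TensorProduct.lid_tmul, ← h a]
  generalize CoalgebraStruct.comul (R := k) a = z
  induction z using TensorProduct.induction_on with
  | zero => simp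
  | tmul p q => simp
  | add u v hu hv => simp only [map_add, hu, hv]

end Trivial

end

end Groth.Agent.H20Comod
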