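import Groth.Agent.H20Comod.LinRed
import Groth.Agent.H20Comod.Tame
import Groth.Prelude.Def_ComodTens

/-!
The Reynolds operator of a linearly reductive group: the action of the normalised integral.
-/

set_option autoImplicit false

universe u v w w' w''

open TensorProduct HopfRep

namespace Groth.Agent.H20Comod

noncomputable section

variable {k : Type u} [CommRing k] {A : Type v} [CommRing A] [HopfAlgebra k A]

theorem antipode_antipode (a : A) : HopfAlgebra.antipode k (HopfAlgebra.antipode k a) = a :=
  DFunLike.congr_fun (congrArg WithConv.ofConv (inv_inv (WithConv.toConv (AlgHom.id k A)))) a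

theorem sliceR_comp_antipode_comul {α : A →ₗ[k] k} (hα : IsIntegral α) (a : A) :
    sliceR (α ∘ₗ HopfAlgebra.antipode k) (CoalgebraStruct.comul (R := k) a) =
      α (HopfAlgebra.antipode k a) • (1 : A) := by
  have h := congrArg (HopfAlgebra.antipode k) (hα (HopfAlgebra.antipode k a))
  rw [map_smul, HopfAlgebra.antipode_one, comul_antipode] at h
  refine Eq.trans ?_ h
  generalize CoalgebraStruct.comul (R := k) a = z
  induction z using TensorProduct.induction_on with
  | zero => simp
  | tmul p q =>
    simp only [sliceR_tmul, LinearMap.coe_comp, Function.comp_apply, TensorProduct.comm_tmul, TensorProduct.map_tmul,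
      sliceL_tmul, map_smul, antipode_antipode]
  | add u v hu hv => simp only [map_add, hu, hv]

theorem apply_sliceL_eq_apply_sliceR (f g : A →ₗ[k] k) (z : A ⊗[k] A) : g (sliceL f z) = f (sliceR g z) := by
  induction z using TensorProduct.induction_on with
  | zero => simp
  | tmul p q => simp [mul_comm]
  | add u v hu hv => simp only [map_add, hu, hv]

theorem comp_antipode_eq_self {α : A →ₗ[k] k} (hα : IsIntegral α) (h1 : α 1 = 1) :
    α ∘ₗ HopfAlgebra.antipode k = α := by
  apply LinearMap.ext
  intro a
  have h := apply_sliceL_eq_apply_sliceR α (α ∘ₗ HopfAlgebra.antipode k) (CoalgebraStruct.comul (R := k) a)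
  rw [hα, sliceR_comp_antipode_comul hα] at h
  simpa [h1] using h.symm

theorem sliceR_comul_eq {α : A →ₗ[k] k} (hα : IsIntegral α) (h1 : α 1 = 1) (a : A) :
    sliceR α (CoalgebraStruct.comul (R := k) a) = α a • (1 : A) := by
  have h := sliceR_comp_antipode_comul hα a
  rwa [← LinearMap.comp_apply α, comp_antipode_eq_self hα h1] at h

section Module

variable {V : Type w} [AddCommGroup V] [Module k V] [Comod k A V]

theorem actL_mem_fixedPts {α : A →ₗ[k] k} (hα : IsIntegral α) (h1 : α 1 = 1) (v : V) :
    actL α v ∈ fixedPts k A V := by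
  show Comod.coact (k := k) (A := A) (actL α v) = _
  rw [coact_actL, actL_apply]
  generalize Comod.coact (k := k) (A := A) v = z
  induction z using TensorProduct.induction_on with
  | zero => simp
  | tmul x a =>
    rw [LinearMap.lTensor_tmul, sliceR_tmul,
      show actL α a = α a • (1 : A) from sliceR_comul_eq hα h1 a, TensorProduct.smul_tmul]
  | add u v hu hv => simp only [map_add, TensorProduct.add_tmul, hu, hv]

theorem actL_eq_self_of_fixed {α : A →ₗ[k] k} (h1 : α 1 = 1) {v : V} (hv : v ∈ fixedPts k A V) :
    actL α v = v := by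
  rw [actL_apply, show Comod.coact (k := k) (A := A) v = v ⊗ₜ[k] (1 : A) from hv, sliceR_tmul, h1, one_smul]

omit [Comod k A V] in
theorem actL_natural {k : Type u} [CommRing k] {A : Type v} [AddCommGroup A] [Module k A] [Coalgebra k A]
    {V : Type w} [AddCommGroup V] [Module k V] [Comod k A V] {W : Type w'} [AddCommGroup W] [Module k W]
    [Comod k A W] (f : V →ₗ[k] W) (hf : Hoch.IsComodHom A f) (α : A →ₗ[k] k) (v : V) :
    f (actL α v) = actL α (f v) := by
  rw [actL_apply, actL_apply, show Comod.coact (k := k) (A := A) (f v) =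
    f.rTensor A (Comod.coact (k := k) (A := A) v) from LinearMap.congr_fun hf v, sliceR_rTensor]

theorem isComodHom_actL {α : A →ₗ[k] k} (hα : IsIntegral α) (h1 : α 1 = 1) :
    Hoch.IsComodHom A (actL α : V →ₗ[k] V) := by
  apply LinearMap.ext
  intro v
  show Comod.coact (k := k) (A := A) (actL α v) = (actL α).rTensor A (Comod.coact (k := k) (A := A) v)
  rw [show Comod.coact (k := k) (A := A) (actL α v) = actL α v ⊗ₜ[k] (1 : A) from actL_mem_fixedPts hα h1 v,
    actL, LinearMap.comp_apply, LinearMap.rTensor_comp, LinearMap.comp_apply]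
  have hco := LinearMap.congr_fun (Comod.coassoc (k := k) (A := A) (V := V)) v
  simp only [LinearMap.coe_comp, Function.comp_apply, LinearEquiv.coe_coe] at hco
  have key : ∀ w : (V ⊗[k] A) ⊗[k] A, (sliceR α : V ⊗[k] A →ₗ[k] V).rTensor A w =
      (sliceL α : A ⊗[k] A →ₗ[k] A).lTensor V (TensorProduct.assoc k V A A w) := by
    intro w
    induction w using TensorProduct.induction_on with
    | zero => simp
    | tmul x a =>
      induction x using TensorProduct.induction_on with
      | zero => simp
      | tmul p b => simp [TensorProduct.smul_tmul]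
      | add u v hu hv => simp only [TensorProduct.add_tmul, map_add, hu, hv]
    | add u v hu hv => simp only [map_add, hu, hv]
  rw [key, hco]
  generalize Comod.coact (k := k) (A := A) v = z
  induction z using TensorProduct.induction_on with
  | zero => simp
  | tmul x a => rw [LinearMap.lTensor_tmul, LinearMap.lTensor_tmul, hα, sliceR_tmul, TensorProduct.smul_tmul]
  | add u v hu hv => simp only [map_add, TensorProduct.add_tmul, hu, hv]

theorem existsUnique_isComodHom_idempotent {α : A →ₗ[k] k} (hα : IsIntegral α) (h1 : α 1 = 1)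
    {E : V →ₗ[k] V} (hE₁ : Hoch.IsComodHom A E) (hE₂ : E ∘ₗ E = E)
    (hE₃ : ∀ x : V, E x = x ↔ x ∈ fixedPts k A V) : E = actL α := by
  apply LinearMap.ext
  intro v
  calc E v = actL α (E v) := (actL_eq_self_of_fixed h1 ((hE₃ _).1 (LinearMap.congr_fun hE₂ v))).symm
    _ = E (actL α v) := (actL_natural E hE₁ α v).symm
    _ = actL α v := (hE₃ _).2 (actL_mem_fixedPts hα h1 v)

theorem exists_fixed_preimage {α : A →ₗ[k] k} (hα : IsIntegral α) (h1 : α 1 = 1)
    {W : Type w'} [AddCommGroup W] [Module k W] [Comod k A W] (f : V →ₗ[k] W) (hf : Hoch.IsComodHom A f)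
    (hs : Function.Surjective f) {y : W} (hy : y ∈ fixedPts k A W) : ∃ v ∈ fixedPts k A V, f v = y := by
  obtain ⟨v, rfl⟩ := hs y
  exact ⟨actL α v, actL_mem_fixedPts hα h1 v, (actL_natural f hf α v).trans (actL_eq_self_of_fixed h1 hy)⟩

variable {B : Type w''} [CommRing B] [Algebra k B] [Comod k A B] [Module B V] [IsScalarTower k B V]
  [TameAct.IsHopfMod k A B V]

theorem actL_smul_of_fixed (α : A →ₗ[k] k) {b : B} (hb : b ∈ fixedPts k A B) (v : V) :
    actL α (b • v) = b • actL α v := by
  rw [actL_apply, coact_smul_of_fixed hb, sliceR_rTensor, actL_apply]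
  rfl

end Module

section Alg

variable {R : Type w} [CommRing R] [Algebra k R] [Comod k A R] [GLin.IsCoactAlg k A R]

theorem actL_mul_of_fixed (α : A →ₗ[k] k) {b : R} (hb : b ∈ GLin.invariants k A R) (x : R) :
    actL α (b * x) = b * actL α x := by
  have := isHopfMod_self (k := k) (A := A) (B := R)
  exact actL_smul_of_fixed α hb x

/-- The Reynolds operator on an algebra, valued in the invariants, as a map of modules over the invariants. -/
def reynoldsInv {α : A →ₗ[k] k} (hα : IsIntegral α) (h1 : α 1 = 1) :
    R →ₗ[GLin.invariants k A R] GLin.invariants k A R where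
  toFun x := ⟨actL α x, actL_mem_fixedPts hα h1 x⟩
  map_add' x y := Subtype.ext (map_add _ x y)
  map_smul' b x := Subtype.ext (actL_mul_of_fixed α b.2 x)

theorem reynoldsInv_coe {α : A →ₗ[k] k} (hα : IsIntegral α) (h1 : α 1 = 1) (b : GLin.invariants k A R) :
    reynoldsInv hα h1 (b : R) = b :=
  Subtype.ext (actL_eq_self_of_fixed h1 b.2)

theorem coe_reynoldsInv {α : A →ₗ[k] k} (hα : IsIntegral α) (h1 : α 1 = 1) (x : R) :
    (reynoldsInv hα h1 x : R) = actL α x := rfl

theorem comap_map_invariants_eq {α : A →ₗ[k] k} (hα : IsIntegral α) (h1 : α 1 = 1)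
    (I : Ideal (GLin.invariants k A R)) :
    (I.map (algebraMap (GLin.invariants k A R) R)).comap (algebraMap (GLin.invariants k A R) R) = I := by
  refine le_antisymm (fun x hx => ?_) Ideal.le_comap_map
  have hx' : algebraMap (GLin.invariants k A R) R x ∈ I • (⊤ : Submodule (GLin.invariants k A R) R) := by
    rw [Ideal.smul_top_eq_map]
    exact hx
  have key : reynoldsInv hα h1 (algebraMap (GLin.invariants k A R) R x) ∈ I := by
    refine Submodule.smul_induction_on hx' (fun r hr m _ => ?_) (fun u v hu hv => ?_)
    · rw [map_smul]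
      exact I.mul_mem_right _ hr
    · rw [map_add]
      exact add_mem hu hv
  rwa [show algebraMap (GLin.invariants k A R) R x = (x : R) from rfl, reynoldsInv_coe] at key

theorem isNoetherianRing_invariants [IsNoetherianRing R] {α : A →ₗ[k] k} (hα : IsIntegral α) (h1 : α 1 = 1) :
    IsNoetherianRing ↥(GLin.invariants k A R) := by
  rw [isNoetherianRing_iff, isNoetherian_iff']
  refine StrictMono.wellFoundedGT (f := Ideal.map (algebraMap (GLin.invariants k A R) R))
    (Monotone.strictMono_of_injective (fun _ _ h => Ideal.map_mono h)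
      (Function.LeftInverse.injective (comap_map_invariants_eq hα h1)))

omit [GLin.IsCoactAlg k A R] in
theorem actL_smul_fixed {M : Type w'} [AddCommGroup M] [Module k M] [Module R M] [IsScalarTower k R M]
    [Comod k A M] [TameAct.IsHopfMod k A R M] (α : A →ₗ[k] k) (a : R) {m : M} (hm : m ∈ fixedPts k A M) :
    actL α (a • m) = actL α a • m := by
  rw [actL_apply, TameAct.IsHopfMod.coact_smul, show Comod.coact (k := k) (A := A) m = m ⊗ₜ[k] (1 : A) from hm,
    actL_apply]
  generalize Comod.coact (k := k) (A := A) a = z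
  induction z using TensorProduct.induction_on with
  | zero => simp
  | tmul x c => simp [smul_assoc]
  | add u v hu hv => simp only [map_add, LinearMap.add_apply, add_smul, hu, hv]

theorem exists_finset_span_fixedPts [IsNoetherianRing R] {α : A →ₗ[k] k} (hα : IsIntegral α) (h1 : α 1 = 1)
    {M : Type w'} [AddCommGroup M] [Module k M] [Module R M] [IsScalarTower k R M] [Module.Finite R M]
    [Comod k A M] [TameAct.IsHopfMod k A R M] :
    ∃ s : Finset M, (↑s : Set M) ⊆ ↑(fixedPts k A M) ∧
      (↑(fixedPts k A M) : Set M) ⊆ ↑(Submodule.span ↥(GLin.invariants k A R) (↑s : Set M)) := by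
  classical
  obtain ⟨s, hs, hspan⟩ := (Submodule.fg_span_iff_fg_span_finset_subset (R := R) (fixedPts k A M : Set M)).1
    (IsNoetherian.noetherian _)
  refine ⟨s, hs, fun x hx => ?_⟩
  have hx' : x ∈ Submodule.span R (s : Set M) := hspan ▸ Submodule.subset_span hx
  rw [SetLike.mem_coe, ← actL_eq_self_of_fixed h1 hx]
  clear hx
  rw [Submodule.mem_span_finset'] at hx'
  obtain ⟨c, rfl⟩ := hx'
  rw [map_sum]
  refine Submodule.sum_mem _ fun i _ => ?_
  rw [actL_smul_fixed α (c i) (hs i.2)]
  exact Submodule.smul_mem _ (⟨actL α (c i), actL_mem_fixedPts hα h1 _⟩ : GLin.invariants k A R)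
    (Submodule.subset_span i.2)

/-- The transporter of one stable ideal into another is stable. -/
theorem coact_mem_range_of_forall_mul_mem {I J : Ideal R}
    (hI : IsSubcomod (k := k) (A := A) (I.restrictScalars k))
    (hJ : IsSubcomod (k := k) (A := A) (J.restrictScalars k)) {b : R} (hb : ∀ y ∈ I, b * y ∈ J)
    {y : R} (hy : y ∈ I) :
    Comod.coact (k := k) (A := A) b * (y ⊗ₜ[k] (1 : A)) ∈
      LinearMap.range ((J.restrictScalars k).subtype.rTensor A) := by
  have hmul : ∀ (x : R ⊗[k] A) (a : A), x ∈ LinearMap.range ((J.restrictScalars k).subtype.rTensor A) →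
      x * ((1 : R) ⊗ₜ[k] a) ∈ LinearMap.range ((J.restrictScalars k).subtype.rTensor A) := by
    rintro _ a ⟨z, rfl⟩
    refine ⟨(LinearMap.mulRight k a).lTensor _ z, ?_⟩
    induction z using TensorProduct.induction_on with
    | zero => simp
    | tmul p q => simp
    | add u v hu hv => simp only [map_add, add_mul, hu, hv]
  have hgen : ∀ z : ↥(I.restrictScalars k) ⊗[k] A, Comod.coact (k := k) (A := A) b *
      shear R LinearMap.id ((I.restrictScalars k).subtype.rTensor A z) ∈
      LinearMap.range ((J.restrictScalars k).subtype.rTensor A) := by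
    intro z
    induction z using TensorProduct.induction_on with
    | zero => simp
    | tmul x a =>
      have e : shear R LinearMap.id ((x : R) ⊗ₜ[k] a) = Comod.coact (k := k) (A := A) (x : R) * ((1 : R) ⊗ₜ[k] a) := by
        rw [shear_tmul]
        generalize Comod.coact (k := k) (A := A) (x : R) = w
        induction w using TensorProduct.induction_on with
        | zero => simp
        | tmul p q => simp
        | add u v hu hv => simp only [map_add, add_mul, hu, hv]
      rw [LinearMap.rTensor_tmul, Submodule.subtype_apply, e, ← mul_assoc, ← GLin.IsCoactAlg.coact_mul]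
      exact hmul _ a (hJ _ (hb _ x.2))
    | add u v hu hv => simp only [map_add, mul_add]; exact add_mem hu hv
  have hs : ∀ x : R ⊗[k] A, x ∈ LinearMap.range ((I.restrictScalars k).subtype.rTensor A) →
      shear R (HopfAlgebra.antipode k) x ∈ LinearMap.range ((I.restrictScalars k).subtype.rTensor A) := by
    rintro _ ⟨z, rfl⟩
    induction z using TensorProduct.induction_on with
    | zero => simp
    | tmul x a =>
      rw [LinearMap.rTensor_tmul, Submodule.subtype_apply, shear_tmul]
      obtain ⟨w, hw⟩ := hI (x : R) x.2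
      exact ⟨_, by rw [← hw]; exact (ComodTens.lTensor_rTensor_comm _ _ w).symm⟩
    | add u v hu hv => rw [map_add, map_add]; exact add_mem hu hv
  obtain ⟨z, hz⟩ := hs (y ⊗ₜ[k] (1 : A)) ⟨(⟨y, hy⟩ : I.restrictScalars k) ⊗ₜ[k] (1 : A), rfl⟩
  have h := hgen z
  rwa [hz, shear_id_shear_antipode] at h

theorem mul_actL_mem {I J : Ideal R}
    (hI : IsSubcomod (k := k) (A := A) (I.restrictScalars k))
    (hJ : IsSubcomod (k := k) (A := A) (J.restrictScalars k)) {b : R} (hb : ∀ y ∈ I, b * y ∈ J)
    {y : R} (hy : y ∈ I) (φ : A →ₗ[k] k) : actL φ b * y ∈ J := by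
  have h := sliceR_mem_of_mem_range (coact_mem_range_of_forall_mul_mem hI hJ hb hy) φ
  rw [actL_apply]
  generalize Comod.coact (k := k) (A := A) b = z at h ⊢
  suffices sliceR φ (z * (y ⊗ₜ[k] (1 : A))) = sliceR φ z * y by rwa [this] at h
  clear h
  induction z using TensorProduct.induction_on with
  | zero => simp
  | tmul p q => simp
  | add u v hu hv => simp only [map_add, add_mul, hu, hv]

end Alg

/-- The trivial algebra acts on every comodule. -/
theorem isHopfMod_trivial {A : Type v} [CommRing A] [Bialgebra k A] {V : Type w} [AddCommGroup V] [Module k V]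
    [Comod k A V] : letI := Comod.trivial k A k; TameAct.IsHopfMod k A k V := by
  letI := Comod.trivial k A k
  refine ⟨fun c v => ?_⟩
  rw [map_smul]
  show c • Comod.coact (k := k) (A := A) v = TameAct.hmSMul k A k V (c ⊗ₜ[k] (1 : A)) _
  generalize Comod.coact (k := k) (A := A) v = z
  induction z using TensorProduct.induction_on with
  | zero => simp
  | tmul x a => simp [TensorProduct.smul_tmul']
  | add u v hu hv => simp only [map_add, smul_add, hu, hv]

end

end Groth.Agent.H20Comod
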