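import Groth.Agent.H20Comod.Invariants
import Mathlib.RingTheory.Jacobson.Ring
import Mathlib.FieldTheory.IsAlgClosed.Basic
import Mathlib.RingTheory.Bialgebra.Convolution

/-!
Rational points, orbit closures and invariants of linearly reductive actions.
-/

set_option autoImplicit false

universe u v w

open TensorProduct HopfRep

namespace Groth.Agent.H20Comod

noncomputable section

theorem exists_point_le_ker {k : Type u} [Field k] [IsAlgClosed k] {R : Type v} [CommRing R] [Algebra k R]
    [Algebra.FiniteType k R] {J : Ideal R} (hJ : J ≠ ⊤) : ∃ x : R →ₐ[k] k, J ≤ RingHom.ker x := by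
  obtain ⟨M, hM, hle⟩ := Ideal.exists_le_maximal J hJ
  haveI : IsJacobsonRing k := inferInstance
  letI := Ideal.Quotient.field M
  haveI : Algebra.FiniteType k (R ⧸ M) :=
    Algebra.FiniteType.of_surjective (Ideal.Quotient.mkₐ k M) Ideal.Quotient.mk_surjective
  haveI : Module.Finite k (R ⧸ M) := finite_of_finite_type_of_isJacobsonRing k (R ⧸ M)
  haveI : Algebra.IsIntegral k (R ⧸ M) := Algebra.IsIntegral.of_finite k (R ⧸ M)
  let e : k ≃ₐ[k] (R ⧸ M) :=
    AlgEquiv.ofBijective (Algebra.ofId k (R ⧸ M)) IsAlgClosed.algebraMap_bijective_of_isIntegral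
  refine ⟨e.symm.toAlgHom.comp (Ideal.Quotient.mkₐ k M), fun f hf => ?_⟩
  show e.symm (Ideal.Quotient.mk M f) = 0
  rw [Ideal.Quotient.eq_zero_iff_mem.2 (hle hf), map_zero]

section Orbit

variable {k : Type u} [CommRing k] {A : Type v} [CommRing A] [HopfAlgebra k A]
  {R : Type w} [CommRing R] [Algebra k R] [Comod k A R] [GLin.IsCoactAlg k A R]

theorem orbitHom_eq_sliceL (x : R →ₐ[k] k) (f : R) :
    GLin.orbitHom k A x f = sliceL x.toLinearMap (Comod.coact (k := k) (A := A) f) := by
  show Algebra.TensorProduct.lid k A (Algebra.TensorProduct.map x (AlgHom.id k A)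
    (Comod.coact (k := k) (A := A) f)) = _
  generalize Comod.coact (k := k) (A := A) f = z
  induction z using TensorProduct.induction_on with
  | zero => simp
  | tmul p a => simp
  | add u v hu hv => simp only [map_add, hu, hv]

theorem comul_orbitHom (x : R →ₐ[k] k) (f : R) :
    CoalgebraStruct.comul (R := k) (GLin.orbitHom k A x f) =
      (GLin.orbitHom k A x).toLinearMap.rTensor A (Comod.coact (k := k) (A := A) f) := by
  have hco := LinearMap.congr_fun (Comod.coassoc (k := k) (A := A) (V := R)) f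
  simp only [LinearMap.coe_comp, Function.comp_apply, LinearEquiv.coe_coe] at hco
  rw [orbitHom_eq_sliceL, ← sliceL_lTensor, ← hco,
    show (GLin.orbitHom k A x).toLinearMap = sliceL x.toLinearMap ∘ₗ Comod.coact (k := k) (A := A) from
      LinearMap.ext (orbitHom_eq_sliceL x), LinearMap.rTensor_comp_apply]
  generalize (Comod.coact (k := k) (A := A) (V := R)).rTensor A (Comod.coact (k := k) (A := A) f) = z
  induction z using TensorProduct.induction_on with
  | zero => simp
  | tmul p a =>
    induction p using TensorProduct.induction_on with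
    | zero => simp
    | tmul q b => simp [TensorProduct.smul_tmul']
    | add u v hu hv => simp only [TensorProduct.add_tmul, map_add, hu, hv]
  | add u v hu hv => simp only [map_add, hu, hv]

theorem isComodHom_orbitHom (x : R →ₐ[k] k) : Hoch.IsComodHom A (GLin.orbitHom k A x).toLinearMap :=
  LinearMap.ext (comul_orbitHom x)

theorem counit_orbitHom (x : R →ₐ[k] k) (f : R) :
    CoalgebraStruct.counit (R := k) (GLin.orbitHom k A x f) = x f := by
  rw [orbitHom_eq_sliceL]
  refine Eq.trans ?_ (congrArg x (actL_counit (k := k) (A := A) f))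
  rw [actL_apply]
  generalize Comod.coact (k := k) (A := A) f = z
  induction z using TensorProduct.induction_on with
  | zero => simp
  | tmul p a => simp [mul_comm]
  | add u v hu hv => simp only [map_add, hu, hv]

theorem orbitHom_of_invariant (x : R →ₐ[k] k) {f : R} (hf : f ∈ GLin.invariants k A R) :
    GLin.orbitHom k A x f = algebraMap k A (x f) := by
  rw [orbitHom_eq_sliceL, show Comod.coact (k := k) (A := A) f = f ⊗ₜ[k] (1 : A) from hf, sliceL_tmul,
    Algebra.algebraMap_eq_smul_one]
  rfl

theorem apply_eq_zero_of_orbitHom_eq_zero (x : R →ₐ[k] k) {f : R} (hf : GLin.orbitHom k A x f = 0) : x f = 0 := by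
  rw [← counit_orbitHom (A := A), hf, map_zero]

theorem apply_act (x : R →ₐ[k] k) (g : A →ₐ[k] k) (f : R) :
    x (Comod.act k A R g f) = g (GLin.orbitHom k A x f) := by
  rw [orbitHom_eq_sliceL]
  show x (TensorProduct.rid k R (g.toLinearMap.lTensor R (Comod.coact (k := k) (A := A) f))) = _
  generalize Comod.coact (k := k) (A := A) f = z
  induction z using TensorProduct.induction_on with
  | zero => simp
  | tmul p a => simp [mul_comm]
  | add u v hu hv => simp only [map_add, hu, hv]

theorem actPt_actPt (g h : A →ₐ[k] k) (x : R →ₐ[k] k) :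
    GLin.actPt k g (GLin.actPt k h x) =
      GLin.actPt k (WithConv.toConv h * WithConv.toConv g).ofConv x := by
  apply AlgHom.ext
  intro f
  show g (GLin.orbitHom k A (GLin.actPt k h x) f) = (WithConv.toConv h * WithConv.toConv g) (GLin.orbitHom k A x f)
  rw [AlgHom.convMul_apply, comul_orbitHom, orbitHom_eq_sliceL]
  generalize Comod.coact (k := k) (A := A) f = z
  induction z using TensorProduct.induction_on with
  | zero => simp
  | tmul p a => simp [GLin.actPt]
  | add u v hu hv => simp only [map_add, hu, hv]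

theorem actPt_one (x : R →ₐ[k] k) : GLin.actPt k (Bialgebra.counitAlgHom k A) x = x :=
  AlgHom.ext (counit_orbitHom x)

theorem eq_actPt_of_actPt_eq {g g' : A →ₐ[k] k} {x x' : R →ₐ[k] k}
    (h : GLin.actPt k g x = GLin.actPt k g' x') : ∃ γ : A →ₐ[k] k, x' = GLin.actPt k γ x := by
  refine ⟨(WithConv.toConv g * (WithConv.toConv g')⁻¹).ofConv, ?_⟩
  rw [← actPt_actPt (h := g) (g := ((WithConv.toConv g')⁻¹).ofConv), h, actPt_actPt]
  conv_lhs => rw [← actPt_one (A := A) x']
  congr 1
  exact (congrArg WithConv.ofConv (mul_inv_cancel (WithConv.toConv g'))).symm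

theorem apply_eq_of_inOrbitClosure {x z : R →ₐ[k] k} (h : GLin.InOrbitClosure k A x z) {f : R}
    (hf : f ∈ GLin.invariants k A R) : z f = x f := by
  have : z (f - algebraMap k R (x f)) = 0 := h (by
    show GLin.orbitHom k A x _ = 0
    rw [map_sub, orbitHom_of_invariant x hf, AlgHom.commutes, sub_self])
  simpa [sub_eq_zero] using this

end Orbit

section Field

variable {k : Type u} [Field k] {A : Type v} [CommRing A] [HopfAlgebra k A]
  {R : Type w} [CommRing R] [Algebra k R] [Comod k A R] [GLin.IsCoactAlg k A R]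

theorem isSubcomod_ker_orbitHom (x : R →ₐ[k] k) :
    IsSubcomod (k := k) (A := A) ((RingHom.ker (GLin.orbitHom k A x)).restrictScalars k) := by
  rw [isSubcomod_iff_forall_actL]
  intro f hf φ
  show (GLin.orbitHom k A x).toLinearMap (actL φ f) = 0
  rw [actL_natural _ (isComodHom_orbitHom x), show (GLin.orbitHom k A x).toLinearMap f = 0 from hf, map_zero]

theorem comap_sup_map_invariants_eq {α : A →ₗ[k] k} (hα : IsIntegral α) (h1 : α 1 = 1) {I : Ideal R}
    (hI : IsSubcomod (k := k) (A := A) (I.restrictScalars k)) (p : Ideal (GLin.invariants k A R)) :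
    (I ⊔ p.map (algebraMap (GLin.invariants k A R) R)).comap (algebraMap (GLin.invariants k A R) R) =
      I.comap (algebraMap (GLin.invariants k A R) R) ⊔ p := by
  refine le_antisymm (fun x hx => ?_) (sup_le (Ideal.comap_mono le_sup_left) (Ideal.le_comap_map.trans
    (Ideal.comap_mono le_sup_right)))
  obtain ⟨y, hy, z, hz, hxyz⟩ := Submodule.mem_sup.1 (Ideal.mem_comap.1 hx)
  have h : x = reynoldsInv hα h1 y + reynoldsInv hα h1 z := by
    rw [← map_add, hxyz]
    exact (reynoldsInv_coe hα h1 x).symm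
  rw [h]
  refine add_mem (Ideal.mem_sup_left (actL_mem_of_isSubcomod hI α hy)) (Ideal.mem_sup_right ?_)
  rw [← comap_map_invariants_eq hα h1 p, Ideal.mem_comap]
  show actL α z ∈ p.map _
  have hz' : z ∈ p • (⊤ : Submodule (GLin.invariants k A R) R) := by rw [Ideal.smul_top_eq_map]; exact hz
  suffices actL α z ∈ p • (⊤ : Submodule (GLin.invariants k A R) R) by rwa [Ideal.smul_top_eq_map] at this
  refine Submodule.smul_induction_on hz' (fun r hr m _ => ?_) (fun u v hu hv => ?_)
  · rw [show actL α (r • m) = r • actL α m from actL_mul_of_fixed α r.2 m]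
    exact Submodule.smul_mem_smul hr Submodule.mem_top
  · rw [map_add]
    exact add_mem hu hv

variable [IsAlgClosed k] [Algebra.FiniteType k R]

theorem exists_point_over {α : A →ₗ[k] k} (hα : IsIntegral α) (h1 : α 1 = 1) {I : Ideal R}
    (hI : IsSubcomod (k := k) (A := A) (I.restrictScalars k)) (φ : GLin.invariants k A R →ₐ[k] k)
    (hφ : ∀ f : GLin.invariants k A R, (f : R) ∈ I → φ f = 0) :
    ∃ x : R →ₐ[k] k, I ≤ RingHom.ker x ∧ x.comp (GLin.invariants k A R).val = φ := by
  have hc : (I ⊔ (RingHom.ker φ).map (algebraMap (GLin.invariants k A R) R)).comap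
      (algebraMap (GLin.invariants k A R) R) = RingHom.ker φ := by
    rw [comap_sup_map_invariants_eq hα h1 hI, sup_eq_right]
    exact fun f hf => hφ f hf
  have hne : I ⊔ (RingHom.ker φ).map (algebraMap (GLin.invariants k A R) R) ≠ ⊤ := fun h => by
    rw [h, Ideal.comap_top] at hc
    exact (RingHom.ker_ne_top φ) hc.symm
  obtain ⟨x, hx⟩ := exists_point_le_ker (k := k) hne
  refine ⟨x, le_sup_left.trans hx, AlgHom.ext fun f => ?_⟩
  have h0 : f - algebraMap k _ (φ f) ∈ RingHom.ker φ := by simp
  have h2 : x (((f - algebraMap k _ (φ f) : GLin.invariants k A R)) : R) = 0 :=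
    hx (Ideal.mem_sup_right (Ideal.mem_map_of_mem _ h0))
  simpa [sub_eq_zero] using h2

theorem exists_inOrbitClosure_both {α : A →ₗ[k] k} (hα : IsIntegral α) (h1 : α 1 = 1) {x₁ x₂ : R →ₐ[k] k}
    (h : ∀ f ∈ GLin.invariants k A R, x₁ f = x₂ f) :
    ∃ z : R →ₐ[k] k, GLin.InOrbitClosure k A x₁ z ∧ GLin.InOrbitClosure k A x₂ z := by
  let P₁ := RingHom.ker (GLin.orbitHom k A x₁)
  let P₂ := RingHom.ker (GLin.orbitHom k A x₂)
  have hI : IsSubcomod (k := k) (A := A) ((P₁ ⊔ P₂).restrictScalars k) := by
    rw [Submodule.restrictScalars_sup]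
    exact isSubcomod_sup (isSubcomod_ker_orbitHom x₁) (isSubcomod_ker_orbitHom x₂)
  obtain ⟨z, hz, -⟩ := exists_point_over hα h1 hI (x₁.comp (GLin.invariants k A R).val) fun f hf => by
    obtain ⟨a, ha, b, hb, hab⟩ := Submodule.mem_sup.1 hf
    show x₁ (f : R) = 0
    rw [← actL_eq_self_of_fixed (v := (f : R)) h1 f.2, ← hab, map_add, map_add,
      apply_eq_zero_of_orbitHom_eq_zero x₁ (actL_mem_of_isSubcomod (isSubcomod_ker_orbitHom x₁) α ha),
      h _ (actL_mem_fixedPts hα h1 b),
      apply_eq_zero_of_orbitHom_eq_zero x₂ (actL_mem_of_isSubcomod (isSubcomod_ker_orbitHom x₂) α hb), add_zero]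
  exact ⟨z, le_sup_left.trans hz, le_sup_right.trans hz⟩

variable [Algebra.FiniteType k A]

omit [Algebra.FiniteType k R] in
/-- Vanishing on all functions vanishing on the rational orbit is vanishing on the kernel of the orbit map. -/
theorem inOrbitClosure_iff_forall_act (x z : R →ₐ[k] k) :
    GLin.InOrbitClosure k A x z ↔ ∀ f : R, (∀ g : A →ₐ[k] k, x (Comod.act k A R g f) = 0) → z f = 0 := by
  refine ⟨fun h f hf => ?_, fun h f hf => h f fun g => by rw [apply_act, show GLin.orbitHom k A x f = 0 from hf, map_zero]⟩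
  haveI : IsJacobsonRing A := isJacobsonRing_of_finiteType (A := k) (B := A)
  have hnil : GLin.orbitHom k A x f ∈ nilradical A := by
    rw [nilradical, Ideal.radical_eq_jacobson, Ideal.jacobson, Ideal.mem_sInf]
    intro M hM
    obtain ⟨g, hg⟩ := exists_point_le_ker (k := k) hM.2.ne_top
    have hMg : M = RingHom.ker g := hM.2.eq_of_le (RingHom.ker_ne_top g) hg
    rw [hMg, RingHom.mem_ker, ← apply_act]
    exact hf g
  obtain ⟨n, hn⟩ := hnil
  have h2 : z (f ^ n) = 0 := h (show GLin.orbitHom k A x (f ^ n) = 0 by rw [map_pow, hn])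
  rw [map_pow] at h2
  exact eq_zero_of_pow_eq_zero h2

omit [Algebra.FiniteType k R] in
theorem exists_actPt_eq_of_isClosedOrbit {x z : R →ₐ[k] k} (hx : GLin.IsClosedOrbit k A x)
    (hz : GLin.InOrbitClosure k A x z) : ∃ g : A →ₐ[k] k, z = GLin.actPt k g x := by
  have hmem : (⟨RingHom.ker z, RingHom.ker_isPrime z⟩ : PrimeSpectrum R) ∈
      Set.range (PrimeSpectrum.comap (GLin.orbitHom k A x).toRingHom) := by
    rw [← hx.closure_eq, PrimeSpectrum.closure_range_comap]
    exact hz
  obtain ⟨q, hq⟩ := hmem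
  obtain ⟨g, hg⟩ := exists_point_le_ker (k := k) q.isPrime.ne_top
  refine ⟨g, AlgHom.ext fun f => ?_⟩
  have h0 : f - algebraMap k R (z f) ∈ RingHom.ker z := by simp
  have h1 : GLin.orbitHom k A x (f - algebraMap k R (z f)) ∈ q.asIdeal := by
    rw [← show q.asIdeal.comap (GLin.orbitHom k A x).toRingHom = RingHom.ker z from congrArg PrimeSpectrum.asIdeal hq] at h0
    exact h0
  have h2 := hg h1
  rw [RingHom.mem_ker, map_sub, AlgHom.commutes, map_sub, AlgHom.commutes, sub_eq_zero] at h2
  exact h2.symm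

end Field

end

end Groth.Agent.H20Comod
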