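import Groth.Agent.H20Comod.DualMod
import Mathlib.RingTheory.HopfAlgebra.Convolution
import Mathlib.RingTheory.Bialgebra.Convolution

/-!
The comultiplication of a commutative Hopf algebra composed with the antipode, and the averaging
operator attached to a normalised invariant integral.
-/

set_option autoImplicit false

universe u v w

open TensorProduct HopfRep WithConv

namespace Groth.Agent.H20Comod

noncomputable section

variable {k : Type u} [CommRing k] {A : Type v} [CommRing A] [HopfAlgebra k A]

theorem comulAlgHom_eq_includeLeft_mul_includeRight :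
    toConv (Bialgebra.comulAlgHom k A) =
      toConv (Algebra.TensorProduct.includeLeft : A →ₐ[k] A ⊗[k] A) *
        toConv (Algebra.TensorProduct.includeRight : A →ₐ[k] A ⊗[k] A) := by
  apply WithConv.ext
  apply AlgHom.ext
  intro a
  show _ = (toConv (Algebra.TensorProduct.includeLeft : A →ₐ[k] A ⊗[k] A) *
    toConv (Algebra.TensorProduct.includeRight : A →ₐ[k] A ⊗[k] A)) a
  rw [AlgHom.convMul_apply]
  show CoalgebraStruct.comul (R := k) a = _
  generalize CoalgebraStruct.comul (R := k) a = z
  induction z using TensorProduct.induction_on with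
  | zero => simp
  | tmul x y => simp
  | add x y hx hy => rw [map_add, ← hx, ← hy]

theorem comul_antipode (a : A) :
    CoalgebraStruct.comul (R := k) (HopfAlgebra.antipode k a) =
      TensorProduct.map (HopfAlgebra.antipode k) (HopfAlgebra.antipode k)
        (TensorProduct.comm k A A (CoalgebraStruct.comul (R := k) a)) := by
  have h := congrArg (fun f : WithConv (A →ₐ[k] A ⊗[k] A) => f⁻¹)
    (comulAlgHom_eq_includeLeft_mul_includeRight (k := k) (A := A))
  have h' := h.trans (mul_inv_rev (toConv (Algebra.TensorProduct.includeLeft : A →ₐ[k] A ⊗[k] A))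
    (toConv (Algebra.TensorProduct.includeRight : A →ₐ[k] A ⊗[k] A)))
  have h2 := congrArg (fun f : WithConv (A →ₐ[k] A ⊗[k] A) => f a) h'
  simp only [AlgHom.convMul_apply] at h2
  refine h2.trans ?_
  generalize CoalgebraStruct.comul (R := k) a = z
  induction z using TensorProduct.induction_on with
  | zero => simp
  | tmul x y =>
    simp only [Algebra.TensorProduct.lift_tmul, TensorProduct.comm_tmul, TensorProduct.map_tmul]
    show ((1 : A) ⊗ₜ[k] HopfAlgebra.antipode k x) * (HopfAlgebra.antipode k y ⊗ₜ[k] (1 : A)) = _
    rw [Algebra.TensorProduct.tmul_mul_tmul, one_mul, mul_one]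
  | add x y hx hy => simp only [map_add, hx, hy]

/-- An invariant linear form: the total integral of a tame group. -/
abbrev IsIntegral (α : A →ₗ[k] k) : Prop :=
  ∀ a : A, sliceL α (CoalgebraStruct.comul (R := k) a) = α a • (1 : A)

/-- `z ↦ ∑ α (S z · b₁) b₂`. -/
def intConv (α : A →ₗ[k] k) (b : A) : A →ₗ[k] A :=
  sliceL α ∘ₗ LinearMap.mulRight k (CoalgebraStruct.comul (R := k) b) ∘ₗ
    (TensorProduct.mk k A A).flip 1 ∘ₗ HopfAlgebra.antipode k

omit [HopfAlgebra k A] in
theorem sliceL_mul_one_tmul [Algebra k A] (α : A →ₗ[k] k) (c : A) (t : A ⊗[k] A) :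
    sliceL α (((1 : A) ⊗ₜ[k] c) * t) = c * sliceL α t := by
  induction t using TensorProduct.induction_on with
  | zero => simp
  | tmul x y => simp [Algebra.TensorProduct.tmul_mul_tmul]
  | add x y hx hy => simp [mul_add, hx, hy]

theorem intConv_eq (α : A →ₗ[k] k) (b : A) (z : A) :
    intConv α b z = sliceL α ((HopfAlgebra.antipode k z ⊗ₜ[k] 1) * CoalgebraStruct.comul (R := k) b) := rfl

theorem id_mul_intForm {α : A →ₗ[k] k} (hα : IsIntegral α) (b : A) :
    toConv (LinearMap.id : A →ₗ[k] A) *
        toConv (Algebra.linearMap k A ∘ₗ α ∘ₗ LinearMap.mulRight k b ∘ₗ HopfAlgebra.antipode k) =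
      toConv (intConv α b) := by
  have h : toConv (Algebra.linearMap k A ∘ₗ α ∘ₗ LinearMap.mulRight k b ∘ₗ HopfAlgebra.antipode k) =
      toConv (HopfAlgebra.antipode k) * toConv (intConv α b) := by
    apply WithConv.ext
    apply LinearMap.ext
    intro z
    simp only [LinearMap.coe_comp, Function.comp_apply, LinearMap.mulRight_apply,
      Algebra.linearMap_apply, LinearMap.convMul_apply]
    rw [Algebra.algebraMap_eq_smul_one, ← hα, Bialgebra.comul_mul, comul_antipode]
    show _ = LinearMap.mul' k A (TensorProduct.map (HopfAlgebra.antipode k) (intConv α b)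
      (CoalgebraStruct.comul (R := k) z))
    generalize CoalgebraStruct.comul (R := k) z = y
    induction y using TensorProduct.induction_on with
    | zero => simp
    | tmul p q =>
      rw [TensorProduct.comm_tmul, TensorProduct.map_tmul, TensorProduct.map_tmul, LinearMap.mul'_apply,
        intConv_eq, ← sliceL_mul_one_tmul, ← mul_assoc, Algebra.TensorProduct.tmul_mul_tmul, one_mul, mul_one]
    | add p q hp hq => simp only [map_add, add_mul, hp, hq]
  rw [h, ← mul_assoc, LinearMap.id_mul_antipode, one_mul]

section Average

variable {V : Type w} [AddCommGroup V] [Module k V] [Comod k A V]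

/-- The linear form `z ↦ α (S z · b)`. -/
def intForm (α : A →ₗ[k] k) : A →ₗ[k] A →ₗ[k] k :=
  LinearMap.mk₂ k (fun b z => α (HopfAlgebra.antipode k z * b))
    (fun b b' z => by simp [mul_add]) (fun c b z => by simp)
    (fun b z z' => by simp [add_mul]) (fun c b z => by simp)

omit [Comod k A V] in
theorem intForm_apply (α : A →ₗ[k] k) (b z : A) :
    intForm α b z = α (HopfAlgebra.antipode k z * b) := rfl

theorem conv_intForm {α : A →ₗ[k] k} (hα : IsIntegral α) (φ : A →ₗ[k] k) (b : A) :
    conv φ (intForm α b) = intForm α (actL φ b) := by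
  apply LinearMap.ext
  intro a
  have h1 : φ (intConv α b a) = intForm α (actL φ b) a := by
    rw [intConv_eq, intForm_apply, actL_apply]
    show φ (sliceL α ((HopfAlgebra.antipode k a ⊗ₜ[k] (1 : A)) * CoalgebraStruct.comul (R := k) b)) =
      α (HopfAlgebra.antipode k a * sliceR φ (CoalgebraStruct.comul (R := k) b))
    generalize CoalgebraStruct.comul (R := k) b = y
    induction y using TensorProduct.induction_on with
    | zero => simp
    | tmul p q => simp [Algebra.TensorProduct.tmul_mul_tmul, mul_comm]
    | add p q hp hq => simp only [mul_add, map_add, hp, hq]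
  rw [← h1]
  have h2 := congrArg (fun f : WithConv (A →ₗ[k] A) => f a) (id_mul_intForm hα b)
  simp only [LinearMap.convMul_apply] at h2
  rw [show (intConv α b) a = (toConv (intConv α b)).ofConv a from rfl, ← h2]
  show LinearMap.mul' k k (TensorProduct.map φ (intForm α b) (CoalgebraStruct.comul (R := k) a)) = _
  generalize CoalgebraStruct.comul (R := k) a = y
  induction y using TensorProduct.induction_on with
  | zero => simp
  | tmul p q =>
    simp only [TensorProduct.map_tmul, LinearMap.mul'_apply, LinearMap.coe_comp, Function.comp_apply,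
      LinearMap.id_coe, id_eq, LinearMap.mulRight_apply, Algebra.linearMap_apply, intForm_apply,
      Algebra.algebraMap_eq_smul_one, mul_smul_comm, mul_one, map_smul, smul_eq_mul]
    exact mul_comm _ _
  | add p q hp hq => simp only [map_add, hp, hq]

/-- Averaging of a linear endomorphism by an integral. -/
def average (α : A →ₗ[k] k) (p : V →ₗ[k] V) : V →ₗ[k] V :=
  TensorProduct.lift (LinearMap.mk₂ k (fun u b => actL (intForm α b) u)
      (fun u u' b => map_add _ u u') (fun c u b => map_smul _ c u)
      (fun u b b' => by rw [map_add]; exact sliceR_add _ _ _)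
      (fun c u b => by rw [map_smul]; exact sliceR_smul _ _ _)) ∘ₗ
    p.rTensor A ∘ₗ Comod.coact (k := k) (A := A)

theorem coact_actL (φ : A →ₗ[k] k) (v : V) :
    Comod.coact (k := k) (A := A) (actL φ v) =
      (actL φ : A →ₗ[k] A).lTensor V (Comod.coact (k := k) (A := A) v) := by
  have hco := LinearMap.congr_fun (Comod.coassoc (k := k) (A := A) (V := V)) v
  simp only [LinearMap.coe_comp, Function.comp_apply, LinearEquiv.coe_coe] at hco
  have h1 : ∀ z : V ⊗[k] A, (sliceR φ : A ⊗[k] A →ₗ[k] A).lTensor V
      (TensorProduct.assoc k V A A ((Comod.coact (k := k) (A := A)).rTensor A z)) =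
      Comod.coact (k := k) (A := A) (sliceR φ z) := by
    intro z
    induction z using TensorProduct.induction_on with
    | zero => simp
    | tmul x a =>
      simp only [LinearMap.rTensor_tmul, sliceR_tmul, map_smul]
      generalize Comod.coact (k := k) (A := A) x = y
      induction y using TensorProduct.induction_on with
      | zero => simp
      | tmul p b => simp [TensorProduct.tmul_smul]
      | add x y hx hy => simp only [TensorProduct.add_tmul, map_add, hx, hy, smul_add]
    | add x y hx hy => simp only [map_add, hx, hy]
  rw [actL_apply, ← h1, hco, ← LinearMap.lTensor_comp_apply]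
  rfl

theorem average_comm {α : A →ₗ[k] k} (hα : IsIntegral α) (p : V →ₗ[k] V) (φ : A →ₗ[k] k) (v : V) :
    average α p (actL φ v) = actL φ (average α p v) := by
  simp only [average, LinearMap.coe_comp, Function.comp_apply, coact_actL]
  generalize Comod.coact (k := k) (A := A) v = z
  induction z using TensorProduct.induction_on with
  | zero => simp
  | tmul x a =>
    simp only [LinearMap.lTensor_tmul, LinearMap.rTensor_tmul, TensorProduct.lift.tmul, LinearMap.mk₂_apply]
    rw [← conv_intForm hα, actL_conv]
  | add x y hx hy => simp only [map_add, hx, hy]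

theorem average_mem {α : A →ₗ[k] k} {p : V →ₗ[k] V} {W : Submodule k V}
    (hW : IsSubcomod (k := k) (A := A) W) (hp : ∀ x, p x ∈ W) (v : V) : average α p v ∈ W := by
  simp only [average, LinearMap.coe_comp, Function.comp_apply]
  generalize Comod.coact (k := k) (A := A) v = z
  induction z using TensorProduct.induction_on with
  | zero => simp
  | tmul x a => simpa using actL_mem_of_isSubcomod hW _ (hp x)
  | add x y hx hy => simp only [map_add]; exact add_mem hx hy

theorem average_eq_self {α : A →ₗ[k] k} (h1 : α 1 = 1) {p : V →ₗ[k] V} {W : Submodule k V}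
    (hW : IsSubcomod (k := k) (A := A) W) (hp : ∀ x ∈ W, p x = x) {v : V} (hv : v ∈ W) :
    average α p v = v := by
  simp only [average, LinearMap.coe_comp, Function.comp_apply]
  have h2 : p.rTensor A (Comod.coact (k := k) (A := A) v) = Comod.coact (k := k) (A := A) v := by
    obtain ⟨y, hy⟩ := hW v hv
    rw [← hy, ← LinearMap.rTensor_comp_apply, show p ∘ₗ W.subtype = W.subtype from LinearMap.ext fun x => hp x x.2]
  rw [h2]
  clear h2 hv
  have hco := LinearMap.congr_fun (Comod.coassoc (k := k) (A := A) (V := V)) v
  simp only [LinearMap.coe_comp, Function.comp_apply, LinearEquiv.coe_coe] at hco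
  have hcomp : (α ∘ₗ LinearMap.mul' k A ∘ₗ (HopfAlgebra.antipode k).rTensor A) ∘ₗ
      CoalgebraStruct.comul (R := k) (A := A) = CoalgebraStruct.counit := by
    apply LinearMap.ext
    intro a
    simp only [LinearMap.coe_comp, Function.comp_apply, HopfAlgebra.mul_antipode_rTensor_comul_apply,
      Algebra.algebraMap_eq_smul_one, map_smul, h1, smul_eq_mul, mul_one]
  conv_rhs => rw [← actL_counit (k := k) (A := A) v, actL_apply, ← hcomp, ← sliceR_lTensor, ← hco]
  clear hco hcomp
  generalize Comod.coact (k := k) (A := A) v = z
  induction z using TensorProduct.induction_on with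
  | zero => simp
  | tmul x a =>
    simp only [TensorProduct.lift.tmul, LinearMap.mk₂_apply, LinearMap.rTensor_tmul, actL_apply]
    generalize Comod.coact (k := k) (A := A) x = y
    induction y using TensorProduct.induction_on with
    | zero => simp
    | tmul r s => simp [intForm_apply]
    | add x y hx hy => simp only [TensorProduct.add_tmul, map_add, hx, hy]
  | add x y hx hy => simp only [map_add, hx, hy]

end Average

end

end Groth.Agent.H20Comod
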