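import Groth.Agent.H20Comod.Basic
import Groth.Prelude.Def_Hoch
import Mathlib.RingTheory.Coalgebra.Convolution
import Mathlib.RingTheory.SimpleModule.Isotypic
import Mathlib.RingTheory.Artinian.Module
import Mathlib.RingTheory.FiniteLength
import Mathlib.Algebra.Algebra.Basic
import Mathlib.LinearAlgebra.Dual.Lemmas
import Mathlib.LinearAlgebra.Basis.VectorSpace

/-!
A comodule as a module over the convolution algebra of the coalgebra, and its dictionary with
subcomodules, comodule maps, simple and semisimple comodules.  Open the namespace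
`Groth.Agent.H20Comod` (scoped) to get the module structure.
-/

set_option autoImplicit false

universe u v w w'

open TensorProduct HopfRep WithConv

namespace Groth.Agent.H20Comod

noncomputable section

/-- The convolution algebra dual to a coalgebra. -/
def DualAlg (k : Type u) (A : Type v) [CommRing k] [AddCommGroup A] [Module k A] : Type (max u v) :=
  WithConv (A →ₗ[k] k)

instance DualAlg.instRing (k : Type u) (A : Type v) [CommRing k] [AddCommGroup A] [Module k A]
    [Coalgebra k A] : Ring (DualAlg k A) :=
  inferInstanceAs (Ring (WithConv (A →ₗ[k] k)))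

instance DualAlg.instAlgebra (k : Type u) (A : Type v) [CommRing k] [AddCommGroup A] [Module k A]
    [Coalgebra k A] : Algebra k (DualAlg k A) :=
  inferInstanceAs (Algebra k (WithConv (A →ₗ[k] k)))

/-- A linear form as an element of the convolution algebra. -/
def DualAlg.mk {k : Type u} {A : Type v} [CommRing k] [AddCommGroup A] [Module k A] (f : A →ₗ[k] k) :
    DualAlg k A := toConv f

/-- The linear form underlying an element of the convolution algebra. -/
def DualAlg.val {k : Type u} {A : Type v} [CommRing k] [AddCommGroup A] [Module k A] (f : DualAlg k A) :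
    A →ₗ[k] k := WithConv.ofConv f

section Ring

variable {k : Type u} [CommRing k] {A : Type v} [AddCommGroup A] [Module k A] [Coalgebra k A]
  {V : Type w} [AddCommGroup V] [Module k V] [Comod k A V]
  {W : Type w'} [AddCommGroup W] [Module k W] [Comod k A W]

theorem val_mul_eq_conv (f g : DualAlg k A) : (f * g).val = conv f.val g.val := rfl

theorem val_one_eq_counit : (1 : DualAlg k A).val = CoalgebraStruct.counit := by
  show (1 : WithConv (A →ₗ[k] k)).ofConv = CoalgebraStruct.counit
  rw [LinearMap.convOne_def]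
  ext a
  simp

omit [Coalgebra k A] [Comod k A V] in
theorem sliceR_add (f g : A →ₗ[k] k) (x : V ⊗[k] A) : sliceR (f + g) x = sliceR f x + sliceR g x := by
  simp [sliceR, LinearMap.lTensor_add]

omit [Coalgebra k A] [Comod k A V] in
theorem sliceR_zero (x : V ⊗[k] A) : sliceR (0 : A →ₗ[k] k) x = 0 := by
  simp [sliceR]

omit [Coalgebra k A] [Comod k A V] in
theorem sliceR_smul (c : k) (f : A →ₗ[k] k) (x : V ⊗[k] A) : sliceR (c • f) x = c • sliceR f x := by
  simp [sliceR, LinearMap.lTensor_smul]

/-- A comodule is a module over the convolution algebra. -/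
scoped instance dualModule : Module (DualAlg k A) V where
  smul f v := actL f.val v
  one_smul v := by
    show actL (1 : DualAlg k A).val v = v
    rw [val_one_eq_counit, actL_counit]
  mul_smul f g v := by
    show actL (f * g).val v = actL f.val (actL g.val v)
    rw [val_mul_eq_conv, actL_conv]
  smul_zero f := map_zero (actL f.val)
  smul_add f v w := map_add (actL f.val) v w
  add_smul f g v := sliceR_add f.val g.val _
  zero_smul v := sliceR_zero _

theorem smul_eq_actL (f : DualAlg k A) (v : V) : f • v = actL f.val v := rfl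

theorem mk_smul (f : A →ₗ[k] k) (v : V) : DualAlg.mk f • v = actL f v := rfl

scoped instance dualModule_isScalarTower : IsScalarTower k (DualAlg k A) V where
  smul_assoc c f v := sliceR_smul c f.val _

scoped instance dualModule_smulCommClass : SMulCommClass k (DualAlg k A) V where
  smul_comm c f v := (map_smul (actL f.val) c v).symm

theorem actL_comm_of_isComodHom {f : V →ₗ[k] W} (hf : Hoch.IsComodHom A f) (φ : A →ₗ[k] k) (v : V) :
    f (actL φ v) = actL φ (f v) := by
  rw [actL_apply, actL_apply, ← sliceR_rTensor]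
  exact congrArg (sliceR φ) (LinearMap.congr_fun hf v).symm

theorem isComodHom_iff_forall_actL [Module.Free k A] (f : V →ₗ[k] W) :
    Hoch.IsComodHom A f ↔ ∀ (φ : A →ₗ[k] k) (v : V), f (actL φ v) = actL φ (f v) := by
  refine ⟨fun hf φ v => actL_comm_of_isComodHom hf φ v, fun h => LinearMap.ext fun v => ?_⟩
  rw [← sub_eq_zero]
  refine eq_zero_of_forall_sliceR fun φ => ?_
  simp only [LinearMap.coe_comp, Function.comp_apply, map_sub, sliceR_rTensor]
  exact sub_eq_zero.2 (h φ v).symm

/-- A comodule map as a linear map over the convolution algebra. -/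
def homLin (f : V →ₗ[k] W) (hf : Hoch.IsComodHom A f) : V →ₗ[DualAlg k A] W where
  toFun := f
  map_add' := map_add f
  map_smul' φ v := actL_comm_of_isComodHom hf φ.val v

@[simp] theorem homLin_apply (f : V →ₗ[k] W) (hf : Hoch.IsComodHom A f) (v : V) : homLin f hf v = f v := rfl

theorem isComodHom_restrictScalars [Module.Free k A] (f : V →ₗ[DualAlg k A] W) :
    Hoch.IsComodHom A (f.restrictScalars k) :=
  (isComodHom_iff_forall_actL _).2 fun φ v => f.map_smul (DualAlg.mk φ) v

theorem isComodHom_comp {X : Type w} [AddCommGroup X] [Module k X] [Comod k A X]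
    {f : V →ₗ[k] W} {g : W →ₗ[k] X} (hf : Hoch.IsComodHom A f) (hg : Hoch.IsComodHom A g) :
    Hoch.IsComodHom A (g ∘ₗ f) := by
  show Comod.coact ∘ₗ g ∘ₗ f = _
  rw [LinearMap.rTensor_comp, ← LinearMap.comp_assoc, hg, LinearMap.comp_assoc, hf, LinearMap.comp_assoc]

/-- A subcomodule as a submodule over the convolution algebra. -/
def toSub (p : Submodule k V) (hp : IsSubcomod (k := k) (A := A) p) : Submodule (DualAlg k A) V :=
  { p.toAddSubmonoid with smul_mem' := fun φ _ hv => actL_mem_of_isSubcomod hp φ.val hv }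

@[simp] theorem mem_toSub {p : Submodule k V} (hp : IsSubcomod (k := k) (A := A) p) {v : V} :
    v ∈ toSub p hp ↔ v ∈ p := Iff.rfl

@[simp] theorem restrictScalars_toSub (p : Submodule k V) (hp : IsSubcomod (k := k) (A := A) p) :
    (toSub p hp).restrictScalars k = p := rfl

theorem isSubcomod_restrictScalars [Module.Free k A] (q : Submodule (DualAlg k A) V) :
    IsSubcomod (k := k) (A := A) (q.restrictScalars k) :=
  (isSubcomod_iff_forall_actL _).2 fun _ hv φ => q.smul_mem (DualAlg.mk φ) hv

theorem isCompl_restrictScalars {p q : Submodule (DualAlg k A) V} :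
    IsCompl (p.restrictScalars k) (q.restrictScalars k) ↔ IsCompl p q := by
  constructor
  · rintro ⟨hd, hc⟩
    refine ⟨disjoint_iff_inf_le.2 fun x hx => hd.le_bot (x := x) hx, codisjoint_iff_le_sup.2 fun x _ => ?_⟩
    obtain ⟨y, hy, z, hz, hyz⟩ := Submodule.mem_sup.1 (hc.top_le (x := x) trivial)
    exact Submodule.mem_sup.2 ⟨y, hy, z, hz, hyz⟩
  · rintro ⟨hd, hc⟩
    refine ⟨disjoint_iff_inf_le.2 fun x hx => hd.le_bot (x := x) hx, codisjoint_iff_le_sup.2 fun x _ => ?_⟩
    obtain ⟨y, hy, z, hz, hyz⟩ := Submodule.mem_sup.1 (hc.top_le (x := x) trivial)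
    exact Submodule.mem_sup.2 ⟨y, hy, z, hz, hyz⟩

theorem isSemisimpleComod_iff [Module.Free k A] :
    IsSemisimpleComod k A V ↔ IsSemisimpleModule (DualAlg k A) V := by
  constructor
  · intro h
    refine (isSemisimpleModule_iff _ _).2 ⟨fun p => ?_⟩
    obtain ⟨q, hq, hpq⟩ := h _ (isSubcomod_restrictScalars p)
    exact ⟨toSub q hq, isCompl_restrictScalars.1 hpq⟩
  · intro h p hp
    obtain ⟨q, hq⟩ := exists_isCompl (toSub p hp)
    exact ⟨q.restrictScalars k, isSubcomod_restrictScalars q, (isCompl_restrictScalars (k := k)).2 hq⟩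

theorem isSimpleComod_iff [Module.Free k A] : IsSimpleComod k A V ↔ IsSimpleModule (DualAlg k A) V := by
  rw [isSimpleModule_iff]
  constructor
  · rintro ⟨hnt, h⟩
    haveI : Nontrivial (Submodule (DualAlg k A) V) := (Submodule.nontrivial_iff _).2 hnt
    refine ⟨fun p => ?_⟩
    refine (h _ (isSubcomod_restrictScalars p)).imp (fun e => ?_) (fun e => ?_)
    · exact Submodule.restrictScalars_injective k (DualAlg k A) V (by rw [e]; rfl)
    · exact Submodule.restrictScalars_injective k (DualAlg k A) V (by rw [e]; rfl)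
  · intro h
    refine ⟨(Submodule.nontrivial_iff (DualAlg k A)).1 inferInstance, fun p hp => ?_⟩
    refine (h.eq_bot_or_eq_top (toSub p hp)).imp (fun e => ?_) (fun e => ?_)
    · rw [← restrictScalars_toSub p hp, e]; rfl
    · rw [← restrictScalars_toSub p hp, e]; rfl

theorem isSubcomod_ker [Module.Free k A] {f : V →ₗ[k] W} (hf : Hoch.IsComodHom A f) :
    IsSubcomod (k := k) (A := A) (LinearMap.ker f) :=
  isSubcomod_restrictScalars (LinearMap.ker (homLin f hf))

theorem isSubcomod_range [Module.Free k A] {f : V →ₗ[k] W} (hf : Hoch.IsComodHom A f) :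
    IsSubcomod (k := k) (A := A) (LinearMap.range f) :=
  isSubcomod_restrictScalars (LinearMap.range (homLin f hf))

variable (A) in
/-- The coefficient map `v ↦ (g ⊗ id) (coact v)`. -/
def coeff (g : V →ₗ[k] k) : V →ₗ[k] A := sliceL g ∘ₗ Comod.coact (k := k) (A := A)

theorem coeff_apply (g : V →ₗ[k] k) (v : V) :
    coeff A g v = sliceL g (Comod.coact (k := k) (A := A) v) := rfl

theorem apply_coeff (φ : A →ₗ[k] k) (g : V →ₗ[k] k) (v : V) : φ (coeff A g v) = g (actL φ v) := by
  rw [coeff_apply, actL_apply]
  generalize Comod.coact (k := k) (A := A) v = z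
  induction z using TensorProduct.induction_on with
  | zero => simp
  | tmul x a => simp [mul_comm]
  | add x y hx hy => simp [hx, hy]

theorem comul_coeff (g : V →ₗ[k] k) (v : V) :
    CoalgebraStruct.comul (R := k) (coeff A g v) =
      (coeff A g).rTensor A (Comod.coact (k := k) (A := A) v) := by
  have hco := LinearMap.congr_fun (Comod.coassoc (k := k) (A := A) (V := V)) v
  simp only [LinearMap.coe_comp, Function.comp_apply, LinearEquiv.coe_coe] at hco
  rw [coeff_apply, ← sliceL_lTensor, ← hco]
  generalize Comod.coact (k := k) (A := A) v = z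
  induction z using TensorProduct.induction_on with
  | zero => simp
  | tmul x a =>
    simp only [LinearMap.rTensor_tmul, coeff_apply]
    generalize Comod.coact (k := k) (A := A) x = y
    induction y using TensorProduct.induction_on with
    | zero => simp
    | tmul p b => simp [TensorProduct.smul_tmul']
    | add x y hx hy => simp only [TensorProduct.add_tmul, map_add, hx, hy]
  | add x y hx hy => simp only [map_add, hx, hy]

theorem isComodHom_coeff (g : V →ₗ[k] k) : Hoch.IsComodHom A (coeff A g) :=
  LinearMap.ext fun v => comul_coeff g v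

theorem coeff_counit (a : A) :
    coeff A (CoalgebraStruct.counit (R := k) (A := A)) a = a := by
  rw [coeff_apply, show Comod.coact (k := k) (A := A) a = CoalgebraStruct.comul (R := k) a from rfl]
  simp [sliceL, Coalgebra.rTensor_counit_comul]

end Ring

section Field

variable {k : Type u} [Field k] {A : Type v} [AddCommGroup A] [Module k A] [Coalgebra k A]
  {V : Type w} [AddCommGroup V] [Module k V] [Comod k A V]
  {W : Type w'} [AddCommGroup W] [Module k W] [Comod k A W]

theorem span_singleton_restrictScalars (v : V) :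
    (Submodule.span (DualAlg k A) {v}).restrictScalars k = gen k A {v} := by
  apply le_antisymm
  · intro x hx
    obtain ⟨φ, rfl⟩ := Submodule.mem_span_singleton.1 hx
    exact Submodule.subset_span ⟨φ.val, v, rfl, rfl⟩
  · rw [gen, Submodule.span_le]
    rintro _ ⟨φ, w, hw, rfl⟩
    rw [Set.mem_singleton_iff.1 hw]
    exact Submodule.smul_mem _ (DualAlg.mk φ) (Submodule.mem_span_singleton_self v)

instance finite_span_singleton_dual (v : V) :
    Module.Finite k ↥(Submodule.span (DualAlg k A) {v}) := by
  have h : Module.Finite k ↥((Submodule.span (DualAlg k A) {v}).restrictScalars k) := by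
    rw [span_singleton_restrictScalars]
    exact finite_gen (Set.finite_singleton v)
  exact h

/-- Any nonzero submodule contains a simple one. -/
theorem exists_simple_le {p : Submodule (DualAlg k A) V} (hp : p ≠ ⊥) :
    ∃ m ≤ p, IsSimpleModule (DualAlg k A) m := by
  obtain ⟨x, hxp, hx⟩ := Submodule.exists_mem_ne_zero_of_ne_bot hp
  haveI : IsArtinian (DualAlg k A) ↥(Submodule.span (DualAlg k A) {x}) :=
    isArtinian_of_tower k inferInstance
  haveI : Nontrivial ↥(Submodule.span (DualAlg k A) {x}) := by
    refine Submodule.nontrivial_iff_ne_bot.2 ?_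
    simpa [Submodule.span_singleton_eq_bot] using hx
  obtain ⟨a, ha⟩ := (eq_bot_or_exists_atom_le (⊤ : Submodule (DualAlg k A) ↥(Submodule.span (DualAlg k A) {x}))).resolve_left top_ne_bot
  refine ⟨a.map (Submodule.span (DualAlg k A) {x}).subtype,
    (Submodule.map_subtype_le _ a).trans ((Submodule.span_singleton_le_iff_mem x p).2 hxp), ?_⟩
  haveI : IsSimpleModule (DualAlg k A) a := isSimpleModule_iff_isAtom.2 ha.1
  exact IsSimpleModule.congr
    (Submodule.equivMapOfInjective _ (Submodule.injective_subtype _) a).symm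

theorem finite_of_isSimpleModule (h : IsSimpleModule (DualAlg k A) V) : Module.Finite k V := by
  haveI := h
  haveI := IsSimpleModule.nontrivial (DualAlg k A) V
  obtain ⟨x, hx⟩ := exists_ne (0 : V)
  have := finite_span_singleton_dual (k := k) (A := A) x
  rw [IsSimpleModule.span_singleton_eq_top (DualAlg k A) hx] at this
  exact Module.Finite.equiv ((Submodule.topEquiv (R := DualAlg k A) (M := V)).restrictScalars k)

/-- If the regular comodule is semisimple, so is every comodule. -/
theorem isSemisimpleModule_of_regular [IsSemisimpleModule (DualAlg k A) A] :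
    IsSemisimpleModule (DualAlg k A) V := by
  refine isSemisimpleModule_of_isSemisimpleModule_submodule'
    (p := fun v : V => Submodule.span (DualAlg k A) {v}) (fun v => ?_) ?_
  · set q := Submodule.span (DualAlg k A) {v}
    let b := Module.Free.chooseBasis k q
    choose g hg using fun i => LinearMap.exists_extend (p := q.restrictScalars k) (b.coord i)
    let Φ : q →ₗ[DualAlg k A] (Module.Free.ChooseBasisIndex k q → A) :=
      LinearMap.pi fun i => (homLin (coeff A (g i)) (isComodHom_coeff (g i))).comp q.subtype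
    haveI : IsSemisimpleModule (DualAlg k A) (Module.Free.ChooseBasisIndex k q → A) :=
      IsSemisimpleModule.congr (Finsupp.linearEquivFunOnFinite (DualAlg k A) A _).symm
    refine IsSemisimpleModule.of_injective Φ ((injective_iff_map_eq_zero Φ).2 fun x hx => ?_)
    apply b.forall_coord_eq_zero_iff.1
    intro i
    have := congrArg (CoalgebraStruct.counit (R := k) (A := A)) (congrFun hx i)
    simp only [Φ, LinearMap.pi_apply, LinearMap.comp_apply, Submodule.coe_subtype, homLin_apply,
      apply_coeff, actL_counit, Pi.zero_apply, map_zero] at this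
    rw [← hg i]
    exact this
  · rw [eq_top_iff]
    exact fun v _ => Submodule.mem_iSup_of_mem v (Submodule.mem_span_singleton_self v)

omit [Coalgebra k A] [Comod k A V] in
theorem mem_range_lTensor_subtype_iff (B : Submodule k A) (x : V ⊗[k] A) :
    x ∈ LinearMap.range (B.subtype.lTensor V) ↔ ∀ g : V →ₗ[k] k, sliceL g x ∈ B := by
  constructor
  · rintro ⟨y, rfl⟩ g
    rw [sliceL_lTensor]
    exact (sliceL g y).2
  · intro h
    have hex : Function.Exact (B.subtype.lTensor V) (B.mkQ.lTensor V) :=
      lTensor_exact V (LinearMap.exact_subtype_mkQ B) B.mkQ_surjective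
    refine (hex x).1 ?_
    have bV := Module.Free.chooseBasis k V
    apply (TensorProduct.equivFinsuppOfBasisLeft bV (N := A ⧸ B)).injective
    ext i
    have : ∀ z : V ⊗[k] (A ⧸ B),
        TensorProduct.equivFinsuppOfBasisLeft bV z i = sliceL (bV.coord i) z := by
      intro z
      induction z using TensorProduct.induction_on with
      | zero => simp
      | tmul v a => simp
      | add x y hx hy => simp [hx, hy]
    rw [this, sliceL_lTensor, map_zero, Finsupp.zero_apply]
    exact (Submodule.Quotient.mk_eq_zero B).2 (h _)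

/-- The span of the coefficients along a submodule, as a submodule of the regular comodule. -/
def coeffIn (p : Submodule (DualAlg k A) V) : Submodule (DualAlg k A) A :=
  ⨆ g : V →ₗ[k] k, p.map (homLin (coeff A g) (isComodHom_coeff g))

theorem coeff_mem_coeffIn {p : Submodule (DualAlg k A) V} {v : V} (hv : v ∈ p) (g : V →ₗ[k] k) :
    coeff A g v ∈ coeffIn p :=
  Submodule.mem_iSup_of_mem g ⟨v, hv, rfl⟩

theorem coeffIn_le {p : Submodule (DualAlg k A) V} {q : Submodule (DualAlg k A) A}
    (h : ∀ (g : V →ₗ[k] k), ∀ v ∈ p, coeff A g v ∈ q) : coeffIn p ≤ q := by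
  refine iSup_le fun g => ?_
  rintro _ ⟨v, hv, rfl⟩
  exact h g v hv

theorem restrictScalars_coeffIn_le {p : Submodule (DualAlg k A) V} {B : Submodule k A}
    (h : ∀ (g : V →ₗ[k] k), ∀ v ∈ p, coeff A g v ∈ B) : (coeffIn p).restrictScalars k ≤ B := by
  intro x hx
  induction hx using Submodule.iSup_induction' with
  | mem g y hy =>
    obtain ⟨v, hv, rfl⟩ := hy
    exact h g v hv
  | zero => exact zero_mem B
  | add y z _ _ hy hz => exact add_mem hy hz

theorem isSubcoalg_coeffIn (p : Submodule (DualAlg k A) V) :
    IsSubcoalg (k := k) ((coeffIn p).restrictScalars k) := by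
  intro x hx
  rw [mem_range_map_subtype_iff]
  refine ⟨fun φ => (coeffIn p).smul_mem (DualAlg.mk φ) hx, fun h => ?_⟩
  induction hx using Submodule.iSup_induction' with
  | mem g y hy =>
    obtain ⟨v, hv, rfl⟩ := hy
    rw [homLin_apply, comul_coeff, sliceL_rTensor]
    exact coeff_mem_coeffIn hv _
  | zero => rw [map_zero, map_zero]; exact zero_mem _
  | add y z _ _ hy hz => rw [map_add, map_add]; exact add_mem hy hz

theorem le_coeffIn (p : Submodule (DualAlg k A) A) : p ≤ coeffIn p := fun x hx => by
  rw [← coeff_counit (k := k) x]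
  exact coeff_mem_coeffIn hx _

theorem coeffIn_le_of_le_subcoalg {p : Submodule (DualAlg k A) A} {B : Submodule k A}
    (hB : IsSubcoalg (k := k) B) (hpB : p.restrictScalars k ≤ B) :
    (coeffIn p).restrictScalars k ≤ B :=
  restrictScalars_coeffIn_le fun g v hv => ((mem_range_map_subtype_iff B _).1 (hB v (hpB hv))).2 g

theorem coeff_eq_coeff_of_map {p : Submodule (DualAlg k A) V} (f : p →ₗ[DualAlg k A] W) (g : V →ₗ[k] k)
    (h : W →ₗ[k] k) (hg : ∀ x : p, g x = h (f x)) (x : p) : coeff A g (x : V) = coeff A h (f x) := by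
  rw [← sub_eq_zero, ← Module.forall_dual_apply_eq_zero_iff k]
  intro φ
  rw [map_sub, apply_coeff, apply_coeff, sub_eq_zero]
  exact (hg (DualAlg.mk φ • x)).trans (congrArg h (f.map_smul (DualAlg.mk φ) x))

theorem coeffIn_eq_of_equiv {p : Submodule (DualAlg k A) V} {q : Submodule (DualAlg k A) W}
    (e : p ≃ₗ[DualAlg k A] q) : coeffIn p = coeffIn q := by
  apply le_antisymm <;> refine coeffIn_le fun g v hv => ?_
  · obtain ⟨h, hh⟩ := LinearMap.exists_extend (p := q.restrictScalars k)
      ((g ∘ₗ p.subtype.restrictScalars k) ∘ₗ (e.symm.toLinearMap.restrictScalars k))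
    rw [coeff_eq_coeff_of_map (q.subtype ∘ₗ e.toLinearMap) g h (fun x => ?_) ⟨v, hv⟩]
    · exact coeff_mem_coeffIn (e _).2 h
    · have h1 : h (e x : W) = g (e.symm (e x) : V) := LinearMap.congr_fun hh (e x)
      rw [LinearEquiv.symm_apply_apply] at h1
      exact h1.symm
  · obtain ⟨h, hh⟩ := LinearMap.exists_extend (p := p.restrictScalars k)
      ((g ∘ₗ q.subtype.restrictScalars k) ∘ₗ (e.toLinearMap.restrictScalars k))
    rw [coeff_eq_coeff_of_map (p.subtype ∘ₗ e.symm.toLinearMap) g h (fun x => ?_) ⟨v, hv⟩]
    · exact coeff_mem_coeffIn (e.symm _).2 h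
    · have h1 : h (e.symm x : V) = g (e (e.symm x) : W) := LinearMap.congr_fun hh (e.symm x)
      rw [LinearEquiv.apply_symm_apply] at h1
      exact h1.symm

theorem coeffIn_le_isotypicComponent (m : Submodule (DualAlg k A) V) [IsSimpleModule (DualAlg k A) m] :
    coeffIn m ≤ isotypicComponent (DualAlg k A) A m := by
  refine iSup_le fun g => ?_
  let f := (homLin (coeff A g) (isComodHom_coeff g)).comp m.subtype
  have hr : m.map (homLin (coeff A g) (isComodHom_coeff g)) = LinearMap.range f := by
    rw [LinearMap.range_comp, Submodule.range_subtype]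
  rw [hr]
  rcases LinearMap.injective_or_eq_zero f with h | h
  · exact le_sSup ⟨(LinearEquiv.ofInjective f h).symm⟩
  · rw [h, LinearMap.range_zero]
    exact bot_le

theorem linearEquiv_of_le_coeffIn {m : Submodule (DualAlg k A) V} [IsSimpleModule (DualAlg k A) m]
    {n : Submodule (DualAlg k A) A} [IsSimpleModule (DualAlg k A) n] (h : n ≤ coeffIn m) :
    Nonempty (n ≃ₗ[DualAlg k A] m) := by
  let n' : Submodule (DualAlg k A) ↥(isotypicComponent (DualAlg k A) A m) :=
    n.comap (isotypicComponent (DualAlg k A) A m).subtype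
  have e : n' ≃ₗ[DualAlg k A] n :=
    Submodule.comapSubtypeEquivOfLe (h.trans (coeffIn_le_isotypicComponent m))
  haveI : IsSimpleModule (DualAlg k A) n' := IsSimpleModule.congr e
  obtain ⟨f⟩ := IsIsotypicOfType.isotypicComponent (R := DualAlg k A) (M := A) (S := m) n'
  exact ⟨e.symm.trans f⟩

/-- Simple subcoalgebra. -/
abbrev IsSimpleSubcoalg (D : Submodule k A) : Prop :=
  D ≠ ⊥ ∧ IsSubcoalg (k := k) D ∧
    ∀ B : Submodule k A, B ≤ D → IsSubcoalg (k := k) B → B = ⊥ ∨ B = D

theorem isSimpleSubcoalg_coeffIn (m : Submodule (DualAlg k A) V) [IsSimpleModule (DualAlg k A) m] :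
    IsSimpleSubcoalg ((coeffIn m).restrictScalars k) := by
  refine ⟨fun h => ?_, isSubcoalg_coeffIn m, fun B hB hBc => ?_⟩
  · haveI := IsSimpleModule.nontrivial (DualAlg k A) m
    obtain ⟨x, hx⟩ := exists_ne (0 : m)
    refine hx (Subtype.ext ((Module.forall_dual_apply_eq_zero_iff k _).1 fun g => ?_))
    have hz : coeff A g (x : V) ∈ (coeffIn m).restrictScalars k := coeff_mem_coeffIn x.2 g
    rw [h, Submodule.mem_bot] at hz
    simpa [apply_coeff, actL_counit] using congrArg (CoalgebraStruct.counit (R := k) (A := A)) hz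
  · by_cases hB0 : B = ⊥
    · exact Or.inl hB0
    refine Or.inr (le_antisymm hB ?_)
    let B' := toSub B hBc.isSubcomod
    have hB' : B' ≠ ⊥ := fun e => hB0 (by rw [← restrictScalars_toSub B hBc.isSubcomod]; rw [show toSub B hBc.isSubcomod = ⊥ from e]; rfl)
    obtain ⟨n, hn, hns⟩ := exists_simple_le hB'
    haveI := hns
    obtain ⟨e⟩ := linearEquiv_of_le_coeffIn (m := m) (n := n) (hn.trans hB)
    rw [← coeffIn_eq_of_equiv e]
    exact coeffIn_le_of_le_subcoalg hBc hn

theorem exists_simple_coeffIn_eq {D : Submodule k A} (hD : IsSimpleSubcoalg D) :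
    ∃ m : Submodule (DualAlg k A) A, IsSimpleModule (DualAlg k A) m ∧
      m.restrictScalars k ≤ D ∧ (coeffIn m).restrictScalars k = D := by
  have hne : toSub D hD.2.1.isSubcomod ≠ ⊥ := fun e => hD.1 (by
    rw [← restrictScalars_toSub D hD.2.1.isSubcomod, e]; rfl)
  obtain ⟨m, hm, hms⟩ := exists_simple_le hne
  haveI := hms
  refine ⟨m, hms, hm, (hD.2.2 _ (coeffIn_le_of_le_subcoalg hD.2.1 hm) (isSubcoalg_coeffIn m)).resolve_left
    (isSimpleSubcoalg_coeffIn m).1⟩

theorem restrictScalars_coeffIn_top :
    (coeffIn (⊤ : Submodule (DualAlg k A) V)).restrictScalars k = coeffs k A V := by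
  apply le_antisymm
  · exact restrictScalars_coeffIn_le fun g v _ => Submodule.subset_span ⟨g, v, rfl⟩
  · rw [coeffs, Submodule.span_le]
    rintro _ ⟨g, v, rfl⟩
    exact coeff_mem_coeffIn Submodule.mem_top g

theorem isLeast_coeffs :
    IsLeast {D' : Submodule k A | ∀ e : V,
      Comod.coact (k := k) (A := A) e ∈ LinearMap.range (LinearMap.lTensor V D'.subtype)} (coeffs k A V) := by
  refine ⟨fun e => (mem_range_lTensor_subtype_iff _ _).2 fun g => Submodule.subset_span ⟨g, e, rfl⟩,
    fun D hD => ?_⟩
  rw [coeffs, Submodule.span_le]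
  rintro _ ⟨g, v, rfl⟩
  exact (mem_range_lTensor_subtype_iff D _).1 (hD v) g

end Field

end

end Groth.Agent.H20Comod
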