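import Groth.Agent.H20Comod.Slices
import Groth.Agent.H20Comod.DualMod
import Groth.Prelude.Def_ComodTens
import Groth.Prelude.Def_SGA3
import Mathlib.RingTheory.Coalgebra.GroupLike
import Mathlib.RingTheory.HopfAlgebra.Quotient
import Groth.Agent.H20FF.SubHopf

/-!
Stabilisers of lines spanned by pure tensors.
-/

set_option autoImplicit false

universe u v w w'

open TensorProduct HopfRep

namespace Groth.Agent.H20Comod

noncomputable section

variable {k : Type u} [Field k] {A : Type u} [CommRing A] [HopfAlgebra k A]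

theorem stabLine_iff_forall_basis {V : Type v} [AddCommGroup V] [Module k V] [Comod k A V] {ι : Type w}
    [Fintype ι] (b : Module.Basis ι k V) (v : V) (R : Type u) [CommRing R] [Algebra k R] (g : A →ₐ[k] R) (c : R) :
    g.toLinearMap.lTensor V (Comod.coact (k := k) (A := A) v) = v ⊗ₜ[k] c ↔
      ∀ i, g (coeff A (b.coord i) v) = b.coord i v • c := by
  refine ⟨fun h i => ?_, fun h => ?_⟩
  · have h1 := congrArg (sliceL (b.coord i)) h
    rwa [sliceL_lTensor, sliceL_tmul] at h1
  · rw [eq_sum_basis_tmul_sliceL b (g.toLinearMap.lTensor V _), eq_sum_basis_tmul_sliceL b (v ⊗ₜ[k] c)]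
    refine Finset.sum_congr rfl fun i _ => ?_
    rw [sliceL_lTensor, sliceL_tmul]
    exact congrArg _ (h i)

/-- The coordinates of a moved nonzero vector generate the unit ideal. -/
theorem exists_sum_mul_coeff_eq_one {V : Type v} [AddCommGroup V] [Module k V] [Comod k A V] {ι : Type w}
    [Fintype ι] (b : Module.Basis ι k V) {v : V} (hv : v ≠ 0) (R : Type u) [CommRing R] [Algebra k R]
    (g : A →ₐ[k] R) : ∃ a : ι → R, ∑ i, a i * g (coeff A (b.coord i) v) = 1 := by
  obtain ⟨ξ, hξ⟩ : ∃ ξ : V →ₗ[k] k, ξ v = 1 := by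
    obtain ⟨ξ, hξ⟩ := Module.Projective.exists_dual_ne_zero k hv
    exact ⟨(ξ v)⁻¹ • ξ, by simp [hξ]⟩
  refine ⟨fun i => g (HopfAlgebra.antipode k (coeff A ξ (b i))), ?_⟩
  have h := congrArg g (HopfAlgebra.mul_antipode_rTensor_comul_apply (R := k) (coeff A ξ v))
  rw [apply_coeff, actL_counit, hξ, map_one, map_one, comul_coeff,
    eq_sum_basis_tmul_sliceL b (Comod.coact (k := k) (A := A) v), map_sum, map_sum, map_sum, map_sum] at h
  refine Eq.trans (Finset.sum_congr rfl fun i _ => ?_) h
  simp [coeff_apply]

theorem coeff_tensor {V : Type v} [AddCommGroup V] [Module k V] {W : Type w} [AddCommGroup W] [Module k W]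
    (c : Comod k A V) (d : Comod k A W) (ξ : V →ₗ[k] k) (φ : W →ₗ[k] k) (v : V) (w : W) :
    (letI := ComodTens.Comod.tensor c d; coeff A (LinearMap.mul' k k ∘ₗ TensorProduct.map ξ φ) (v ⊗ₜ[k] w)) =
      (letI := c; coeff A ξ v) * (letI := d; coeff A φ w) := by
  letI := c; letI := d
  show sliceL _ ((ComodTens.Comod.tensor c d).coact (v ⊗ₜ[k] w)) = sliceL ξ (c.coact v) * sliceL φ (d.coact w)
  rw [ComodTens.tensor_coact_tmul]
  generalize c.coact v = x
  generalize d.coact w = y
  induction x using TensorProduct.induction_on with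
  | zero => simp
  | tmul p a =>
    induction y using TensorProduct.induction_on with
    | zero => simp
    | tmul q e => simp [smul_smul, mul_comm]
    | add u v hu hv => simp only [TensorProduct.tmul_add, map_add, mul_add, hu, hv]
  | add u v hu hv => simp only [TensorProduct.add_tmul, map_add, add_mul, hu, hv]

theorem coord_tensor {V : Type v} [AddCommGroup V] [Module k V] {W : Type w} [AddCommGroup W] [Module k W]
    {ι : Type w'} {κ : Type w'} (b : Module.Basis ι k V) (e : Module.Basis κ k W) (p : ι × κ) :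
    (b.tensorProduct e).coord p = LinearMap.mul' k k ∘ₗ TensorProduct.map (b.coord p.1) (e.coord p.2) := by
  obtain ⟨i, j⟩ := p
  refine TensorProduct.ext' fun v w => ?_
  simp [Module.Basis.tensorProduct_repr_tmul_apply, mul_comm]

theorem stabilizesLine_tensor_iff {V : Type v} [AddCommGroup V] [Module k V] [Module.Finite k V]
    {W : Type w} [AddCommGroup W] [Module k W] [Module.Finite k W]
    (c : Comod k A V) (d : Comod k A W) {v : V} {w : W} (hv : v ≠ 0) (hw : w ≠ 0)
    (R : Type u) [CommRing R] [Algebra k R] (g : A →ₐ[k] R) :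
    (letI := ComodTens.Comod.tensor c d; SGA3.StabilizesLine k A (v ⊗ₜ[k] w) R g) ↔
      (letI := c; SGA3.StabilizesLine k A v R g) ∧ (letI := d; SGA3.StabilizesLine k A w R g) := by
  classical
  letI := c; letI := d
  let b := Module.finBasis k V
  let e := Module.finBasis k W
  constructor
  · rintro ⟨C, hC⟩
    have h : ∀ i j, g (coeff A (b.coord i) v) * g (coeff A (e.coord j) w) =
        (b.coord i v * e.coord j w) • C := by
      intro i j
      have h1 := (@stabLine_iff_forall_basis k _ A _ _ _ _ _ (ComodTens.Comod.tensor c d) _ _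
        (b.tensorProduct e) (v ⊗ₜ[k] w) R _ _ g C).1 hC (i, j)
      rw [coord_tensor, coeff_tensor, map_mul] at h1
      refine h1.trans ?_
      simp
    obtain ⟨a, ha⟩ := exists_sum_mul_coeff_eq_one e hw R g
    obtain ⟨a', ha'⟩ := exists_sum_mul_coeff_eq_one b hv R g
    refine ⟨⟨∑ j, e.coord j w • (a j * C), (stabLine_iff_forall_basis b v R g _).2 fun i => ?_⟩,
      ⟨∑ i, b.coord i v • (a' i * C), (stabLine_iff_forall_basis e w R g _).2 fun j => ?_⟩⟩
    · calc g (coeff A (b.coord i) v) = g (coeff A (b.coord i) v) * ∑ j, a j * g (coeff A (e.coord j) w) := by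
            rw [ha, mul_one]
        _ = ∑ j, a j * ((b.coord i v * e.coord j w) • C) := by
            rw [Finset.mul_sum]
            exact Finset.sum_congr rfl fun j _ => by rw [← h i j]; ring
        _ = _ := by
            rw [Finset.smul_sum]
            exact Finset.sum_congr rfl fun j _ => by rw [mul_smul_comm, mul_smul]
    · calc g (coeff A (e.coord j) w) = g (coeff A (e.coord j) w) * ∑ i, a' i * g (coeff A (b.coord i) v) := by
            rw [ha', mul_one]
        _ = ∑ i, a' i * ((b.coord i v * e.coord j w) • C) := by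
            rw [Finset.mul_sum]
            exact Finset.sum_congr rfl fun i _ => by rw [← h i j]; ring
        _ = _ := by
            rw [Finset.smul_sum]
            exact Finset.sum_congr rfl fun i _ => by rw [mul_smul_comm, mul_comm (b.coord i v), mul_smul]
  · rintro ⟨⟨C, hC⟩, ⟨D, hD⟩⟩
    refine ⟨C * D, (@stabLine_iff_forall_basis k _ A _ _ _ _ _ (ComodTens.Comod.tensor c d) _ _
        (b.tensorProduct e) (v ⊗ₜ[k] w) R _ _ g (C * D)).2 fun p => ?_⟩
    rw [coord_tensor, coeff_tensor, map_mul, (stabLine_iff_forall_basis b v R g C).1 hC,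
      (stabLine_iff_forall_basis e w R g D).1 hD]
    simp [smul_smul, mul_comm]

theorem lTensor_tensor_eq {V : Type v} [AddCommGroup V] [Module k V] {W : Type w} [AddCommGroup W] [Module k W]
    (c : Comod k A V) (d : Comod k A W) {v : V} {w : W}
    (R : Type u) [CommRing R] [Algebra k R] (g : A →ₐ[k] R) {C D : R}
    (hC : g.toLinearMap.lTensor V (c.coact v) = v ⊗ₜ[k] C) (hD : g.toLinearMap.lTensor W (d.coact w) = w ⊗ₜ[k] D) :
    g.toLinearMap.lTensor (V ⊗[k] W) ((ComodTens.Comod.tensor c d).coact (v ⊗ₜ[k] w)) =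
      (v ⊗ₜ[k] w) ⊗ₜ[k] (C * D) := by
  have h : ∀ (x : V ⊗[k] A) (y : W ⊗[k] A),
      g.toLinearMap.lTensor (V ⊗[k] W) (TensorProduct.map LinearMap.id (LinearMap.mul' k A)
        (AlgebraTensorModule.tensorTensorTensorComm k k k k V A W A (x ⊗ₜ[k] y))) =
      TensorProduct.map LinearMap.id (LinearMap.mul' k R)
        (AlgebraTensorModule.tensorTensorTensorComm k k k k V R W R
          (g.toLinearMap.lTensor V x ⊗ₜ[k] g.toLinearMap.lTensor W y)) := by
    intro x y
    induction x using TensorProduct.induction_on with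
    | zero => simp
    | tmul p a =>
      induction y using TensorProduct.induction_on with
      | zero => simp
      | tmul q e => simp
      | add u v hu hv => simp only [TensorProduct.tmul_add, map_add, hu, hv]
    | add u v hu hv => simp only [TensorProduct.add_tmul, map_add, hu, hv]
  rw [ComodTens.tensor_coact_tmul, h, hC, hD]
  simp

theorem isHopfIdeal_ker_bialgHom {B : Type u} [CommRing B] [HopfAlgebra k B] (π : A →ₐc[k] B)
    (hπ : Function.Surjective π) : (RingHom.ker (π : A →+* B)).IsHopfIdeal k := by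
  let K : Submodule k A := (RingHom.ker (π : A →+* B)).restrictScalars k
  have hK : ∀ x, x ∈ K ↔ π x = 0 := fun x => Iff.rfl
  have hfac : ∀ x : A, TensorProduct.map (π : A →ₗ[k] B) (π : A →ₗ[k] B) (CoalgebraStruct.comul (R := k) x) =
      CoalgebraStruct.comul (R := k) (π x) := fun x => LinearMap.congr_fun (CoalgHomClass.map_comp_comul π) x
  haveI : K.IsCoideal := by
    refine Submodule.IsCoideal.mk (fun x hx => ?_) (fun x hx => ?_)
    · have h := LinearMap.congr_fun (CoalgHomClass.counit_comp π) x
      simp only [LinearMap.comp_apply] at h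
      rw [← h]
      erw [(hK x).1 hx]
      exact map_zero _
    · obtain ⟨s, hs⟩ := (π : A →ₗ[k] B).exists_rightInverse_of_surjective (LinearMap.range_eq_top.2 hπ)
      have he : (K.mkQ ∘ₗ s) ∘ₗ (π : A →ₗ[k] B) = K.mkQ := LinearMap.ext fun y => by
        refine (Submodule.Quotient.eq K).2 ((hK _).2 ?_)
        rw [map_sub, sub_eq_zero]
        exact LinearMap.congr_fun hs (π y)
      rw [← he, TensorProduct.map_comp, LinearMap.comp_apply, hfac, (hK x).1 hx, map_zero, map_zero]
  exact { (inferInstance : K.IsCoideal) with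
    antipode_mem := fun x hx => by
      show π (HopfAlgebra.antipode k x) = 0
      rw [H20FF.map_antipode π x, (hK x).1 hx, map_zero] }

end

end Groth.Agent.H20Comod
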