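import Groth.Agent.H20Comod.Slices
import Groth.Agent.H20Comod.DualMod
import Groth.Prelude.Def_ComodTens
import Groth.Prelude.Def_ComodSub
import Groth.Prelude.Def_SGA3
import Groth.Prelude.Def_Dyn
import Mathlib.LinearAlgebra.Matrix.Adjugate
import Mathlib.RingTheory.FiniteType
import Mathlib.RingTheory.HopfAlgebra.Quotient
import Mathlib.LinearAlgebra.Basis.VectorSpace
import Mathlib.LinearAlgebra.FreeModule.Finite.Basic
import Mathlib.LinearAlgebra.Dimension.Free

/-!
Chevalley's theorem: a closed subgroup scheme is the stabiliser of a line.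
-/

set_option autoImplicit false

universe u v w

open TensorProduct HopfRep

namespace Groth.Agent.H20Comod

noncomputable section

variable {k : Type u} [Field k] {A : Type u} [CommRing A] [HopfAlgebra k A]

theorem eq_of_forall_proj_rTensor {ι : Type v} {R : Type w} [AddCommGroup R] [Module k R]
    {x y : (ι → A) ⊗[k] R} (h : ∀ i, (LinearMap.proj i : (ι → A) →ₗ[k] A).rTensor R x =
      (LinearMap.proj i : (ι → A) →ₗ[k] A).rTensor R y) : x = y := by
  rw [← sub_eq_zero]
  refine eq_zero_of_forall_sliceR fun f => funext fun i => ?_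
  show (LinearMap.proj i : (ι → A) →ₗ[k] A) (sliceR f (x - y)) = 0
  rw [← sliceR_rTensor, map_sub, h i, sub_self, map_zero]

theorem stabilizesLine_restr_pi_iff {ι : Type} [Fintype ι] [DecidableEq ι] (vv : ι → A)
    (V : Submodule k (ι → A))
    (hV : letI := ComodTens.Comod.pi (fun _ : ι => (inferInstance : Comod k A A));
      IsSubcomod (k := k) (A := A) V) (hvV : vv ∈ V) (R : Type u) [CommRing R] [Algebra k R] (g : A →ₐ[k] R) :
    (letI := ComodSub.Comod.restr (ComodTens.Comod.pi (fun _ : ι => (inferInstance : Comod k A A))) V hV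
     SGA3.StabilizesLine k A (⟨vv, hvV⟩ : V) R g) ↔
      ∃ c : R, ∀ J, TensorProduct.map (LinearMap.id : A →ₗ[k] A) g.toLinearMap
        (CoalgebraStruct.comul (R := k) (vv J)) = vv J ⊗ₜ[k] c := by
  set cV := ComodTens.Comod.pi (fun _ : ι => (inferInstance : Comod k A A))
  have hproj : ∀ (J) (z : ι → A),
      (LinearMap.proj J : _ →ₗ[k] A).rTensor A (cV.coact z) = CoalgebraStruct.comul (R := k) (z J) := by
    intro J z
    show (LinearMap.proj J : _ →ₗ[k] A).rTensor A ((∑ l, (LinearMap.single k _ l).rTensor A ∘ₗ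
      Comod.coact (k := k) (A := A) ∘ₗ LinearMap.proj l : _ →ₗ[k] _) z) = _
    rw [LinearMap.sum_apply, map_sum, Finset.sum_eq_single J]
    · rw [LinearMap.comp_apply, ← LinearMap.rTensor_comp_apply, LinearMap.proj_comp_single_same,
        LinearMap.rTensor_id, LinearMap.id_apply]
      rfl
    · intro l _ hl
      rw [LinearMap.comp_apply, ← LinearMap.rTensor_comp_apply, LinearMap.proj_comp_single_ne k _ J l hl.symm,
        LinearMap.rTensor_zero, LinearMap.zero_apply]
    · simp
  have hcomm : ∀ {U : Type u} [AddCommGroup U] [Module k U] (f : U →ₗ[k] A) (y : U ⊗[k] A),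
      f.rTensor R (g.toLinearMap.lTensor U y) =
        TensorProduct.map (LinearMap.id : A →ₗ[k] A) g.toLinearMap (f.rTensor A y) := by
    intro U _ _ f y
    induction y using TensorProduct.induction_on with
    | zero => simp
    | tmul p a => simp
    | add u v hu hv => simp only [map_add, hu, hv]
  have hcoe : ∀ J, (LinearMap.proj J ∘ₗ V.subtype).rTensor A
      ((ComodSub.Comod.restr cV V hV).coact ⟨vv, hvV⟩) = CoalgebraStruct.comul (R := k) (vv J) := fun J => by
    rw [LinearMap.rTensor_comp_apply, ComodSub.restr_coact_coe, hproj]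
  refine exists_congr fun c => ⟨fun h J => ?_, fun h => ?_⟩
  · have h1 := congrArg ((LinearMap.proj J ∘ₗ V.subtype).rTensor R) h
    rwa [hcomm, hcoe, LinearMap.rTensor_tmul] at h1
  · apply Module.Flat.rTensor_preserves_injective_linearMap (M := R) V.subtype V.injective_subtype
    refine eq_of_forall_proj_rTensor fun J => ?_
    rw [← LinearMap.rTensor_comp_apply, ← LinearMap.rTensor_comp_apply, hcomm, hcoe, LinearMap.rTensor_tmul]
    exact h J

theorem exists_adapted_basis {W : Type v} [AddCommGroup W] [Module k W] [Module.Finite k W] {Q : Type w}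
    [AddCommGroup Q] [Module k Q] (f : W →ₗ[k] Q) :
    ∃ (d e : ℕ) (b : Module.Basis (Fin d ⊕ Fin e) k W),
      (∀ j, f (b (Sum.inl j)) = 0) ∧
      (∀ x, f x = 0 → x ∈ Submodule.span k (Set.range fun j => b (Sum.inl j))) ∧
      LinearIndependent k fun i => f (b (Sum.inr i)) := by
  obtain ⟨U', hU'⟩ := Submodule.exists_isCompl (LinearMap.ker f)
  haveI : Module.Free k (LinearMap.ker f) := Module.Free.of_divisionRing k (LinearMap.ker f)
  haveI : Module.Free k U' := Module.Free.of_divisionRing k U'
  let bU := Module.finBasis k (LinearMap.ker f)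
  let bU' := Module.finBasis k U'
  refine ⟨_, _, (bU.prod bU').map (Submodule.prodEquivOfIsCompl _ U' hU'), fun j => ?_, fun x hx => ?_, ?_⟩
  · simp
  · have h3 : (fun j => ((bU.prod bU').map (Submodule.prodEquivOfIsCompl _ U' hU')) (Sum.inl j)) =
        (LinearMap.ker f).subtype ∘ bU := funext fun j => by simp
    rw [h3, Set.range_comp, ← Submodule.map_span, bU.span_eq]
    exact ⟨⟨x, hx⟩, trivial, rfl⟩
  · have h1 : (fun i => f (((bU.prod bU').map (Submodule.prodEquivOfIsCompl _ U' hU')) (Sum.inr i))) =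
        f.domRestrict U' ∘ bU' := funext fun i => by simp
    rw [h1]
    refine bU'.linearIndependent.map' (f.domRestrict U') ?_
    rw [LinearMap.ker_eq_bot']
    intro x hx
    exact Subtype.ext ((Submodule.eq_bot_iff _).1 hU'.inf_eq_bot (x : W) ⟨hx, x.2⟩)

theorem kills_ideal_iff {I : Ideal A} [I.IsHopfIdeal k] {W : Submodule k A} {s : Set A} (hs : Ideal.span s = I)
    (hsW : s ⊆ W) {d e : ℕ} (b : Module.Basis (Fin d ⊕ Fin e) k W)
    (hbl : ∀ j, ((b (Sum.inl j) : W) : A) ∈ I)
    (hbs : ∀ x : W, (x : A) ∈ I → x ∈ Submodule.span k (Set.range fun j => b (Sum.inl j)))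
    (hbr : LinearIndependent k fun i => Ideal.Quotient.mkₐ k I ((b (Sum.inr i) : W) : A))
    (m : Fin d ⊕ Fin e → Fin d ⊕ Fin e → A)
    (hm : ∀ j, Comod.coact (k := k) (A := A) ((b j : W) : A) = ∑ i, ((b i : W) : A) ⊗ₜ[k] m i j)
    (R : Type u) [CommRing R] [Algebra k R] (g : A →ₐ[k] R) :
    (∀ a ∈ I, g a = 0) ↔ ∀ i j, g (m (Sum.inr i) (Sum.inl j)) = 0 := by
  classical
  have hε : ∀ x ∈ I, CoalgebraStruct.counit (R := k) x = 0 := fun x hx =>
    Submodule.IsCoideal.counit_eq_zero (R := k) (I := I.restrictScalars k) hx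
  have hΔ : ∀ x ∈ I, TensorProduct.map (Ideal.Quotient.mkₐ k I).toLinearMap (Ideal.Quotient.mkₐ k I).toLinearMap
      (CoalgebraStruct.comul (R := k) x) = 0 := fun x hx =>
    Submodule.IsCoideal.map_mkQ_comul_eq_zero (R := k) (I := I.restrictScalars k) hx
  constructor
  · intro hg i j
    let gb : A ⧸ I →ₐ[k] R := Ideal.Quotient.liftₐ I g hg
    have h0 : TensorProduct.map (Ideal.Quotient.mkₐ k I).toLinearMap g.toLinearMap
        (CoalgebraStruct.comul (R := k) ((b (Sum.inl j) : W) : A)) = 0 := by
      rw [show g.toLinearMap = gb.toLinearMap ∘ₗ (Ideal.Quotient.mkₐ k I).toLinearMap from LinearMap.ext fun a => rfl]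
      show TensorProduct.map (LinearMap.id ∘ₗ (Ideal.Quotient.mkₐ k I).toLinearMap) _ _ = 0
      rw [TensorProduct.map_comp, LinearMap.comp_apply, hΔ _ (hbl j), map_zero]
    rw [show CoalgebraStruct.comul (R := k) ((b (Sum.inl j) : W) : A) =
      Comod.coact (k := k) (A := A) ((b (Sum.inl j) : W) : A) from rfl, hm, map_sum, Fintype.sum_sum_type] at h0
    simp only [TensorProduct.map_tmul, AlgHom.toLinearMap_apply,
      show ∀ l, Ideal.Quotient.mkₐ k I ((b (Sum.inl l) : W) : A) = 0 from fun l =>
        Ideal.Quotient.eq_zero_iff_mem.2 (hbl l), TensorProduct.zero_tmul, Finset.sum_const_zero, zero_add] at h0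
    refine (Module.forall_dual_apply_eq_zero_iff k _).1 fun φ => ?_
    have h1 := congrArg (sliceR φ) h0
    simp only [map_sum, sliceR_tmul, map_zero] at h1
    exact Fintype.linearIndependent_iff.1 hbr (fun l => φ (g (m (Sum.inr l) (Sum.inl j)))) h1 i
  · intro hg a ha
    have hgU : ∀ j, g ((b (Sum.inl j) : W) : A) = 0 := fun j => by
      conv_lhs => rw [← coeff_counit (k := k) ((b (Sum.inl j) : W) : A), coeff_apply, hm]
      simp [Fintype.sum_sum_type, hg, hε _ (hbl _)]
    rw [← hs] at ha
    induction ha using Submodule.span_induction with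
    | mem x hx =>
      obtain ⟨c, hc⟩ := (Submodule.mem_span_range_iff_exists_fun k).1
        (hbs ⟨x, hsW hx⟩ (hs ▸ Submodule.subset_span hx))
      have h4 := congrArg (fun w : W => g (w : A)) hc
      simpa [hgU] using h4.symm
    | zero => exact map_zero g
    | add x y _ _ hx hy => rw [map_add, hx, hy, add_zero]
    | smul r x _ hx => rw [smul_eq_mul, map_mul, hx, mul_zero]

theorem exists_line_stabilizer [IsNoetherianRing A] (I : Ideal A) [I.IsHopfIdeal k] :
    ∃ (V : Type u) (_ : AddCommGroup V) (_ : Module k V) (_ : Comod k A V) (_ : Module.Finite k V) (v : V),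
      v ≠ 0 ∧ Dyn.Represents k A I (fun R _ _ g => SGA3.StabilizesLine k A v R g) := by
  classical
  obtain ⟨s, hs⟩ := IsNoetherian.noetherian I
  obtain ⟨W, hWf, hsW, hW⟩ := exists_finite_subcomod (k := k) (A := A) (V := A) s.finite_toSet
  obtain ⟨d, e, b, hbl, hbs, hbr⟩ := exists_adapted_basis ((Ideal.Quotient.mkₐ k I).toLinearMap ∘ₗ W.subtype)
  obtain ⟨m, hm, hcm, hεm⟩ := exists_matCoeff_of_isSubcomod hW b
  have hkill : ∀ (R : Type u) [CommRing R] [Algebra k R] (g : A →ₐ[k] R),
      (∀ a ∈ I, g a = 0) ↔ ∀ i j, g (m (Sum.inr i) (Sum.inl j)) = 0 :=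
    kills_ideal_iff hs hsW b (fun j => Ideal.Quotient.eq_zero_iff_mem.1 (hbl j))
      (fun x hx => hbs x (Ideal.Quotient.eq_zero_iff_mem.2 hx)) hbr m hm
  -- the Plücker vector
  let top : Fin d → Fin d ⊕ Fin e := Sum.inl
  let P : (Fin d → Fin d ⊕ Fin e) → Matrix (Fin d) (Fin d) A :=
    fun J => Matrix.of fun i j => m (J i) (Sum.inl j)
  let vv : (Fin d → Fin d ⊕ Fin e) → A := fun J => (P J).det
  have hcomul : ∀ (R : Type u) [CommRing R] [Algebra k R] (g : A →ₐ[k] R) J,
      TensorProduct.map (LinearMap.id : A →ₗ[k] A) g.toLinearMap (CoalgebraStruct.comul (R := k) (vv J)) =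
        (Matrix.of fun i j => ∑ l, m (J i) l ⊗ₜ[k] g (m l (Sum.inl j)) : Matrix (Fin d) (Fin d) (A ⊗[k] R)).det := by
    intro R _ _ g J
    show ((Algebra.TensorProduct.map (AlgHom.id k A) g).comp (Bialgebra.comulAlgHom k A)) (P J).det = _
    rw [AlgHom.map_det]
    congr 1
    refine Matrix.ext fun i j => ?_
    show (Algebra.TensorProduct.map (AlgHom.id k A) g) (CoalgebraStruct.comul (R := k) (m (J i) (Sum.inl j))) = _
    rw [hcm, map_sum]
    rfl
  letI cV := ComodTens.Comod.pi (fun _ : Fin d → Fin d ⊕ Fin e => (inferInstance : Comod k A A))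
  obtain ⟨V, hVf, hvV, hV⟩ := exists_finite_subcomod (k := k) (A := A)
    (V := (Fin d → Fin d ⊕ Fin e) → A) (Set.finite_singleton vv)
  refine ⟨V, inferInstance, inferInstance, ComodSub.Comod.restr cV V hV, hVf, ⟨vv, hvV rfl⟩, ?_, ?_⟩
  · intro h0
    have h1 : (P top).det = 0 := congrFun (congrArg Subtype.val h0) top
    have h2 := congrArg (Bialgebra.counitAlgHom k A) h1
    rw [AlgHom.map_det, map_zero] at h2
    refine one_ne_zero (h2.symm.trans ?_).symm
    rw [show (Bialgebra.counitAlgHom k A).mapMatrix (P top) = 1 from Matrix.ext fun i j => by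
      simp [P, top, hεm, Matrix.one_apply], Matrix.det_one]
  intro R _ _ g
  letI cr := ComodSub.Comod.restr cV V hV
  show _ ↔ SGA3.StabilizesLine k A (⟨vv, hvV rfl⟩ : V) R g
  rw [hkill R g]
  have hline : SGA3.StabilizesLine k A (⟨vv, hvV rfl⟩ : V) R g ↔ ∃ c : R, ∀ J,
      (Matrix.of fun i j => ∑ l, m (J i) l ⊗ₜ[k] g (m l (Sum.inl j)) : Matrix (Fin d) (Fin d) (A ⊗[k] R)).det =
        vv J ⊗ₜ[k] c := by
    simp_rw [← hcomul R g]
    exact stabilizesLine_restr_pi_iff vv V hV (hvV rfl) R g
  rw [hline]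
  constructor
  · intro hz
    let N : Matrix (Fin d) (Fin d) R := Matrix.of fun i j => g (m (Sum.inl i) (Sum.inl j))
    refine ⟨N.det, fun J => ?_⟩
    have h2 : (Matrix.of fun i j => ∑ l, m (J i) l ⊗ₜ[k] g (m l (Sum.inl j)) : Matrix (Fin d) (Fin d) (A ⊗[k] R)) =
        (Algebra.TensorProduct.includeLeft : A →ₐ[k] A ⊗[k] R).mapMatrix (P J) *
          (Algebra.TensorProduct.includeRight : R →ₐ[k] A ⊗[k] R).mapMatrix N := by
      refine Matrix.ext fun i j => ?_
      simp [Matrix.mul_apply, Fintype.sum_sum_type, hz, P, N]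
    rw [h2, Matrix.det_mul, ← AlgHom.map_det, ← AlgHom.map_det]
    simp [vv]
  · rintro ⟨c, hc⟩
    let ev : A ⊗[k] R →ₐ[k] R := Algebra.TensorProduct.lift
      ((Algebra.ofId k R).comp (Bialgebra.counitAlgHom k A)) (AlgHom.id k R) fun _ _ => Commute.all _ _
    let N : (Fin d → Fin d ⊕ Fin e) → Matrix (Fin d) (Fin d) R :=
      fun J => Matrix.of fun i j => g (m (J i) (Sum.inl j))
    have hN : ∀ J, (N J).det = CoalgebraStruct.counit (R := k) (vv J) • c := fun J => by
      have h1 := congrArg ev (hc J)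
      rw [AlgHom.map_det] at h1
      have h2 : ev.mapMatrix (Matrix.of fun i j => ∑ l, m (J i) l ⊗ₜ[k] g (m l (Sum.inl j))) = N J := by
        refine Matrix.ext fun i j => ?_
        simp only [ev, N, AlgHom.mapMatrix_apply, Matrix.map_apply, Matrix.of_apply, map_sum,
          Algebra.TensorProduct.lift_tmul, AlgHom.comp_apply, Bialgebra.counitAlgHom_apply, hεm, AlgHom.id_apply]
        rw [Finset.sum_eq_single (J i) (fun l _ hl => by simp [Ne.symm hl]) (by simp)]
        simp
      rw [h2] at h1
      rw [h1, Algebra.smul_def]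
      simp [ev]
    let ev' : A ⊗[k] R →ₐ[k] R := Algebra.TensorProduct.lift
      (g.comp (HopfAlgebra.antipodeAlgHom k A)) (AlgHom.id k R) fun _ _ => Commute.all _ _
    have hunit : IsUnit c := by
      have h1 := congrArg ev' (hc top)
      rw [AlgHom.map_det] at h1
      have h2 : ev'.mapMatrix (Matrix.of fun i j => ∑ l, m (top i) l ⊗ₜ[k] g (m l (Sum.inl j))) = 1 := by
        refine Matrix.ext fun i j => ?_
        have h3 := congrArg g (HopfAlgebra.mul_antipode_rTensor_comul_apply (R := k) (m (Sum.inl i) (Sum.inl j)))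
        rw [hcm, map_sum, map_sum, map_sum, hεm] at h3
        simp only [AlgHom.mapMatrix_apply, Matrix.map_apply, Matrix.of_apply, map_sum]
        refine Eq.trans ?_ (h3.trans ?_)
        · refine Finset.sum_congr rfl fun l _ => ?_
          simp [ev', top, Algebra.TensorProduct.lift_tmul]
        · by_cases hij : i = j <;> simp [hij, Matrix.one_apply]
      rw [h2, Matrix.det_one] at h1
      exact IsUnit.of_mul_eq_one_right (g (HopfAlgebra.antipode k (vv top))) (h1.trans (by simp [ev'])).symm
    have htop : (N top).det = c := by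
      rw [hN]
      have : CoalgebraStruct.counit (R := k) (vv top) = 1 := by
        show Bialgebra.counitAlgHom k A (P top).det = 1
        rw [AlgHom.map_det, show (Bialgebra.counitAlgHom k A).mapMatrix (P top) = 1 from Matrix.ext fun i j => by
          simp [P, top, hεm, Matrix.one_apply], Matrix.det_one]
      rw [this, one_smul]
    intro i j
    let r : Fin d → R := fun j => g (m (Sum.inr i) (Sum.inl j))
    have hr : ∀ l, ((N top).updateRow l r).det = 0 := fun l => by
      have h1 : (N top).updateRow l r = N (Function.update top l (Sum.inr i)) := by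
        refine Matrix.ext fun a c => ?_
        by_cases ha : a = l
        · subst ha; simp [N, r]
        · simp [N, top, ha]
      have h2 : CoalgebraStruct.counit (R := k) (vv (Function.update top l (Sum.inr i))) = 0 := by
        show Bialgebra.counitAlgHom k A (P _).det = 0
        rw [AlgHom.map_det]
        exact Matrix.det_eq_zero_of_row_eq_zero l fun c => by simp [P, hεm]
      rw [h1, hN, h2, zero_smul]
    have hcr : Matrix.cramer (N top).transpose r = 0 := funext fun l => by
      rw [Matrix.cramer_transpose_apply, hr]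
      rfl
    have h3 := Matrix.mulVec_cramer (N top).transpose r
    rw [hcr, Matrix.mulVec_zero, Matrix.det_transpose, htop] at h3
    exact hunit.mul_right_eq_zero.1 (congrFun h3 j).symm

end

end Groth.Agent.H20Comod
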