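import Groth.Agent.H20Comod.Semisimple
import Groth.Agent.H20Comod.Reynolds

/-!
Linear reductivity, total integrals and semisimplicity.
-/

set_option autoImplicit false

universe u v w

open TensorProduct HopfRep

namespace Groth.Agent.H20Comod

noncomputable section

variable {k : Type u} [Field k] {A : Type v} [CommRing A] [HopfAlgebra k A]

theorem isSemisimpleComod_of_isIntegral {α : A →ₗ[k] k} (hα : IsIntegral α) (h1 : α 1 = 1)
    {V : Type w} [AddCommGroup V] [Module k V] [Comod k A V] : IsSemisimpleComod k A V := by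
  intro W hW
  obtain ⟨π, hπ⟩ := LinearMap.exists_leftInverse_of_injective W.subtype W.ker_subtype
  set p := W.subtype ∘ₗ π
  have hp : ∀ x, p x ∈ W := fun x => (π x).2
  have hpW : ∀ x ∈ W, p x = x := fun x hx => congrArg Subtype.val (LinearMap.congr_fun hπ ⟨x, hx⟩)
  set P := average α p
  refine ⟨LinearMap.ker P, (isSubcomod_iff_forall_actL _).2 fun v hv φ => ?_, ?_, ?_⟩
  · rw [LinearMap.mem_ker] at hv ⊢
    rw [average_comm hα, hv, map_zero]
  · refine disjoint_iff_inf_le.2 fun x hx => ?_
    rw [Submodule.mem_bot, ← average_eq_self h1 hW hpW hx.1]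
    exact hx.2
  · refine codisjoint_iff_le_sup.2 fun x _ => Submodule.mem_sup.2 ⟨P x, average_mem hW hp x, x - P x, ?_, by abel⟩
    rw [LinearMap.mem_ker, map_sub, average_eq_self h1 hW hpW (average_mem hW hp x), sub_self]

variable (k A) in
theorem isSemisimpleModule_regular_of_isLinearlyReductive {A : Type v} [CommRing A] [Bialgebra k A]
    (h : IsLinearlyReductive k A) : IsSemisimpleModule (DualAlg k A) A :=
  isSemisimpleModule_regular_of_finite k A fun W hW hfin =>
    @h ↥W _ _ (ComodSub.Comod.restr inferInstance W hW) hfin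

theorem isSemisimpleComod_of_isLinearlyReductive {A : Type v} [CommRing A] [Bialgebra k A]
    (h : IsLinearlyReductive k A) {V : Type w} [AddCommGroup V] [Module k V] [Comod k A V] :
    IsSemisimpleComod k A V := by
  haveI := isSemisimpleModule_regular_of_isLinearlyReductive (k := k) h
  exact (isSemisimpleComod_iff (k := k) (A := A)).2 isSemisimpleModule_of_regular

/-- A semisimple regular comodule has a normalised integral. -/
theorem exists_isIntegral_of_isSubcomod_isCompl {k : Type u} [CommRing k] {A : Type v} [CommRing A]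
    [Bialgebra k A] {H : Submodule k A} (hH : IsSubcomod (k := k) (A := A) H)
    (hc : IsCompl (Submodule.span k {(1 : A)}) H) :
    ∃ α : A →ₗ[k] k, (∀ a, sliceL α (CoalgebraStruct.comul (R := k) a) = α a • (1 : A)) ∧ α 1 = 1 := by
  let π : A →ₗ[k] A := (Submodule.span k {(1 : A)}).subtype ∘ₗ Submodule.linearProjOfIsCompl _ _ hc
  let α : A →ₗ[k] k := CoalgebraStruct.counit (R := k) ∘ₗ π
  have h1 : α 1 = 1 := by
    have : π 1 = 1 := congrArg Subtype.val
      (Submodule.linearProjOfIsCompl_apply_left hc ⟨1, Submodule.mem_span_singleton_self 1⟩)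
    simp [α, this]
  refine ⟨α, fun a => ?_, h1⟩
  have hH0 : ∀ h ∈ H, α h = 0 := fun h hh => by
    have h0 : Submodule.linearProjOfIsCompl _ _ hc h = 0 := Submodule.linearProjOfIsCompl_apply_right hc ⟨h, hh⟩
    simp [α, π, h0]
  have hmem : a ∈ Submodule.span k {(1 : A)} ⊔ H := by rw [hc.sup_eq_top]; trivial
  obtain ⟨y, hy, h, hh, rfl⟩ := Submodule.mem_sup.1 hmem
  obtain ⟨c, rfl⟩ := Submodule.mem_span_singleton.1 hy
  have hsl : sliceL α (CoalgebraStruct.comul (R := k) h) = 0 := by
    obtain ⟨z, hz⟩ := hH h hh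
    rw [show CoalgebraStruct.comul (R := k) h = Comod.coact (k := k) (A := A) h from rfl, ← hz, sliceL_rTensor,
      show α ∘ₗ H.subtype = 0 from LinearMap.ext fun x => hH0 x x.2]
    simp [sliceL]
  simp only [map_add, map_smul, Bialgebra.comul_one, Algebra.TensorProduct.one_def, sliceL_tmul, h1, hsl,
    hH0 h hh, one_smul, add_zero, smul_eq_mul, mul_one]

theorem exists_isIntegral_of_isLinearlyReductive {A : Type v} [CommRing A] [Bialgebra k A]
    (h : IsLinearlyReductive k A) :
    ∃ α : A →ₗ[k] k, (∀ a, sliceL α (CoalgebraStruct.comul (R := k) a) = α a • (1 : A)) ∧ α 1 = 1 := by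
  have hs : IsSubcomod (k := k) (A := A) (Submodule.span k {(1 : A)}) := by
    intro w hw
    obtain ⟨c, rfl⟩ := Submodule.mem_span_singleton.1 hw
    rw [map_smul]
    refine Submodule.smul_mem _ c ⟨⟨1, Submodule.mem_span_singleton_self 1⟩ ⊗ₜ[k] (1 : A), ?_⟩
    show _ = CoalgebraStruct.comul (R := k) (1 : A)
    rw [Bialgebra.comul_one, LinearMap.rTensor_tmul, Algebra.TensorProduct.one_def]
    rfl
  obtain ⟨H, hH, hc⟩ := isSemisimpleComod_of_isLinearlyReductive h _ hs
  exact exists_isIntegral_of_isSubcomod_isCompl hH hc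

theorem isLinearlyReductive_iff_exists_isIntegral :
    IsLinearlyReductive k A ↔ ∃ α : A →ₗ[k] k, IsIntegral α ∧ α 1 = 1 :=
  ⟨exists_isIntegral_of_isLinearlyReductive,
    fun ⟨_, hα, h1⟩ _ _ _ _ _ => isSemisimpleComod_of_isIntegral hα h1⟩

end

end Groth.Agent.H20Comod
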