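import Mathlib.RingTheory.HopfAlgebra.Convolution
import Mathlib.RingTheory.Bialgebra.Convolution
import Mathlib.RingTheory.Norm.Basic
import Mathlib.RingTheory.Spectrum.Prime.FreeLocus
import Mathlib.LinearAlgebra.TensorProduct.Tower

/-!
Deligne's theorem: a commutative finite locally free group scheme is killed by its order.
-/

set_option autoImplicit false

universe u v w

open TensorProduct WithConv Coalgebra

namespace Groth.Agent.H20Comod.Deligne

noncomputable section

variable {R : Type u} [CommRing R] {A : Type v} [CommRing A] [HopfAlgebra R A]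
  [Coalgebra.IsCocomm R A] {T : Type w} [CommRing T] [Algebra R T]

/-- linear functionals -/
abbrev D (R : Type u) [CommRing R] (A : Type v) [CommRing A] [HopfAlgebra R A]
    (T : Type w) [CommRing T] [Algebra R T] := WithConv (A →ₗ[R] T)

/-- maps to the base change -/
abbrev E (R : Type u) [CommRing R] (A : Type v) [CommRing A] [HopfAlgebra R A]
    (T : Type w) [CommRing T] [Algebra R T] := WithConv (A →ₗ[R] T ⊗[R] A)

instance commRingConv {S : Type w} [CommRing S] [Algebra R S] : CommRing (WithConv (A →ₗ[R] S)) :=
  { (inferInstance : Ring (WithConv (A →ₗ[R] S))) with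
    mul_comm := fun f g => mul_comm (G := WithConv (A →ₗ[R] S)) f g }

/-- post-composition with an algebra map -/
def postComp {S S' : Type*} [CommRing S] [Algebra R S] [CommRing S'] [Algebra R S'] (h : S →ₐ[R] S') :
    WithConv (A →ₗ[R] S) →+* WithConv (A →ₗ[R] S') where
  toFun f := toConv (h.toLinearMap.comp f.ofConv)
  map_one' := WithConv.ofConv_injective (LinearMap.ext fun a => by simp [LinearMap.convOne_def])
  map_mul' f g := WithConv.ofConv_injective (LinearMap.algHom_comp_convMul_distrib h f g)
  map_zero' := WithConv.ofConv_injective (LinearMap.ext fun a => by simp)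
  map_add' f g := WithConv.ofConv_injective (LinearMap.ext fun a => by simp)

theorem postComp_apply {S S' : Type*} [CommRing S] [Algebra R S] [CommRing S'] [Algebra R S']
    (h : S →ₐ[R] S') (f : WithConv (A →ₗ[R] S)) :
    postComp h f = toConv (h.toLinearMap.comp f.ofConv) := rfl

theorem postComp_comp {S S' S'' : Type*} [CommRing S] [Algebra R S] [CommRing S'] [Algebra R S']
    [CommRing S''] [Algebra R S'']
    (h : S →ₐ[R] S') (h' : S' →ₐ[R] S'') (f : WithConv (A →ₗ[R] S)) :
    postComp h' (postComp h f) = postComp (h'.comp h) f := rfl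

instance algebraDE : Algebra (D R A T) (E R A T) :=
  (postComp (Algebra.TensorProduct.includeLeft : T →ₐ[R] T ⊗[R] A)).toAlgebra

theorem algebraMap_DE (d : D R A T) :
    algebraMap (D R A T) (E R A T) d =
      postComp (Algebra.TensorProduct.includeLeft : T →ₐ[R] T ⊗[R] A) d := rfl

/-- An `R`-algebra hom as a linear functional. -/
def ofAlgHom {S : Type*} [CommRing S] [Algebra R S] :
    WithConv (A →ₐ[R] S) →* WithConv (A →ₗ[R] S) where
  toFun f := toConv f.ofConv.toLinearMap
  map_one' := AlgHom.toLinearMap_convOne
  map_mul' f g := AlgHom.toLinearMap_convMul f g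

theorem ofAlgHom_injective {S : Type*} [CommRing S] [Algebra R S] :
    Function.Injective (ofAlgHom (R := R) (A := A) (S := S)) :=
  fun _ _ h => WithConv.ofConv_injective (AlgHom.toLinearMap_injective (WithConv.toConv_injective h))

theorem postComp_ofAlgHom {S S' : Type*} [CommRing S] [Algebra R S] [CommRing S'] [Algebra R S']
    (h : S →ₐ[R] S') (f : A →ₐ[R] S) :
    postComp h (ofAlgHom (toConv f)) = ofAlgHom (toConv (h.comp f)) := rfl

theorem ofAlgHom_mul_antipode {S : Type*} [CommRing S] [Algebra R S] (f : A →ₐ[R] S) :
    ofAlgHom (toConv f) * ofAlgHom (toConv (f.comp (HopfAlgebra.antipodeAlgHom R A))) = 1 := by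
  have h : ofAlgHom (toConv (HopfAlgebra.antipodeAlgHom R A)) * ofAlgHom (toConv (AlgHom.id R A)) = 1 :=
    LinearMap.antipode_mul_id (R := R) (C := A)
  have h' := congrArg (postComp f) h
  rw [map_mul, map_one, postComp_ofAlgHom, postComp_ofAlgHom, AlgHom.comp_id, mul_comm] at h'
  exact h'

/-- the universal point -/
def xi : E R A T := ofAlgHom (toConv (Algebra.TensorProduct.includeRight : A →ₐ[R] T ⊗[R] A))

/-- translation by a point -/
def trans (g : A →ₐ[R] T) : T ⊗[R] A →ₐ[R] T ⊗[R] A :=
  Algebra.TensorProduct.lift Algebra.TensorProduct.includeLeft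
    (toConv (((Algebra.TensorProduct.includeLeft : T →ₐ[R] T ⊗[R] A)).comp g) *
      toConv (Algebra.TensorProduct.includeRight : A →ₐ[R] T ⊗[R] A)).ofConv fun _ _ => .all _ _

theorem trans_comp_includeLeft (g : A →ₐ[R] T) :
    (trans g).comp Algebra.TensorProduct.includeLeft = Algebra.TensorProduct.includeLeft :=
  Algebra.TensorProduct.lift_comp_includeLeft _ _ _

theorem postComp_trans_xi (g : A →ₐ[R] T) :
    postComp (trans g) (xi : E R A T) = algebraMap (D R A T) (E R A T) (ofAlgHom (toConv g)) * xi := by
  rw [algebraMap_DE, postComp_ofAlgHom, xi, postComp_ofAlgHom, ← map_mul]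
  refine congrArg (fun φ : A →ₐ[R] T ⊗[R] A => ofAlgHom (toConv φ)) ?_
  exact AlgHom.ext fun a => by simp [trans, AlgHom.convMul_def]

theorem postComp_trans_algebraMap (g : A →ₐ[R] T) (d : D R A T) :
    postComp (trans g) (algebraMap (D R A T) (E R A T) d) = algebraMap (D R A T) (E R A T) d := by
  rw [algebraMap_DE, postComp_comp, trans_comp_includeLeft]

theorem trans_comp_trans (g h : A →ₐ[R] T)
    (hgh : ofAlgHom (toConv g) * ofAlgHom (toConv h) = 1) :
    (trans h).comp (trans g) = AlgHom.id R (T ⊗[R] A) := by
  apply Algebra.TensorProduct.ext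
  · rw [AlgHom.comp_assoc, trans_comp_includeLeft, trans_comp_includeLeft, AlgHom.id_comp]
  · have key : postComp ((trans h).comp (trans g)) (xi : E R A T) = xi := by
      rw [← postComp_comp, postComp_trans_xi, map_mul, postComp_trans_algebraMap, postComp_trans_xi,
        ← mul_assoc, ← map_mul, hgh, map_one, one_mul]
    rw [xi, postComp_ofAlgHom] at key
    exact WithConv.toConv_injective (ofAlgHom_injective key)

/-- translation, acting on functions with values in the base change -/
def transEquiv (g : A →ₐ[R] T) : E R A T ≃ₐ[D R A T] E R A T where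
  toFun := postComp (trans g)
  invFun := postComp (trans (g.comp (HopfAlgebra.antipodeAlgHom R A)))
  left_inv f := by
    rw [postComp_comp, trans_comp_trans _ _ (ofAlgHom_mul_antipode g)]
    rfl
  right_inv f := by
    rw [postComp_comp, trans_comp_trans _ _ ((mul_comm _ _).trans (ofAlgHom_mul_antipode g))]
    rfl
  map_mul' := map_mul _
  map_add' := map_add _
  commutes' := postComp_trans_algebraMap g

/-- coordinates of the module of functions with values in the base change -/
def convBasis {ι : Type*} [Fintype ι] (b : Module.Basis ι T (T ⊗[R] A)) :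
    Module.Basis ι (D R A T) (E R A T) :=
  .ofEquivFun
    { toFun := fun f i => toConv ((b.coord i).restrictScalars R ∘ₗ f.ofConv)
      invFun := fun d => toConv (∑ i,
        (LinearMap.toSpanSingleton T (T ⊗[R] A) (b i)).restrictScalars R ∘ₗ (d i).ofConv)
      map_add' := fun f g => funext fun i => WithConv.ofConv_injective (LinearMap.ext fun a => by simp)
      map_smul' := fun d f => funext fun i => by
        apply WithConv.ofConv_injective
        refine LinearMap.ext fun a => ?_
        show b.coord i ((d • f : E R A T) a) = (d * toConv ((b.coord i).restrictScalars R ∘ₗ f.ofConv)) a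
        rw [Algebra.smul_def, algebraMap_DE]
        rw [(ℛ R a).convMul_apply, (ℛ R a).convMul_apply, map_sum]
        refine Finset.sum_congr rfl fun j _ => ?_
        show b.coord i ((algebraMap T (T ⊗[R] A) (d ((ℛ R a).left j))) * f ((ℛ R a).right j)) = _
        rw [← Algebra.smul_def, map_smul, smul_eq_mul]
        rfl
      left_inv := fun f => WithConv.ofConv_injective (LinearMap.ext fun a => by
        simp [Module.Basis.coord_apply, b.sum_repr])
      right_inv := fun d => funext fun i => WithConv.ofConv_injective (LinearMap.ext fun a => by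
        classical
        simp [Module.Basis.coord_apply, Finsupp.single_apply]) }

/-- **Deligne**: a point of a commutative finite free group scheme is killed by the order. -/
theorem pow_finrank_eq_one [Nontrivial T] [Module.Free T (T ⊗[R] A)] [Module.Finite T (T ⊗[R] A)]
    (g : A →ₐ[R] T) : toConv g ^ Module.finrank T (T ⊗[R] A) = 1 := by
  have hb := convBasis (R := R) (A := A) (Module.Free.chooseBasis T (T ⊗[R] A))
  have hu : IsUnit (xi : E R A T) := IsUnit.of_mul_eq_one _ (ofAlgHom_mul_antipode _)
  have hN := Algebra.norm_eq_of_algEquiv (transEquiv g) (xi : E R A T)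
  rw [show transEquiv g (xi : E R A T) = postComp (trans g) xi from rfl, postComp_trans_xi, map_mul,
    Algebra.norm_algebraMap_of_basis hb,
    ← Module.finrank_eq_card_chooseBasisIndex T (T ⊗[R] A)] at hN
  exact ofAlgHom_injective (by
    rw [map_pow, map_one]
    exact (hu.map (Algebra.norm (D R A T))).mul_eq_right.mp hN)

variable (R A) in
/-- **Deligne**: a commutative finite locally free group scheme is killed by its order. -/
theorem convPow_id_eq_one [Module.Finite R A] [Module.Projective R A] (n : ℕ)
    (hn : ∀ p : PrimeSpectrum R, Module.rankAtStalk A p = n) :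
    (toConv (AlgHom.id R A)) ^ n = 1 := by
  refine WithConv.ofConv_injective (AlgHom.ext fun a => Module.eq_of_localization_maximal
    (fun P _ => Localization.AtPrime P) (fun P _ => Algebra.linearMap A (Localization.AtPrime P)) _ _
    fun P hP => ?_)
  let loc : A →ₐ[R] Localization.AtPrime P := IsScalarTower.toAlgHom R A (Localization.AtPrime P)
  haveI : Module.Free (Localization.AtPrime P) (Localization.AtPrime P ⊗[R] A) :=
    Module.free_of_flat_of_isLocalRing
  have hr : Module.finrank (Localization.AtPrime P) (Localization.AtPrime P ⊗[R] A) = n := by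
    have h := Module.rankAtStalk_baseChange (R := R) (M := A)
      (IsLocalRing.closedPoint (Localization.AtPrime P))
    rwa [Module.rankAtStalk_eq_finrank_of_free, hn] at h
  have h : postComp loc (ofAlgHom (toConv (AlgHom.id R A) ^ n)) = postComp loc (ofAlgHom 1) := by
    rw [map_pow ofAlgHom, map_pow (postComp loc), postComp_ofAlgHom, AlgHom.comp_id, map_one, map_one,
      ← map_pow, ← hr, pow_finrank_eq_one, map_one]
  exact LinearMap.congr_fun (congrArg WithConv.ofConv h) a

end

end Groth.Agent.H20Comod.Deligne
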