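import Groth.Agent.H20Comod.Coconn
import Mathlib.RingTheory.Bialgebra.Convolution
import Mathlib.RingTheory.Polynomial.Pochhammer
import Mathlib.Algebra.Polynomial.Roots
import Mathlib.Algebra.CharP.Lemmas
import Mathlib.Algebra.CharP.Algebra
import Mathlib.RingTheory.FiniteType

/-!
Powers of points of unipotent groups: polynomiality in the exponent, torsion in positive characteristic.
-/

set_option autoImplicit false

universe u v w

open TensorProduct HopfRep WithConv

namespace Groth.Agent.H20Comod

noncomputable section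

variable {k : Type u} [Field k] {A : Type v} [CommRing A] [Bialgebra k A]
variable {S : Type w} [CommRing S] [Algebra k S]

/-- Convolution powers of a map vanishing at the unit vanish on the low steps of the filtration. -/
theorem convPow_apply_eq_zero {x : WithConv (A →ₗ[k] S)} (hx : x.ofConv 1 = 0) (n : ℕ) :
    ∀ m < n, ∀ a ∈ coFil k A m, (x ^ n).ofConv a = 0 := by
  induction n with
  | zero => intro m hm; omega
  | succ n ih =>
    intro m hm a ha
    rw [pow_succ', show (x * x ^ n).ofConv a = LinearMap.mul' k S
      (TensorProduct.map x.ofConv (x ^ n).ofConv (CoalgebraStruct.comul (R := k) a)) from rfl]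
    have h := comul_coFil_le m (Submodule.mem_map_of_mem ha)
    refine (iSup₂_le fun i hi => ?_ : _ ≤ LinearMap.ker
      (LinearMap.mul' k S ∘ₗ TensorProduct.map x.ofConv (x ^ n).ofConv)) h
    rintro _ ⟨t, rfl⟩
    induction t using TensorProduct.induction_on with
    | zero => simp
    | tmul p q =>
      show LinearMap.mul' k S (TensorProduct.map x.ofConv (x ^ n).ofConv ((p : A) ⊗ₜ[k] (q : A))) = 0
      rw [TensorProduct.map_tmul, LinearMap.mul'_apply]
      rcases i with _ | i
      · obtain ⟨t, ht⟩ := Submodule.mem_span_singleton.1 (coFil_zero.le p.2)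
        rw [← ht, map_smul, hx, smul_zero, zero_mul]
      · rw [ih _ (by have := Finset.mem_range.1 hi; omega) q q.2, mul_zero]
    | add u v hu hv => rw [map_add]; exact add_mem hu hv

/-- The augmentation-vanishing part of a point. -/
def pointVar (g : WithConv (A →ₐ[k] S)) : WithConv (A →ₗ[k] S) := toConv g.ofConv.toLinearMap - 1

theorem pointVar_one (g : WithConv (A →ₐ[k] S)) : (pointVar g).ofConv 1 = 0 := by
  show g.ofConv (1 : A) - algebraMap k S (CoalgebraStruct.counit (1 : A)) = 0
  rw [map_one, Bialgebra.counit_one, map_one, sub_self]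

theorem pow_apply_eq_sum (g : WithConv (A →ₐ[k] S)) {r : ℕ} {a : A} (ha : a ∈ coFil k A r) (N : ℕ) :
    (g ^ N).ofConv a = ∑ i ∈ Finset.range (r + 1), N.choose i • (pointVar g ^ i).ofConv a := by
  have h1 : toConv (g ^ N).ofConv.toLinearMap = (pointVar g + 1) ^ N := by
    rw [AlgHom.toLinearMap_convPow, pointVar, sub_add_cancel]
  rw [show (g ^ N).ofConv a = (toConv (g ^ N).ofConv.toLinearMap).ofConv a from rfl, h1,
    (Commute.one_right (pointVar g)).add_pow, ofConv_sum, LinearMap.sum_apply]
  simp only [one_pow, mul_one, ← Nat.cast_comm, ← nsmul_eq_mul, ofConv_smul, LinearMap.smul_apply]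
  rcases le_total r N with h | h
  · refine (Finset.sum_subset (Finset.range_mono (by omega)) fun i _ hi => ?_).symm
    rw [convPow_apply_eq_zero (pointVar_one g) i r (by simpa using hi) a ha, smul_zero]
  · refine Finset.sum_subset (Finset.range_mono (by omega)) fun i _ hi => ?_
    rw [Nat.choose_eq_zero_of_lt (by simpa using hi), zero_smul]

section CharZero

variable [CharZero k]

theorem polynomial_eq_of_forall_eval_natCast (k : Type u) [Field k] [CharZero k] {S : Type w} [CommRing S]
    [Algebra k S] {p q : Polynomial S} (h : ∀ N : ℕ, p.eval (N : S) = q.eval (N : S)) :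
    p = q := by
  classical
  rw [← sub_eq_zero]
  refine Polynomial.ext fun i => (Module.forall_dual_apply_eq_zero_iff k _).1 fun φ => ?_
  let P : Polynomial k := ∑ j ∈ (p - q).support, Polynomial.monomial j (φ ((p - q).coeff j))
  have hP : ∀ N : ℕ, P.eval (N : k) = φ ((p - q).eval (N : S)) := by
    intro N
    simp only [P, Polynomial.eval_finset_sum, Polynomial.eval_monomial]
    rw [Polynomial.eval_eq_sum, Polynomial.sum, map_sum]
    refine Finset.sum_congr rfl fun j _ => ?_
    rw [show ((p - q).coeff j) * (N : S) ^ j = ((N : k) ^ j) • (p - q).coeff j by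
      rw [Algebra.smul_def, map_pow, map_natCast, mul_comm], map_smul, smul_eq_mul, mul_comm]
  have hP0 : P = 0 := by
    refine Polynomial.eq_zero_of_infinite_isRoot P (Set.Infinite.mono ?_
      (Set.infinite_range_of_injective (Nat.cast_injective (R := k))))
    rintro _ ⟨N, rfl⟩
    show P.eval (N : k) = 0
    rw [hP, Polynomial.eval_sub, h N, sub_self, map_zero]
  have := congrArg (fun P => Polynomial.coeff P i) hP0
  simp only [P, Polynomial.finset_sum_coeff, Polynomial.coeff_monomial, Finset.sum_ite_eq',
    Polynomial.mem_support_iff, Polynomial.coeff_zero] at this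
  split_ifs at this with hi
  · exact this
  · rw [not_not.1 hi, map_zero]

theorem exists_powPoly (hU : IsUnipotent k A) (g : WithConv (A →ₐ[k] S)) (a : A) :
    ∃ p : Polynomial S, ∀ N : ℕ, p.eval (N : S) = (g ^ N).ofConv a := by
  obtain ⟨r, hr⟩ := exists_mem_coFil hU a
  refine ⟨∑ i ∈ Finset.range (r + 1),
    Polynomial.C ((i.factorial : k)⁻¹ • (pointVar g ^ i).ofConv a) * descPochhammer S i, fun N => ?_⟩
  rw [pow_apply_eq_sum g hr, Polynomial.eval_finset_sum]
  refine Finset.sum_congr rfl fun i _ => ?_
  rw [Polynomial.eval_mul, Polynomial.eval_C, descPochhammer_eval_eq_descFactorial,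
    Nat.descFactorial_eq_factorial_mul_choose, Nat.cast_mul, smul_mul_assoc, mul_comm _ ((i.factorial : S) * _),
    mul_assoc, ← map_natCast (algebraMap k S) i.factorial, ← Algebra.smul_def, smul_smul,
    inv_mul_cancel₀ (Nat.cast_ne_zero.2 i.factorial_ne_zero), one_smul, nsmul_eq_mul]

/-- The powers of a point, as a polynomial in the exponent. -/
def powPoly (hU : IsUnipotent k A) (g : WithConv (A →ₐ[k] S)) : A →ₐ[k] Polynomial S where
  toFun a := (exists_powPoly hU g a).choose
  map_one' := polynomial_eq_of_forall_eval_natCast k fun N => by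
    rw [(exists_powPoly hU g 1).choose_spec, map_one, Polynomial.eval_one]
  map_mul' a b := polynomial_eq_of_forall_eval_natCast k fun N => by
    rw [(exists_powPoly hU g (a * b)).choose_spec, map_mul, Polynomial.eval_mul,
      (exists_powPoly hU g a).choose_spec, (exists_powPoly hU g b).choose_spec]
  map_zero' := polynomial_eq_of_forall_eval_natCast k fun N => by
    rw [(exists_powPoly hU g 0).choose_spec, map_zero, Polynomial.eval_zero]
  map_add' a b := polynomial_eq_of_forall_eval_natCast k fun N => by
    rw [(exists_powPoly hU g (a + b)).choose_spec, map_add, Polynomial.eval_add,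
      (exists_powPoly hU g a).choose_spec, (exists_powPoly hU g b).choose_spec]
  commutes' c := polynomial_eq_of_forall_eval_natCast k fun N => by
    rw [(exists_powPoly hU g _).choose_spec, AlgHom.commutes, Polynomial.algebraMap_apply, Polynomial.eval_C]

theorem powPoly_eval (hU : IsUnipotent k A) (g : WithConv (A →ₐ[k] S)) (a : A) (N : ℕ) :
    (powPoly hU g a).eval (N : S) = (g ^ N).ofConv a :=
  (exists_powPoly hU g a).choose_spec N

end CharZero

section Points

theorem comp_convPow {T : Type w} [CommRing T] [Algebra k T] (h : S →ₐ[k] T) (f : WithConv (A →ₐ[k] S))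
    (n : ℕ) : toConv (h.comp (f ^ n).ofConv) = toConv (h.comp f.ofConv) ^ n := by
  induction n with
  | zero =>
    refine WithConv.ofConv_injective (AlgHom.ext fun a => ?_)
    show h (algebraMap k S (CoalgebraStruct.counit a)) = algebraMap k T (CoalgebraStruct.counit a)
    rw [AlgHom.commutes]
  | succ n ih =>
    rw [pow_succ, pow_succ, AlgHom.comp_convMul_distrib, toConv_ofConv, ih]

theorem pow_bijective_of_charZero [CharZero k] (hU : IsUnipotent k A) (e : ℕ) (he : e ≠ 0) :
    Function.Bijective fun g : WithConv (A →ₐ[k] k) => g ^ e := by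
  have he' : (e : k) ≠ 0 := Nat.cast_ne_zero.2 he
  have hev : ∀ (g : WithConv (A →ₐ[k] k)) (N : ℕ),
      toConv ((Polynomial.aeval (N : k)).comp (powPoly hU g)) = g ^ N := fun g N =>
    WithConv.ofConv_injective (AlgHom.ext fun a => by
      show Polynomial.aeval (N : k) (powPoly hU g a) = (g ^ N).ofConv a
      rw [Polynomial.coe_aeval_eq_eval]
      exact powPoly_eval hU g a N)
  have hscale : ∀ (g : WithConv (A →ₐ[k] k)) (a : A),
      (toConv (powPoly hU g) ^ e).ofConv a = powPoly hU (g ^ e) a := by
    intro g a
    refine polynomial_eq_of_forall_eval_natCast k fun N => ?_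
    rw [powPoly_eval, ← pow_mul, mul_comm, pow_mul, ← hev g N, ← comp_convPow]
    show _ = Polynomial.aeval (N : k) _
    rw [Polynomial.coe_aeval_eq_eval]
    rfl
  constructor
  · have key : ∀ h : WithConv (A →ₐ[k] k),
        h = toConv ((Polynomial.aeval ((e : k)⁻¹)).comp (powPoly hU (h ^ e))) := by
      intro h
      refine WithConv.ofConv_injective (AlgHom.ext fun a => ?_)
      show h.ofConv a = Polynomial.aeval ((e : k)⁻¹) (powPoly hU (h ^ e) a)
      have h2 : powPoly hU (h ^ e) a = (powPoly hU h a).comp (Polynomial.C (e : k) * Polynomial.X) := by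
        refine polynomial_eq_of_forall_eval_natCast k fun N => ?_
        rw [powPoly_eval, Polynomial.eval_comp, Polynomial.eval_mul, Polynomial.eval_C, Polynomial.eval_X,
          ← Nat.cast_mul, powPoly_eval, pow_mul]
      rw [h2, Polynomial.coe_aeval_eq_eval, Polynomial.eval_comp, Polynomial.eval_mul, Polynomial.eval_C,
        Polynomial.eval_X, mul_inv_cancel₀ he', ← Nat.cast_one, powPoly_eval, pow_one]
    intro h h' hhh
    have hhh' : h ^ e = h' ^ e := hhh
    rw [key h, key h', hhh']
  · intro g
    refine ⟨toConv ((Polynomial.aeval ((e : k)⁻¹)).comp (powPoly hU g)), WithConv.ofConv_injective (AlgHom.ext fun a => ?_)⟩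
    show (toConv ((Polynomial.aeval ((e : k)⁻¹)).comp (powPoly hU g)) ^ e).ofConv a = g.ofConv a
    rw [show toConv ((Polynomial.aeval ((e : k)⁻¹)).comp (powPoly hU g)) ^ e =
      toConv ((Polynomial.aeval ((e : k)⁻¹)).comp (toConv (powPoly hU g) ^ e).ofConv) from
      (comp_convPow _ _ e).symm]
    show Polynomial.aeval ((e : k)⁻¹) ((toConv (powPoly hU g) ^ e).ofConv a) = g.ofConv a
    have h2 : powPoly hU (g ^ e) a = (powPoly hU g a).comp (Polynomial.C (e : k) * Polynomial.X) := by
      refine polynomial_eq_of_forall_eval_natCast k fun N => ?_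
      rw [powPoly_eval, Polynomial.eval_comp, Polynomial.eval_mul, Polynomial.eval_C, Polynomial.eval_X,
        ← Nat.cast_mul, powPoly_eval, pow_mul]
    rw [hscale, h2, Polynomial.coe_aeval_eq_eval, Polynomial.eval_comp, Polynomial.eval_mul, Polynomial.eval_C,
      Polynomial.eval_X, mul_inv_cancel₀ he', ← Nat.cast_one, powPoly_eval, pow_one]

theorem exists_pow_char_pow_eq_one [Algebra.FiniteType k A] (hU : IsUnipotent k A) [Nontrivial S]
    (p : ℕ) [Fact p.Prime] [CharP k p] :
    ∃ m : ℕ, ∀ g : WithConv (A →ₐ[k] S), g ^ (p ^ m) = 1 := by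
  classical
  obtain ⟨T, hT⟩ := (Algebra.FiniteType.out : (⊤ : Subalgebra k A).FG)
  choose d hd using fun a : A => exists_mem_coFil hU a
  refine ⟨T.sup d + 1, fun g => ?_⟩
  have hlt : T.sup d < p ^ (T.sup d + 1) :=
    lt_trans (Nat.lt_succ_self _) (Nat.lt_pow_self (Fact.out : p.Prime).one_lt)
  haveI : CharP (WithConv (A →ₗ[k] S)) p := charP_of_injective_algebraMap (R := k) (fun c c' hcc => by
    have h := congrArg (fun f : WithConv (A →ₗ[k] S) => f.ofConv 1) hcc
    simp only [LinearMap.convAlgebraMap_apply, Bialgebra.counit_one, map_one, ← Algebra.algebraMap_eq_smul_one] at h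
    exact (algebraMap k S).injective h) p
  have h1 : toConv (g ^ (p ^ (T.sup d + 1))).ofConv.toLinearMap = pointVar g ^ (p ^ (T.sup d + 1)) + 1 := by
    rw [AlgHom.toLinearMap_convPow, show toConv g.ofConv.toLinearMap = pointVar g + 1 by
      rw [pointVar, sub_add_cancel], add_pow_char_pow_of_commute _ _ (Commute.one_right _), one_pow]
  refine WithConv.ofConv_injective (AlgHom.ext_of_adjoin_eq_top hT fun a ha => ?_)
  show (toConv (g ^ (p ^ (T.sup d + 1))).ofConv.toLinearMap).ofConv a = algebraMap k S (CoalgebraStruct.counit a)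
  rw [h1, ofConv_add, LinearMap.add_apply,
    convPow_apply_eq_zero (pointVar_one g) _ (d a) (lt_of_le_of_lt (Finset.le_sup (by simpa using ha)) hlt) a (hd a),
    zero_add]
  rfl

end Points

end

end Groth.Agent.H20Comod
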