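import Groth.Agent.H20Comod.Basic
import Mathlib.LinearAlgebra.Basis.VectorSpace

/-!
# More lemmas on slices: detection by left slices, the action of points as slices
-/

universe u v w w'

open TensorProduct HopfRep

namespace Groth.Agent.H20Comod

section

variable {k : Type u} [CommRing k] {A : Type v} [AddCommGroup A] [Module k A]
variable {V : Type w} [AddCommGroup V] [Module k V]

theorem sliceR_comm (g : V →ₗ[k] k) (x : V ⊗[k] A) :
    sliceR g (TensorProduct.comm k V A x) = sliceL g x := by
  induction x using TensorProduct.induction_on with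
  | zero => simp
  | tmul v a => simp
  | add x y hx hy => simp [hx, hy]

theorem eq_zero_of_forall_sliceL [Module.Free k V] {x : V ⊗[k] A}
    (h : ∀ g : V →ₗ[k] k, sliceL g x = 0) : x = 0 := by
  refine (TensorProduct.comm k V A).map_eq_zero_iff.1 (eq_zero_of_forall_sliceR fun g => ?_)
  rw [sliceR_comm]
  exact h g

theorem apply_sliceR_eq_apply_sliceL (g : V →ₗ[k] k) (f : A →ₗ[k] k) (x : V ⊗[k] A) :
    g (sliceR f x) = f (sliceL g x) := by
  induction x using TensorProduct.induction_on with
  | zero => simp
  | tmul v a => simp [mul_comm]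
  | add x y hx hy => simp [hx, hy]

theorem eq_of_forall_sliceL [Module.Free k V] {x y : V ⊗[k] A}
    (h : ∀ g : V →ₗ[k] k, sliceL g x = sliceL g y) : x = y :=
  sub_eq_zero.1 (eq_zero_of_forall_sliceL fun g => by simp [h g])

end

section Field

variable {k : Type u} [Field k] {A : Type v} [AddCommGroup A] [Module k A]
variable {V : Type w} [AddCommGroup V] [Module k V]

/-- `x ∈ W ⊗ A` iff every left slice by a form vanishing on `W` is zero. -/
theorem mem_range_rTensor_subtype_iff_sliceL (W : Submodule k V) (x : V ⊗[k] A) :
    x ∈ LinearMap.range (W.subtype.rTensor A) ↔ ∀ g : V →ₗ[k] k, (∀ w ∈ W, g w = 0) → sliceL g x = 0 := by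
  constructor
  · rintro ⟨y, rfl⟩ g hg
    rw [sliceL_rTensor]
    have : g ∘ₗ W.subtype = 0 := LinearMap.ext fun w => hg w w.2
    rw [this]
    induction y using TensorProduct.induction_on with
    | zero => simp
    | tmul v a => simp
    | add x y hx hy => simp [hx, hy]
  · intro h
    rw [mem_range_rTensor_subtype_iff]
    intro f
    by_contra hc
    obtain ⟨g, hg1, hg2⟩ := Submodule.exists_le_ker_of_notMem hc
    refine hg1 ?_
    rw [apply_sliceR_eq_apply_sliceL, h g (fun w hw => LinearMap.mem_ker.1 (hg2 hw)), map_zero]

end Field

section Point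

variable {k : Type u} [CommRing k] {A : Type v} [CommRing A] [Bialgebra k A]
variable {V : Type w} [AddCommGroup V] [Module k V] [Comod k A V]

theorem act_eq_actL (g : A →ₐ[k] k) (v : V) : Comod.act k A V g v = actL g.toLinearMap v := by
  simp only [Comod.act, actL, LinearMap.comp_apply, LinearEquiv.coe_coe]
  generalize Comod.coact (k := k) (A := A) v = x
  induction x using TensorProduct.induction_on with
  | zero => simp
  | tmul v a => simp
  | add x y hx hy => simp [hx, hy]

end Point

end Groth.Agent.H20Comod
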