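import Groth.Agent.H20Comod.Invariants
import Mathlib.RingTheory.Bialgebra.TensorProduct
import Mathlib.RingTheory.Coalgebra.TensorProduct
import Groth.Prelude.Def_ComodSub
import Mathlib.RingTheory.Coalgebra.GroupLike
import Mathlib.LinearAlgebra.Basis.VectorSpace
import Mathlib.RingTheory.SimpleModule.Basic
import Mathlib.LinearAlgebra.Eigenspace.Triangularizable

/-!
Weights, diagonalisable groups, and their relation to linear reductivity.
-/

set_option autoImplicit false

universe u v w w'

open TensorProduct HopfRep
open scoped Groth.Agent.H20Comod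

namespace Groth.Agent.H20Comod

noncomputable section

theorem coe_actL_restr {k : Type u} [CommRing k] {A : Type v} [AddCommGroup A] [Module k A] [Coalgebra k A]
    [Module.Flat k A] {V : Type w} [AddCommGroup V] [Module k V] (c : Comod k A V) (W : Submodule k V)
    (hW : IsSubcomod (k := k) (A := A) W) (φ : A →ₗ[k] k) (x : W) :
    ((@actL k _ A _ _ _ W _ _ (ComodSub.Comod.restr c W hW) φ x : W) : V) = actL φ (x : V) := by
  letI := ComodSub.Comod.restr c W hW
  exact actL_natural W.subtype (ComodSub.isComodHom_subtype c W hW) φ x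

theorem coact_actL' {k : Type u} [CommRing k] {A : Type v} [AddCommGroup A] [Module k A] [Coalgebra k A]
    {V : Type w} [AddCommGroup V] [Module k V] [Comod k A V] (φ : A →ₗ[k] k) (v : V) :
    Comod.coact (k := k) (A := A) (actL φ v) =
      (actL φ : A →ₗ[k] A).lTensor V (Comod.coact (k := k) (A := A) v) := by
  have hco := LinearMap.congr_fun (Comod.coassoc (k := k) (A := A) (V := V)) v
  simp only [LinearMap.coe_comp, Function.comp_apply, LinearEquiv.coe_coe] at hco
  have h1 : ∀ z : V ⊗[k] A, (sliceR φ : A ⊗[k] A →ₗ[k] A).lTensor V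
      (TensorProduct.assoc k V A A ((Comod.coact (k := k) (A := A)).rTensor A z)) =
      Comod.coact (k := k) (A := A) (sliceR φ z) := by
    intro z
    induction z using TensorProduct.induction_on with
    | zero => simp
    | tmul x a =>
      simp only [LinearMap.rTensor_tmul, sliceR_tmul, map_smul]
      generalize Comod.coact (k := k) (A := A) x = y
      induction y using TensorProduct.induction_on with
      | zero => simp
      | tmul p b => simp [TensorProduct.tmul_smul]
      | add x y hx hy => simp only [TensorProduct.add_tmul, map_add, hx, hy, smul_add]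
    | add x y hx hy => simp only [map_add, hx, hy]
  rw [actL_apply, ← h1, hco, ← LinearMap.lTensor_comp_apply]
  rfl

section Field

variable {k : Type u} [Field k] {A : Type v} [AddCommGroup A] [Module k A] [Coalgebra k A]

/-- A linear form detecting one group-like element. -/
theorem exists_dual_groupLike {a : A} (ha : IsGroupLikeElem k a) :
    ∃ f : A →ₗ[k] k, f a = 1 ∧ ∀ b : A, IsGroupLikeElem k b → b ≠ a → f b = 0 := by
  classical
  have hi := linearIndepOn_isGroupLikeElem (R := k) (A := A)
  let B := Module.Basis.extend hi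
  have hsub := hi.subset_extend (Set.subset_univ _)
  refine ⟨B.coord ⟨a, hsub ha⟩, ?_, fun b hb hne => ?_⟩
  · have : B ⟨a, hsub ha⟩ = a := Module.Basis.extend_apply_self hi _
    conv_lhs => arg 2; rw [← this]
    simp
  · have : B ⟨b, hsub hb⟩ = b := Module.Basis.extend_apply_self hi _
    conv_lhs => arg 2; rw [← this]
    simp [hne]

variable {V : Type w} [AddCommGroup V] [Module k V] [Comod k A V]

theorem span_coact_eigen_of_span_groupLike (h : Submodule.span k {a : A | IsGroupLikeElem k a} = ⊤) :
    Submodule.span k {v : V | ∃ a : A, Comod.coact (k := k) (A := A) v = v ⊗ₜ[k] a} = ⊤ := by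
  classical
  let B : Module.Basis {a : A | IsGroupLikeElem k a} k A :=
    Module.Basis.mk (linearIndepOn_isGroupLikeElem (R := k) (A := A)).linearIndependent (by
      simpa using h.ge)
  have hB : ∀ i, B i = (i : A) := fun i => Module.Basis.mk_apply _ _ i
  rw [eq_top_iff]
  intro v _
  have hv : v = (TensorProduct.equivFinsuppOfBasisRight B (Comod.coact (k := k) (A := A) v)).sum fun _ x => x := by
    conv_lhs => rw [← actL_counit (k := k) (A := A) v, actL_apply]
    generalize Comod.coact (k := k) (A := A) v = z
    induction z using TensorProduct.induction_on with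
    | zero => simp
    | tmul x a =>
      have ha : (B.repr a).sum (fun i c => c • (i : A)) = a := by
        conv_rhs => rw [← B.linearCombination_repr a, Finsupp.linearCombination_apply]
        simp [hB]
      rw [sliceR_tmul]
      conv_lhs => rw [← ha, map_finsuppSum]
      rw [TensorProduct.equivFinsuppOfBasisRight_apply_tmul, Finsupp.sum_mapRange_index (fun _ => rfl), Finsupp.sum, Finsupp.sum, Finset.sum_smul]
      refine Finset.sum_congr rfl fun i _ => ?_
      simp [(Subtype.prop i).counit_eq_one]
    | add u v hu hv =>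
      rw [map_add, map_add, Finsupp.sum_add_index' (fun _ => rfl) (fun _ _ _ => rfl), hu, hv]
  rw [hv]
  refine Submodule.sum_mem _ fun i _ => Submodule.subset_span ⟨(i : A), ?_⟩
  obtain ⟨f, hf1, hf0⟩ := exists_dual_groupLike (k := k) i.2
  have hfi : ∀ z : V ⊗[k] A, TensorProduct.equivFinsuppOfBasisRight B z i = sliceR f z := by
    have hf : f = B.coord i := B.ext fun j => by
      rw [hB, Module.Basis.coord_apply]
      conv_rhs => rw [← hB j, B.repr_self]
      by_cases hji : j = i
      · subst hji; simp [hf1]
      · rw [hf0 _ j.2 (fun e => hji (Subtype.ext e)), Finsupp.single_eq_of_ne (Ne.symm hji)]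
    intro z
    induction z using TensorProduct.induction_on with
    | zero => simp
    | tmul x a => simp [hf]
    | add u v hu hv => simp [hu, hv]
  rw [hfi, ← actL_apply, coact_actL']
  generalize hw : Comod.coact (k := k) (A := A) v = z
  have key : ∀ a : A, sliceR f (CoalgebraStruct.comul (R := k) a) = f a • (i : A) := by
    intro a
    refine LinearMap.congr_fun (B.ext (f₁ := sliceR f ∘ₗ CoalgebraStruct.comul (R := k))
      (f₂ := f.smulRight (i : A)) fun j => ?_) a
    show sliceR f (CoalgebraStruct.comul (R := k) (B j)) = f (B j) • (i : A)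
    rw [hB, (Subtype.prop j).comul_eq_tmul_self, sliceR_tmul]
    by_cases hji : j = i
    · rw [hji]
    · rw [hf0 _ j.2 (fun e => hji (Subtype.ext e)), zero_smul, zero_smul]
  rw [actL_apply, hw]
  clear hw
  induction z using TensorProduct.induction_on with
  | zero => simp
  | tmul x a => rw [LinearMap.lTensor_tmul, show actL f a = f a • (i : A) from key a, sliceR_tmul, TensorProduct.smul_tmul]
  | add u v hu hv => simp only [map_add, TensorProduct.add_tmul, hu, hv]

theorem iSupIndep_eigen (p : {a : A // IsGroupLikeElem k a} → Submodule k V)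
    (hp : ∀ a, ∀ v ∈ p a, Comod.coact (k := k) (A := A) v = v ⊗ₜ[k] (a : A)) : iSupIndep p := by
  intro a
  obtain ⟨f, hf1, hf0⟩ := exists_dual_groupLike (k := k) a.2
  refine disjoint_iff_inf_le.2 fun v hv => ?_
  have h1 : actL f v = v := by rw [actL_apply, hp a v hv.1, sliceR_tmul, hf1, one_smul]
  have h2 : (⨆ (b) (_ : b ≠ a), p b) ≤ LinearMap.ker (actL f : V →ₗ[k] V) := by
    refine iSup₂_le fun b hb w hw => ?_
    rw [LinearMap.mem_ker, actL_apply, hp b w hw, sliceR_tmul, hf0 _ b.2 (fun e => hb (Subtype.ext e)), zero_smul]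
  rw [Submodule.mem_bot, ← h1]
  exact h2 hv.2

theorem mem_span_groupLike_of_coact_eq {w a : A} (h : CoalgebraStruct.comul (R := k) w = w ⊗ₜ[k] a) :
    w ∈ Submodule.span k {a : A | IsGroupLikeElem k a} := by
  have h1 : w = CoalgebraStruct.counit (R := k) w • a := by
    have := congrArg (TensorProduct.lid k A) (Coalgebra.rTensor_counit_comul (R := k) w)
    rw [h] at this
    simpa using this.symm
  by_cases h0 : CoalgebraStruct.counit (R := k) w = 0
  · rw [h0, zero_smul] at h1
    rw [h1]; exact zero_mem _
  · rw [h1]
    refine Submodule.smul_mem _ _ (Submodule.subset_span ⟨?_, ?_⟩)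
    · have h2 : w = CoalgebraStruct.counit (R := k) a • w := by
        have := congrArg (TensorProduct.rid k A) (Coalgebra.lTensor_counit_comul (R := k) w)
        rw [h] at this
        simpa using this.symm
      have h3 : (CoalgebraStruct.counit (R := k) a - 1) • w = 0 := by rw [sub_smul, one_smul, ← h2, sub_self]
      rcases smul_eq_zero.1 h3 with h4 | h4
      · exact sub_eq_zero.1 h4
      · exact absurd (by rw [h4, map_zero]) h0
    · have h5 := h
      rw [h1, map_smul, ← sub_eq_zero] at h5
      have h6 : CoalgebraStruct.counit (R := k) w • (CoalgebraStruct.comul (R := k) a - a ⊗ₜ[k] a) = 0 := by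
        rw [smul_sub, TensorProduct.smul_tmul']; exact h5
      exact sub_eq_zero.1 ((smul_eq_zero.1 h6).resolve_left h0)

theorem span_groupLike_eq_top_of_eigen
    (h : ∀ (W : Submodule k A) (hW : IsSubcomod (k := k) (A := A) W), Module.Finite k W →
      Submodule.span k {v : W | ∃ a : A, (ComodSub.Comod.restr inferInstance W hW).coact v = v ⊗ₜ[k] a} = ⊤) :
    Submodule.span k {a : A | IsGroupLikeElem k a} = ⊤ := by
  rw [eq_top_iff]
  intro x _
  obtain ⟨W, hWf, hxW, hW⟩ := exists_finite_subcomod (k := k) (A := A) (V := A) (Set.finite_singleton x)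
  have hx : (⟨x, hxW rfl⟩ : W) ∈ (Submodule.span k {v : W | ∃ a : A,
      (ComodSub.Comod.restr inferInstance W hW).coact v = v ⊗ₜ[k] a}) := (h W hW hWf) ▸ Submodule.mem_top
  have hle : Submodule.span k {v : W | ∃ a : A, (ComodSub.Comod.restr inferInstance W hW).coact v = v ⊗ₜ[k] a} ≤
      (Submodule.span k {a : A | IsGroupLikeElem k a}).comap W.subtype := by
    rw [Submodule.span_le]
    rintro v ⟨a, ha⟩
    refine mem_span_groupLike_of_coact_eq (a := a) ?_
    have h2 := congrArg (W.subtype.rTensor A) ha
    rwa [ComodSub.restr_coact_coe, LinearMap.rTensor_tmul] at h2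
  exact hle hx

end Field

section Cocomm

variable {k : Type u} [Field k] [IsAlgClosed k] {A : Type v} [AddCommGroup A] [Module k A] [Coalgebra k A]
  [Coalgebra.IsCocomm k A]

theorem conv_comm (f g : A →ₗ[k] k) : conv f g = conv g f := by
  apply LinearMap.ext
  intro a
  show LinearMap.mul' k k (TensorProduct.map f g (CoalgebraStruct.comul (R := k) a)) =
    LinearMap.mul' k k (TensorProduct.map g f (CoalgebraStruct.comul (R := k) a))
  conv_rhs => rw [← Coalgebra.comm_comul (R := k) a]
  generalize CoalgebraStruct.comul (R := k) a = z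
  induction z using TensorProduct.induction_on with
  | zero => simp
  | tmul p q => simp [mul_comm]
  | add u v hu hv => simp only [map_add, hu, hv]

/-- Over an algebraically closed field simple comodules of a cocommutative coalgebra are lines. -/
theorem exists_eq_smul_of_isSimpleModule {V : Type w} [AddCommGroup V] [Module k V] [Comod k A V]
    [IsSimpleModule (DualAlg k A) V] [Module.Finite k V] : Module.finrank k V = 1 := by
  haveI : Nontrivial V := IsSimpleModule.nontrivial (DualAlg k A) V
  have hscal : ∀ φ : A →ₗ[k] k, ∃ c : k, ∀ v : V, actL φ v = c • v := by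
    intro φ
    obtain ⟨c, hc⟩ := Module.End.exists_eigenvalue (actL φ : V →ₗ[k] V)
    obtain ⟨v₀, hv₀⟩ := hc.exists_hasEigenvector
    refine ⟨c, fun v => ?_⟩
    have hE : IsSubcomod (k := k) (A := A) (Module.End.eigenspace (actL φ : V →ₗ[k] V) c) := by
      rw [isSubcomod_iff_forall_actL]
      intro w hw ψ
      rw [Module.End.mem_eigenspace_iff] at hw ⊢
      rw [← actL_conv, conv_comm, actL_conv, hw, map_smul]
    rcases IsSimpleOrder.eq_bot_or_eq_top (toSub _ hE) with h | h
    · exfalso
      have : v₀ ∈ toSub _ hE := hv₀.1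
      rw [h, Submodule.mem_bot] at this
      exact hv₀.2 this
    · have : v ∈ toSub _ hE := h ▸ Submodule.mem_top
      exact Module.End.mem_eigenspace_iff.1 this
  obtain ⟨v₀, hv₀⟩ := exists_ne (0 : V)
  refine finrank_eq_one v₀ hv₀ fun w => ?_
  have hs : IsSubcomod (k := k) (A := A) (Submodule.span k {v₀}) := by
    rw [isSubcomod_iff_forall_actL]
    intro x hx φ
    obtain ⟨c, hc⟩ := hscal φ
    rw [hc]
    exact Submodule.smul_mem _ _ hx
  rcases IsSimpleOrder.eq_bot_or_eq_top (toSub _ hs) with h | h
  · exfalso
    have : v₀ ∈ toSub _ hs := Submodule.mem_span_singleton_self v₀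
    rw [h, Submodule.mem_bot] at this
    exact hv₀ this
  · exact Submodule.mem_span_singleton.1 ((h ▸ Submodule.mem_top : w ∈ toSub _ hs))

theorem span_coact_eigen_of_isSemisimple {V : Type w} [AddCommGroup V] [Module k V] [Comod k A V]
    (h : IsSemisimpleModule (DualAlg k A) V) :
    Submodule.span k {v : V | ∃ a : A, Comod.coact (k := k) (A := A) v = v ⊗ₜ[k] a} = ⊤ := by
  rw [eq_top_iff]
  rintro v -
  have hv : v ∈ sSup {m : Submodule (DualAlg k A) V | IsSimpleModule (DualAlg k A) m} := by
    rw [IsSemisimpleModule.sSup_simples_eq_top]; trivial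
  rw [sSup_eq_iSup'] at hv
  induction hv using Submodule.iSup_induction' with
  | mem m x hx =>
    obtain ⟨m, hm⟩ := m
    haveI : IsSimpleModule (DualAlg k A) m := hm
    letI := subComod m
    obtain ⟨e, -⟩ := exists_equiv_subComod m
    haveI : IsSimpleModule (DualAlg k A) ↥(m.restrictScalars k) := IsSimpleModule.congr e
    haveI : Module.Finite k ↥(m.restrictScalars k) := by
      haveI := IsSimpleModule.nontrivial (DualAlg k A) m
      obtain ⟨⟨y, hy⟩, hy0⟩ := exists_ne (0 : m)
      have : m = Submodule.span (DualAlg k A) {y} := by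
        refine le_antisymm (fun z hz => ?_) ((Submodule.span_singleton_le_iff_mem _ _).2 hy)
        have := IsSimpleOrder.eq_bot_or_eq_top ((Submodule.span (DualAlg k A) {y}).comap m.subtype)
        rcases this with h0 | h0
        · exfalso
          have h1 : (⟨y, hy⟩ : m) ∈ (Submodule.span (DualAlg k A) {y}).comap m.subtype :=
            Submodule.mem_span_singleton_self y
          rw [h0, Submodule.mem_bot] at h1
          exact hy0 h1
        · exact (h0 ▸ Submodule.mem_top : (⟨z, hz⟩ : m) ∈ (Submodule.span (DualAlg k A) {y}).comap m.subtype)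
      rw [this]
      exact finite_span_singleton_dual (k := k) (A := A) y
    have h1 := exists_eq_smul_of_isSimpleModule (k := k) (A := A) (V := ↥(m.restrictScalars k))
    obtain ⟨w, hw0, hw⟩ := finrank_eq_one_iff'.1 h1
    let b : Module.Basis (Fin 1) k ↥(m.restrictScalars k) :=
      Module.Basis.mk (v := fun _ => w) (LinearIndependent.of_subsingleton 0 hw0) (by
        intro z _
        obtain ⟨c, rfl⟩ := hw z
        exact Submodule.smul_mem _ _ (Submodule.subset_span ⟨0, rfl⟩))
    obtain ⟨c, hc⟩ := hw ⟨x, hx⟩
    have hx' : x = c • (w : V) := (congrArg Subtype.val hc).symm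
    rw [hx']
    refine Submodule.smul_mem _ _ (Submodule.subset_span ?_)
    have h2 := coact_basis (A := A) b 0
    rw [Fin.sum_univ_one, Module.Basis.mk_apply] at h2
    refine ⟨sliceL (b.coord 0) (Comod.coact (k := k) (A := A) w), ?_⟩
    have h3 := congrArg ((m.restrictScalars k).subtype.rTensor A) h2
    rw [LinearMap.rTensor_tmul] at h3
    rw [← ComodSub.restr_coact_coe (inferInstance : Comod k A V) _ (isSubcomod_restrictScalars m) w]
    exact h3
  | zero => exact zero_mem _
  | add x y _ _ hx hy => exact add_mem hx hy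

end Cocomm

section Bialg

variable {k : Type u} [Field k] {A : Type v} [CommRing A] [Bialgebra k A]

theorem exists_isIntegral_of_span_groupLike (h : Submodule.span k {a : A | IsGroupLikeElem k a} = ⊤) :
    ∃ α : A →ₗ[k] k, (∀ a, sliceL α (CoalgebraStruct.comul (R := k) a) = α a • (1 : A)) ∧ α 1 = 1 := by
  have h1 : IsGroupLikeElem k (1 : A) :=
    ⟨Bialgebra.counit_one, by rw [Bialgebra.comul_one, Algebra.TensorProduct.one_def]⟩
  obtain ⟨f, hf1, hf0⟩ := exists_dual_groupLike (k := k) h1
  refine ⟨f, fun a => ?_, hf1⟩
  refine LinearMap.congr_fun (LinearMap.ext_on h (f := sliceL f ∘ₗ CoalgebraStruct.comul (R := k))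
    (g := f.smulRight (1 : A)) fun b hb => ?_) a
  show sliceL f (CoalgebraStruct.comul (R := k) b) = f b • (1 : A)
  rw [(hb : IsGroupLikeElem k b).comul_eq_tmul_self, sliceL_tmul]
  by_cases hb1 : b = 1
  · rw [hb1]
  · rw [hf0 b hb hb1, zero_smul, zero_smul]

theorem isSemisimpleComod_of_span_groupLike {A : Type v} [CommRing A] [HopfAlgebra k A]
    (h : Submodule.span k {a : A | IsGroupLikeElem k a} = ⊤) : IsLinearlyReductive k A :=
  isLinearlyReductive_iff_exists_isIntegral.2 (exists_isIntegral_of_span_groupLike h)

theorem isDiagonalizable_of_isLinearlyReductive [IsAlgClosed k] [Coalgebra.IsCocomm k A]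
    (h : IsLinearlyReductive k A) : IsDiagonalizable k A := by
  refine span_groupLike_eq_top_of_eigen fun W hW hfin => ?_
  letI := ComodSub.Comod.restr (inferInstance : Comod k A A) W hW
  exact span_coact_eigen_of_isSemisimple ((isSemisimpleComod_iff (k := k) (A := A)).1 (h W hfin))

end Bialg

section BaseChange

variable {k : Type u} [CommRing k] {K : Type w} [CommRing K] [Algebra k K] {A : Type v} [CommRing A] [Bialgebra k A]

theorem comul_one_tmul (a : A) :
    CoalgebraStruct.comul (R := K) ((1 : K) ⊗ₜ[k] a) =
      TensorProduct.lift (LinearMap.mk₂ k (fun x y => ((1 : K) ⊗ₜ[k] x) ⊗ₜ[K] ((1 : K) ⊗ₜ[k] y))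
        (fun x x' y => by rw [TensorProduct.tmul_add, TensorProduct.add_tmul])
        (fun c x y => by rw [TensorProduct.tmul_smul]; exact (TensorProduct.smul_tmul' c _ _).symm)
        (fun x y y' => by rw [TensorProduct.tmul_add, TensorProduct.tmul_add])
        (fun c x y => by rw [TensorProduct.tmul_smul, TensorProduct.tmul_smul])) (CoalgebraStruct.comul (R := k) a) := by
  rw [TensorProduct.comul_tmul]
  generalize CoalgebraStruct.comul (R := k) a = z
  rw [CommSemiring.comul_apply]
  induction z using TensorProduct.induction_on with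
  | zero => simp
  | tmul x y => rfl
  | add u v hu hv => simp only [TensorProduct.tmul_add, map_add, hu, hv]

end BaseChange

end

end Groth.Agent.H20Comod
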