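import Groth.Agent.H20Comod.Unip
import Groth.Agent.H20Comod.Slices

/-!
The coradical filtration at the unit of a bialgebra: coconnected bialgebras and unipotent groups.
-/

set_option autoImplicit false

universe u v w w'

open TensorProduct HopfRep WithConv

namespace Groth.Agent.H20Comod

noncomputable section

section Conv

variable {k : Type u} [CommRing k] {A : Type v} [CommRing A] [Bialgebra k A]

theorem conv_eq_mul (f g : A →ₗ[k] k) : conv f g = (toConv f * toConv g).ofConv := rfl

theorem conv_assoc (f g h : A →ₗ[k] k) : conv (conv f g) h = conv f (conv g h) :=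
  congrArg WithConv.ofConv (mul_assoc (toConv f) (toConv g) (toConv h))

theorem toConv_counit : toConv (CoalgebraStruct.counit (R := k) (A := A)) = 1 := by
  rw [LinearMap.convOne_def]
  congr 1

theorem counit_conv (f : A →ₗ[k] k) : conv (CoalgebraStruct.counit (R := k)) f = f := by
  rw [conv_eq_mul, toConv_counit, one_mul, ofConv_toConv]

theorem conv_counit (f : A →ₗ[k] k) : conv f (CoalgebraStruct.counit (R := k)) = f := by
  rw [conv_eq_mul, toConv_counit, mul_one, ofConv_toConv]

theorem conv_apply_sliceR (f g : A →ₗ[k] k) (a : A) :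
    conv f g a = f (sliceR g (CoalgebraStruct.comul (R := k) a)) := by
  show LinearMap.mul' k k (TensorProduct.map f g (CoalgebraStruct.comul (R := k) a)) = _
  generalize CoalgebraStruct.comul (R := k) a = z
  induction z using TensorProduct.induction_on with
  | zero => simp
  | tmul x y => simp [mul_comm]
  | add x y hx hy => simp [hx, hy]

theorem conv_apply_sliceL (f g : A →ₗ[k] k) (a : A) :
    conv f g a = g (sliceL f (CoalgebraStruct.comul (R := k) a)) := by
  rw [conv_apply_sliceR, apply_sliceR_eq_apply_sliceL]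

theorem conv_one (f g : A →ₗ[k] k) : conv f g 1 = f 1 * g 1 := by
  rw [conv_apply_sliceR, Bialgebra.comul_one, Algebra.TensorProduct.one_def, sliceR_tmul, map_smul,
    smul_eq_mul, mul_comm]

theorem conv_add (f g g' : A →ₗ[k] k) : conv f (g + g') = conv f g + conv f g' := by
  simp only [conv_eq_mul, toConv_add, mul_add, ofConv_add]

theorem add_conv (f f' g : A →ₗ[k] k) : conv (f + f') g = conv f g + conv f' g := by
  simp only [conv_eq_mul, toConv_add, add_mul, ofConv_add]

theorem conv_smul (c : k) (f g : A →ₗ[k] k) : conv f (c • g) = c • conv f g := by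
  simp only [conv_eq_mul, toConv_smul, mul_smul_comm, ofConv_smul]

theorem smul_conv (c : k) (f g : A →ₗ[k] k) : conv (c • f) g = c • conv f g := by
  simp only [conv_eq_mul, toConv_smul, smul_mul_assoc, ofConv_smul]

variable (k A) in
/-- Products of a given length of forms vanishing at the unit. -/
def augPow : ℕ → Set (A →ₗ[k] k)
  | 0 => {CoalgebraStruct.counit}
  | n + 1 => {p | ∃ f : A →ₗ[k] k, f 1 = 0 ∧ ∃ q ∈ augPow n, conv f q = p}

theorem conv_mem_augPow {m n : ℕ} {p q : A →ₗ[k] k} (hp : p ∈ augPow k A m) (hq : q ∈ augPow k A n) :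
    conv p q ∈ augPow k A (n + m) := by
  induction m generalizing p with
  | zero => rw [Set.mem_singleton_iff.1 hp, counit_conv]; exact hq
  | succ m ih =>
    obtain ⟨f, hf, p', hp', rfl⟩ := hp
    rw [conv_assoc]
    exact ⟨f, hf, _, ih hp', rfl⟩

theorem mem_augPow_one {f : A →ₗ[k] k} (hf : f 1 = 0) : f ∈ augPow k A 1 :=
  ⟨f, hf, _, rfl, conv_counit f⟩

theorem apply_one_of_mem_augPow {n : ℕ} {p : A →ₗ[k] k} (hp : p ∈ augPow k A (n + 1)) : p 1 = 0 := by
  obtain ⟨f, hf, q, -, rfl⟩ := hp
  rw [conv_one, hf, zero_mul]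

theorem exists_right_of_mem_augPow {n : ℕ} {p : A →ₗ[k] k} (hp : p ∈ augPow k A (n + 1)) :
    ∃ q ∈ augPow k A n, ∃ f : A →ₗ[k] k, f 1 = 0 ∧ conv q f = p := by
  induction n generalizing p with
  | zero =>
    obtain ⟨f, hf, q, hq, rfl⟩ := hp
    rw [Set.mem_singleton_iff.1 hq, conv_counit]
    exact ⟨_, rfl, f, hf, counit_conv f⟩
  | succ n ih =>
    obtain ⟨f, hf, q, hq, rfl⟩ := hp
    obtain ⟨q', hq', g, hg, rfl⟩ := ih hq
    exact ⟨_, ⟨f, hf, q', hq', rfl⟩, g, hg, conv_assoc f q' g⟩

theorem augPow_succ_succ (n : ℕ) {p : A →ₗ[k] k} (hp : p ∈ augPow k A (n + 2)) : p ∈ augPow k A (n + 1) := by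
  obtain ⟨f, hf, q, ⟨g, hg, r, hr, rfl⟩, rfl⟩ := hp
  exact ⟨conv f g, by rw [conv_one, hf, zero_mul], r, hr, conv_assoc f g r⟩

theorem augPow_anti {m n : ℕ} (h : m ≤ n) {p : A →ₗ[k] k} (hp : p ∈ augPow k A (n + 1)) :
    p ∈ augPow k A (m + 1) := by
  induction n with
  | zero => rwa [Nat.le_zero.1 h]
  | succ n ih =>
    rcases h.eq_or_lt with rfl | h
    · exact hp
    · exact ih (Nat.lt_succ_iff.1 h) (augPow_succ_succ n hp)

variable (k A) in
/-- The filtration orthogonal to the powers of the ideal of forms vanishing at the unit. -/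
def coFil (n : ℕ) : Submodule k A := ⨅ p ∈ augPow k A (n + 1), LinearMap.ker p

theorem mem_coFil {n : ℕ} {a : A} : a ∈ coFil k A n ↔ ∀ p ∈ augPow k A (n + 1), p a = 0 := by
  simp [coFil, Submodule.mem_iInf]

theorem coFil_mono : Monotone (coFil k A) := fun _ _ h _ ha =>
  mem_coFil.2 fun p hp => mem_coFil.1 ha p (augPow_anti h hp)

theorem one_mem_coFil (n : ℕ) : (1 : A) ∈ coFil k A n :=
  mem_coFil.2 fun _ hp => apply_one_of_mem_augPow hp

theorem sliceL_mem_coFil {n : ℕ} {a : A} (ha : a ∈ coFil k A n) (φ : A →ₗ[k] k) :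
    sliceL φ (CoalgebraStruct.comul (R := k) a) ∈ coFil k A n := by
  refine mem_coFil.2 fun p hp => ?_
  rw [← conv_apply_sliceL]
  let ε := CoalgebraStruct.counit (R := k) (A := A)
  have h1 : φ = (φ - φ 1 • ε) + φ 1 • ε := (sub_add_cancel _ _).symm
  have h2 : (φ - φ 1 • ε) 1 = 0 := by simp [ε, Bialgebra.counit_one]
  rw [h1, add_conv, smul_conv, counit_conv, LinearMap.add_apply, LinearMap.smul_apply, mem_coFil.1 ha p hp,
    smul_zero, add_zero]
  exact mem_coFil.1 ha _ (augPow_succ_succ n ⟨_, h2, p, hp, rfl⟩)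

theorem sliceR_mem_coFil {n : ℕ} {a : A} (ha : a ∈ coFil k A n) (φ : A →ₗ[k] k) :
    sliceR φ (CoalgebraStruct.comul (R := k) a) ∈ coFil k A n := by
  refine mem_coFil.2 fun p hp => ?_
  rw [← conv_apply_sliceR]
  let ε := CoalgebraStruct.counit (R := k) (A := A)
  have h1 : φ = (φ - φ 1 • ε) + φ 1 • ε := (sub_add_cancel _ _).symm
  have h2 : (φ - φ 1 • ε) 1 = 0 := by simp [ε, Bialgebra.counit_one]
  rw [h1, conv_add, conv_smul, conv_counit, LinearMap.add_apply, LinearMap.smul_apply, mem_coFil.1 ha p hp,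
    smul_zero, add_zero]
  refine mem_coFil.1 ha _ (augPow_succ_succ n ?_)
  have := conv_mem_augPow hp (mem_augPow_one h2)
  rwa [show 1 + (n + 1) = n + 2 by omega] at this

theorem sliceL_mem_coFil_of_vanish {r i j : ℕ} (h : r ≤ i + j + 1) {a : A} (ha : a ∈ coFil k A r)
    {f : A →ₗ[k] k} (hf : ∀ x ∈ coFil k A i, f x = 0) :
    sliceL f (CoalgebraStruct.comul (R := k) a) ∈ coFil k A j := by
  refine mem_coFil.2 fun q hq => ?_
  rw [← conv_apply_sliceL, conv_apply_sliceR]
  refine hf _ (mem_coFil.2 fun p hp => ?_)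
  rw [← conv_apply_sliceR]
  refine mem_coFil.1 ha _ (augPow_anti h ?_)
  have := conv_mem_augPow hp hq
  rwa [show j + 1 + (i + 1) = i + j + 1 + 1 by omega] at this

end Conv

section Field

variable {k : Type u} [Field k] {A : Type v} [CommRing A] [Bialgebra k A]

theorem coFil_zero : coFil k A 0 = Submodule.span k {(1 : A)} := by
  refine le_antisymm (fun a ha => ?_) (Submodule.span_le.2 (Set.singleton_subset_iff.2 (one_mem_coFil 0)))
  by_contra hc
  obtain ⟨f, hf1, hf2⟩ := Submodule.exists_le_ker_of_notMem hc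
  exact hf1 (mem_coFil.1 ha f (mem_augPow_one (LinearMap.mem_ker.1 (hf2 (Submodule.mem_span_singleton_self 1)))))

theorem exists_mem_coFil (hU : IsUnipotent k A) (a : A) : ∃ n, a ∈ coFil k A n := by
  obtain ⟨F, hF, n, hn⟩ := exists_uniFlag_of_finite hU (Set.finite_singleton a)
  have key : ∀ (n : ℕ), ∀ x ∈ F n, ∀ p ∈ augPow k A n, actL p x = 0 := by
    intro n
    induction n with
    | zero =>
      intro x hx p _
      rw [hF.zero, Submodule.mem_bot] at hx
      rw [hx, map_zero]
    | succ n ih =>
      intro x hx p hp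
      obtain ⟨q, hq, f, hf, rfl⟩ := exists_right_of_mem_augPow hp
      rw [actL_conv]
      refine ih _ ?_ q hq
      have h2 := sliceR_mem_of_mem_range (hF.step n x hx) f
      rwa [map_sub, ← actL_apply, sliceR_tmul, hf, zero_smul, sub_zero] at h2
  rcases n with _ | n
  · refine ⟨0, ?_⟩
    have : a ∈ F 0 := hn rfl
    rw [hF.zero, Submodule.mem_bot] at this
    rw [this]
    exact zero_mem _
  · refine ⟨n, mem_coFil.2 fun p hp => ?_⟩
    have h1 := key (n + 1) a (hn rfl) p hp
    have h2 := congrArg (CoalgebraStruct.counit (R := k)) h1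
    rw [map_zero, actL_apply] at h2
    have h3 := conv_apply_sliceR (CoalgebraStruct.counit (R := k)) p a
    rw [counit_conv] at h3
    exact h3.trans h2

theorem iSup_coFil (hU : IsUnipotent k A) : ⨆ r, coFil k A r = ⊤ :=
  eq_top_iff.2 fun a _ => by
    obtain ⟨n, hn⟩ := exists_mem_coFil hU a
    exact Submodule.mem_iSup_of_mem n hn

theorem sliceL_comul_eq_zero {r : ℕ} {a : A} (ha : a ∈ coFil k A r) {f : A →ₗ[k] k}
    (hf : ∀ x ∈ coFil k A r, f x = 0) : sliceL f (CoalgebraStruct.comul (R := k) a) = 0 := by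
  refine (Module.forall_dual_apply_eq_zero_iff k _).1 fun φ => ?_
  rw [← apply_sliceR_eq_apply_sliceL]
  exact hf _ (sliceR_mem_coFil ha φ)

/-- The shifted filtration, starting at zero. -/
private def shiftFil (k : Type u) (A : Type v) [Field k] [CommRing A] [Bialgebra k A] :
    ℕ → Submodule k A
  | 0 => ⊥
  | i + 1 => coFil k A i

private theorem shiftFil_mono : Monotone (shiftFil k A) := by
  refine monotone_nat_of_le_succ fun i => ?_
  cases i with
  | zero => exact bot_le
  | succ i => exact coFil_mono (Nat.le_succ i)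

theorem comul_coFil_le (r : ℕ) : Submodule.map (CoalgebraStruct.comul (R := k) (A := A)) (coFil k A r) ≤
    ⨆ i ∈ Finset.range (r + 1), LinearMap.range (TensorProduct.mapIncl (coFil k A i) (coFil k A (r - i))) := by
  classical
  set G := shiftFil k A
  set M := ⨆ i ∈ Finset.range (r + 1), LinearMap.range (TensorProduct.mapIncl (coFil k A i) (coFil k A (r - i)))
  let H : A ⊗[k] A → Prop := fun y => ∀ i (f : A →ₗ[k] k), (∀ x ∈ G i, f x = 0) → sliceL f y ∈ G (r + 1 - i)
  have main : ∀ i, ∀ y ∈ LinearMap.range ((G i).subtype.rTensor A), H y → y ∈ M := by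
    intro i
    induction i with
    | zero =>
      rintro y ⟨z, rfl⟩ -
      rw [show (G 0).subtype = 0 from LinearMap.ext fun w => (Submodule.mem_bot k).1 w.2]
      simp
    | succ i ih =>
      intro y hy hH
      obtain ⟨s, hs⟩ := (G i).mkQ.exists_rightInverse_of_surjective (Submodule.range_mkQ _)
      let q : A →ₗ[k] A := s ∘ₗ (G i).mkQ
      have hq0 : ∀ x ∈ G i, q x = 0 := fun x hx => by
        show s ((G i).mkQ x) = 0
        rw [Submodule.mkQ_apply, (Submodule.Quotient.mk_eq_zero _).2 hx, map_zero]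
      have hq1 : ∀ x, x - q x ∈ G i := fun x => by
        rw [← Submodule.Quotient.mk_eq_zero, ← Submodule.mkQ_apply, map_sub]
        exact sub_eq_zero.2 (LinearMap.congr_fun hs _).symm
      have hsplit : y = q.rTensor A y + (LinearMap.id - q).rTensor A y := by
        rw [LinearMap.rTensor_sub, LinearMap.rTensor_id]; simp
      obtain ⟨z, hz⟩ := hy
      rw [hsplit]
      refine add_mem ?_ (ih _ ?_ ?_)
      · let q' : G (i + 1) →ₗ[k] G (i + 1) := (q ∘ₗ (G (i + 1)).subtype).codRestrict _ fun x => by
          have := sub_mem x.2 (shiftFil_mono (Nat.le_succ i) (hq1 x))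
          simpa using this
        have hy1 : q.rTensor A y = (G (i + 1)).subtype.rTensor A (q'.rTensor A z) := by
          rw [← hz, ← LinearMap.rTensor_comp_apply, ← LinearMap.rTensor_comp_apply]
          congr 2
        have hmem : q'.rTensor A z ∈ LinearMap.range ((G (r + 1 - (i + 1 - 1))).subtype.lTensor (G (i + 1))) := by
          rw [mem_range_lTensor_subtype_iff]
          intro φ
          obtain ⟨φ', hφ'⟩ := φ.exists_extend
          rw [← hφ', ← sliceL_rTensor, ← hy1, sliceL_rTensor]
          exact hH i _ fun x hx => by simp [hq0 x hx]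
        obtain ⟨t, ht⟩ := hmem
        rw [hy1, ← ht, ← LinearMap.comp_apply, LinearMap.rTensor_comp_lTensor]
        rcases le_or_gt i r with hir | hir
        · have h1 : G (r + 1 - (i + 1 - 1)) = coFil k A (r - i) := by
            rw [show r + 1 - (i + 1 - 1) = (r - i) + 1 by omega]; rfl
          refine Submodule.mem_iSup_of_mem i (Submodule.mem_iSup_of_mem (Finset.mem_range.2 (by omega)) ?_)
          revert t
          rw [h1]
          exact fun t _ => ⟨t, rfl⟩
        · have : (G (r + 1 - (i + 1 - 1))).subtype = 0 := LinearMap.ext fun w => by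
            have h0 : G (r + 1 - (i + 1 - 1)) = ⊥ := by rw [show r + 1 - (i + 1 - 1) = 0 by omega]; rfl
            exact (Submodule.mem_bot k).1 (h0.le w.2)
          rw [this, TensorProduct.map_zero_right]
          exact zero_mem _
      · refine ⟨((LinearMap.id - q).codRestrict _ hq1).rTensor A y, ?_⟩
        rw [← LinearMap.rTensor_comp_apply, LinearMap.subtype_comp_codRestrict]
      · intro j f hf
        rw [sliceL_rTensor]
        refine hH j _ fun x hx => ?_
        show f (x - q x) = 0
        rcases le_or_gt j i with h | h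
        · rw [hq0 x (shiftFil_mono h hx), sub_zero]; exact hf x hx
        · exact hf _ (shiftFil_mono h.le (hq1 x))
  rintro _ ⟨a, ha, rfl⟩
  refine main (r + 1) _ ?_ ?_
  · rw [mem_range_rTensor_subtype_iff]
    exact sliceR_mem_coFil ha
  · intro i f hf
    rcases i with _ | i
    · exact sliceL_mem_coFil ha f
    · rcases Nat.lt_or_ge i r with hir | hir
      · rw [show r + 1 - (i + 1) = (r - i - 1) + 1 by omega]
        exact sliceL_mem_coFil_of_vanish (by omega) ha hf
      · rw [sliceL_comul_eq_zero ha fun x hx => hf x (coFil_mono hir hx)]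
        exact zero_mem _

/-- A bialgebra with an exhaustive coconnected filtration is unipotent. -/
theorem isUnipotent_of_filtration (C : ℕ → Submodule k A) (hmono : Monotone C)
    (h0 : C 0 = Submodule.span k {(1 : A)}) (htop : ⨆ r, C r = ⊤)
    (hΔ : ∀ r, Submodule.map (CoalgebraStruct.comul (R := k) (A := A)) (C r) ≤
      ⨆ i ∈ Finset.range (r + 1), LinearMap.range (TensorProduct.mapIncl (C i) (C (r - i)))) :
    IsUnipotent k A := by
  classical
  intro V _ _ _ _ _
  obtain ⟨v, hv⟩ := exists_ne (0 : V)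
  let Vr : ℕ → Prop := fun r => ∃ x : V, x ≠ 0 ∧
    Comod.coact (k := k) (A := A) x ∈ LinearMap.range ((C r).subtype.lTensor V)
  have hex : ∃ r, Vr r := by
    obtain ⟨S, hS⟩ := TensorProduct.exists_finset (Comod.coact (k := k) (A := A) v)
    have hdir : Directed (· ≤ ·) C := hmono.directed_le
    have hc : ∀ a : A, ∃ n, a ∈ C n := fun a =>
      (Submodule.mem_iSup_of_directed _ hdir).1 (htop ▸ Submodule.mem_top)
    choose d hd using hc
    refine ⟨S.sup fun j => d j.2, v, hv, ?_⟩
    rw [hS]
    refine Submodule.sum_mem _ fun j hj => ?_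
    exact ⟨j.1 ⊗ₜ[k] ⟨j.2, hmono (Finset.le_sup (f := fun j => d j.2) hj) (hd j.2)⟩, rfl⟩
  intro hbot
  obtain ⟨x, hx0, hx⟩ := Nat.find_spec hex
  generalize hr : Nat.find hex = r at hx
  have hfix : ∀ y : V, Comod.coact (k := k) (A := A) y ∈ LinearMap.range ((C 0).subtype.lTensor V) → y = 0 := by
    rintro y ⟨z, hz⟩
    refine (Submodule.mem_bot k).1 (hbot ▸ ?_)
    show Comod.coact (k := k) (A := A) y = y ⊗ₜ[k] (1 : A)
    have h1 : ∀ z : V ⊗[k] C 0, (C 0).subtype.lTensor V z =
        sliceR (CoalgebraStruct.counit (R := k)) ((C 0).subtype.lTensor V z) ⊗ₜ[k] (1 : A) := by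
      intro z
      induction z using TensorProduct.induction_on with
      | zero => simp
      | tmul w c =>
        obtain ⟨t, ht⟩ := Submodule.mem_span_singleton.1 (h0.le c.2)
        simp [← ht, Bialgebra.counit_one, TensorProduct.smul_tmul]
      | add x y hx hy => rw [map_add, map_add, TensorProduct.add_tmul, ← hx, ← hy]
    conv_rhs => rw [← actL_counit (k := k) (A := A) y, actL_apply, ← hz]
    rw [← hz]
    exact h1 z
  rcases r with _ | r
  · exact hx0 (hfix x hx)
  · have hf0 : ∀ f : A →ₗ[k] k, (∀ c ∈ C r, f c = 0) → actL f x = 0 := by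
      intro f hf
      refine hfix _ ?_
      rw [coact_actL']
      obtain ⟨z, hz⟩ := hx
      rw [← hz, ← LinearMap.lTensor_comp_apply]
      have hmem : ∀ c : C (r + 1), actL f (c : A) ∈ C 0 := by
        intro c
        have h := hΔ (r + 1) (Submodule.mem_map_of_mem c.2)
        show sliceR f (CoalgebraStruct.comul (R := k) (c : A)) ∈ C 0
        refine (iSup₂_le fun i hi => ?_ : _ ≤ (C 0).comap (sliceR f)) h
        rintro _ ⟨t, rfl⟩
        induction t using TensorProduct.induction_on with
        | zero => simp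
        | tmul p q =>
          show sliceR f ((p : A) ⊗ₜ[k] (q : A)) ∈ C 0
          rw [sliceR_tmul]
          rcases i with _ | i
          · exact Submodule.smul_mem _ _ p.2
          · rw [hf q (hmono (by omega) q.2), zero_smul]; exact zero_mem _
        | add x y hx hy => rw [map_add]; exact add_mem hx hy
      exact ⟨((actL f ∘ₗ (C (r + 1)).subtype).codRestrict _ hmem).lTensor V z, by
        rw [← LinearMap.lTensor_comp_apply, LinearMap.subtype_comp_codRestrict]⟩
    refine Nat.find_min hex (by omega : r < Nat.find hex) ⟨x, hx0, ?_⟩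
    refine (lTensor_exact V (LinearMap.exact_subtype_mkQ (C r)) (C r).mkQ_surjective _).1
      (eq_zero_of_forall_sliceR fun ψ => ?_)
    rw [sliceR_lTensor, ← actL_apply]
    exact hf0 _ fun c hc => by simp [(Submodule.Quotient.mk_eq_zero _).2 hc]

end Field

end

end Groth.Agent.H20Comod
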