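import Groth.Agent.H20Comod.Diag
import Groth.Agent.H20Comod.DualMod
import Groth.Agent.S7988
import Mathlib.LinearAlgebra.JordanChevalley
import Mathlib.RingTheory.HopfAlgebra.Basic

/-!
The Jordan decomposition of rational points of affine algebraic groups.
-/

set_option autoImplicit false

universe u v w

open TensorProduct HopfRep Module

namespace Groth.Agent.H20Comod

noncomputable section

section Linear

variable {k : Type u} [Field k] {X : Type v} [AddCommGroup X] [Module k X]
  {Y : Type w} [AddCommGroup Y] [Module k Y]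

/-- `α = s * u` is a multiplicative Jordan decomposition. -/
structure IsJordan (α s u : End k X) : Prop where
  semisimple : s.IsSemisimple
  unipotent : IsNilpotent (u - 1)
  comm : Commute s u
  eq : s * u = α

theorem exists_isJordan [PerfectField k] [FiniteDimensional k X] {α : End k X} (hα : IsUnit α) :
    ∃ s u, IsJordan α s u := by
  obtain ⟨n, hn, s, hs, hnil, hss, h⟩ := α.exists_isNilpotent_isSemisimple
  have hc : Commute s n := Algebra.commute_of_mem_adjoin_singleton_of_commute hn
    (Algebra.commute_of_mem_adjoin_self hs).symm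
  have hus : IsUnit s := by
    rw [show s = α - n from eq_sub_of_add_eq' h.symm]
    rw [sub_eq_add_neg]
    exact IsNilpotent.isUnit_add_left_of_commute hnil.neg hα (Algebra.commute_of_mem_adjoin_self hn).symm.neg_left
  obtain ⟨s', rfl⟩ := hus
  refine ⟨s', 1 + ↑s'⁻¹ * n, hss, ?_, ?_, ?_⟩
  · rw [add_sub_cancel_left]; exact (hc.units_inv_left).isNilpotent_mul_left hnil
  · exact (Commute.one_right _).add_right
      ((Commute.refl (s' : End k X)).units_inv_right.mul_right hc)
  · rw [mul_add, mul_one, ← mul_assoc, Units.mul_inv, one_mul, h, add_comm]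

theorem IsJordan.isUnit [FiniteDimensional k X] {α s u : End k X} (h : IsJordan α s u) (hα : IsUnit α) :
    IsUnit s ∧ IsUnit u := by
  rwa [← h.eq, h.comm.isUnit_mul_iff] at hα

theorem IsJordan.natural [PerfectField k] [FiniteDimensional k X] [FiniteDimensional k Y]
    {α s u : End k X} {β s' u' : End k Y} (h : IsJordan α s u) (h' : IsJordan β s' u')
    (hα : IsUnit α) (hβ : IsUnit β) {f : X →ₗ[k] Y} (hf : ∀ x, f (α x) = β (f x)) :
    (∀ x, f (s x) = s' (f x)) ∧ ∀ x, f (u x) = u' (f x) := by
  have h1 := S7988.result k X Y α s u β s' u' hα hβ h.semisimple h.unipotent h.comm h.eq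
    h'.semisimple h'.unipotent h'.comm h'.eq f (LinearMap.ext hf)
  exact ⟨LinearMap.congr_fun h1.1, LinearMap.congr_fun h1.2⟩

theorem isSemisimple_algHom {Z : Type*} [AddCommGroup Z] [Module k Z] [FiniteDimensional k X]
    (F : End k X →ₐ[k] End k Z) {s : End k X} (hs : s.IsSemisimple) : (F s).IsSemisimple :=
  End.isSemisimple_of_squarefree_aeval_eq_zero hs.minpoly_squarefree
    (by rw [Polynomial.aeval_algHom_apply, minpoly.aeval, map_zero])

theorem IsJordan.tensor [PerfectField k] [FiniteDimensional k X] [FiniteDimensional k Y]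
    {α s u : End k X} {β s' u' : End k Y} (h : IsJordan α s u) (h' : IsJordan β s' u') :
    IsJordan (TensorProduct.map α β : End k (X ⊗[k] Y)) (TensorProduct.map s s') (TensorProduct.map u u') := by
  let L := End.rTensorAlgHom k X Y
  let R := End.lTensorAlgHom k Y X
  have hLR : ∀ a b, TensorProduct.map a b = L a * R b := fun a b => TensorProduct.ext' fun _ _ => rfl
  have hcm : ∀ a b, Commute (L a) (R b) := fun a b => TensorProduct.ext' fun _ _ => rfl
  refine ⟨?_, ?_, ?_, ?_⟩
  · rw [hLR]
    exact (isSemisimple_algHom L h.semisimple).mul_of_commute (hcm _ _) (isSemisimple_algHom R h'.semisimple)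
  · rw [hLR, show L u * R u' - 1 = (L u - 1) * R u' + (R u' - 1) by rw [sub_mul, one_mul]; abel]
    have hl : IsNilpotent (L u - 1) := by simpa using h.unipotent.map L
    have hr : IsNilpotent (R u' - 1) := by simpa using h'.unipotent.map R
    have h1 : Commute (L u - 1) (R u') := (hcm _ _).sub_left (Commute.one_left _)
    refine Commute.isNilpotent_add ?_ (h1.isNilpotent_mul_right hl) hr
    exact ((h1.sub_right (Commute.one_right _)).mul_left ((Commute.refl _).sub_right (Commute.one_right _)))
  · show _ = _
    rw [← TensorProduct.map_mul, ← TensorProduct.map_mul, h.comm.eq, h'.comm.eq]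
  · rw [← TensorProduct.map_mul, h.eq, h'.eq]

/-- Every vector lies in a finite-dimensional stable subspace. -/
def IsLocFin (r : End k X) : Prop :=
  ∀ v : X, ∃ W : Submodule k X, Module.Finite k W ∧ W ∈ r.invtSubmodule ∧ v ∈ W

theorem isUnit_restrict {r : End k X} (hr : Function.Injective r) (W : Submodule k X) [Module.Finite k W]
    (hW : ∀ x ∈ W, r x ∈ W) : IsUnit (r.restrict hW) :=
  (LinearMap.isUnit_iff_ker_eq_bot _).2 (LinearMap.ker_eq_bot.2 fun _ _ h =>
    Subtype.ext (hr (congrArg Subtype.val h)))

variable [PerfectField k] {r : End k X} (hlf : IsLocFin r) (hr : Function.Injective r)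

/-- A stable finite-dimensional subspace through a vector. -/
def locW (v : X) : Submodule k X := (hlf v).choose

instance finite_locW (v : X) : Module.Finite k (locW hlf v) := (hlf v).choose_spec.1

theorem locW_stable (v : X) : ∀ x ∈ locW hlf v, r x ∈ locW hlf v := fun x hx =>
  (hlf v).choose_spec.2.1 hx

/-- Semisimple part on a stable subspace. -/
def locS (v : X) : End k (locW hlf v) := (exists_isJordan (isUnit_restrict hr _ (locW_stable hlf v))).choose

/-- Unipotent part on a stable subspace. -/
def locU (v : X) : End k (locW hlf v) :=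
  (exists_isJordan (isUnit_restrict hr _ (locW_stable hlf v))).choose_spec.choose

theorem loc_spec (v : X) : IsJordan (r.restrict (locW_stable hlf v)) (locS hlf hr v) (locU hlf hr v) :=
  (exists_isJordan (isUnit_restrict hr _ (locW_stable hlf v))).choose_spec.choose_spec

theorem loc_compat {Z : Type*} [AddCommGroup Z] [Module k Z] [FiniteDimensional k Z] {α s u : End k Z}
    (hJ : IsJordan α s u) (hα : IsUnit α) {f : Z →ₗ[k] X} (hf : ∀ z, f (α z) = r (f z)) (v : X) (z : Z)
    (hz : f z = v) :
    (locS hlf hr v ⟨v, (hlf v).choose_spec.2.2⟩ : X) = f (s z) ∧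
      (locU hlf hr v ⟨v, (hlf v).choose_spec.2.2⟩ : X) = f (u z) := by
  let W := locW hlf v ⊔ LinearMap.range f
  haveI : Module.Finite k W := Submodule.finite_sup _ _
  have hW : ∀ x ∈ W, r x ∈ W := by
    intro x hx
    obtain ⟨y, hy, _, ⟨z, rfl⟩, rfl⟩ := Submodule.mem_sup.1 hx
    rw [map_add]
    exact add_mem (Submodule.mem_sup_left (locW_stable hlf v y hy))
      (Submodule.mem_sup_right ⟨α z, hf z⟩)
  obtain ⟨sW, uW, hJW⟩ := exists_isJordan (isUnit_restrict hr W hW)
  have h1 := IsJordan.natural (loc_spec hlf hr v) hJW (isUnit_restrict hr _ _) (isUnit_restrict hr _ _)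
    (f := Submodule.inclusion le_sup_left) (fun _ => rfl)
  have h2 := IsJordan.natural hJ hJW hα (isUnit_restrict hr _ _)
    (f := f.codRestrict W fun x => Submodule.mem_sup_right (LinearMap.mem_range_self f x))
    (fun x => Subtype.ext (hf x))
  have hv : Submodule.inclusion (le_sup_left : locW hlf v ≤ W) ⟨v, (hlf v).choose_spec.2.2⟩ =
      f.codRestrict W (fun x => Submodule.mem_sup_right (LinearMap.mem_range_self f x)) z :=
    Subtype.ext hz.symm
  constructor
  · have a := h1.1 ⟨v, (hlf v).choose_spec.2.2⟩
    rw [hv, ← h2.1 z] at a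
    exact congrArg Subtype.val a
  · have a := h1.2 ⟨v, (hlf v).choose_spec.2.2⟩
    rw [hv, ← h2.2 z] at a
    exact congrArg Subtype.val a

/-- The semisimple part, as a function. -/
def semiFun (v : X) : X := locS hlf hr v ⟨v, (hlf v).choose_spec.2.2⟩

/-- The unipotent part, as a function. -/
def unipFun (v : X) : X := locU hlf hr v ⟨v, (hlf v).choose_spec.2.2⟩

theorem fun_apply {Z : Type*} [AddCommGroup Z] [Module k Z] [FiniteDimensional k Z] {α s u : End k Z}
    (hJ : IsJordan α s u) (hα : IsUnit α) {f : Z →ₗ[k] X} (hf : ∀ z, f (α z) = r (f z)) (z : Z) :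
    semiFun hlf hr (f z) = f (s z) ∧ unipFun hlf hr (f z) = f (u z) :=
  loc_compat hlf hr hJ hα hf _ z rfl

attribute [irreducible] semiFun unipFun

theorem fun_linear (x y : X) (c : k) :
    semiFun hlf hr (c • x + y) = c • semiFun hlf hr x + semiFun hlf hr y ∧
      unipFun hlf hr (c • x + y) = c • unipFun hlf hr x + unipFun hlf hr y := by
  let W := locW hlf x ⊔ locW hlf y
  haveI : Module.Finite k W := Submodule.finite_sup _ _
  have hW : ∀ z ∈ W, r z ∈ W := fun z hz => by
    obtain ⟨a, ha, b, hb, rfl⟩ := Submodule.mem_sup.1 hz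
    rw [map_add]
    exact add_mem (Submodule.mem_sup_left (locW_stable hlf x a ha))
      (Submodule.mem_sup_right (locW_stable hlf y b hb))
  obtain ⟨s, u, hJ⟩ := exists_isJordan (isUnit_restrict hr W hW)
  have h := fun z : W => fun_apply hlf hr hJ (isUnit_restrict hr W hW) (f := W.subtype) (fun _ => rfl) z
  have hx : x ∈ W := Submodule.mem_sup_left (hlf x).choose_spec.2.2
  have hy : y ∈ W := Submodule.mem_sup_right (hlf y).choose_spec.2.2
  have hxy := h (c • ⟨x, hx⟩ + ⟨y, hy⟩)
  simp only [map_add, map_smul] at hxy
  rw [← (h ⟨x, hx⟩).1, ← (h ⟨y, hy⟩).1, ← (h ⟨x, hx⟩).2, ← (h ⟨y, hy⟩).2] at hxy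
  exact hxy

/-- The semisimple part of an injective locally finite operator. -/
def semiPart : End k X where
  toFun := semiFun hlf hr
  map_add' x y := by simpa using (fun_linear hlf hr x y 1).1
  map_smul' c x := by
    have h0 : semiFun hlf hr 0 = 0 := by
      have h := (fun_linear hlf hr 0 0 1).1
      rw [one_smul, one_smul, add_zero] at h
      exact left_eq_add.1 h
    simpa [h0] using (fun_linear hlf hr x 0 c).1

/-- The unipotent part of an injective locally finite operator. -/
def unipPart : End k X where
  toFun := unipFun hlf hr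
  map_add' x y := by simpa using (fun_linear hlf hr x y 1).2
  map_smul' c x := by
    have h0 : unipFun hlf hr 0 = 0 := by
      have h := (fun_linear hlf hr 0 0 1).2
      rw [one_smul, one_smul, add_zero] at h
      exact left_eq_add.1 h
    simpa [h0] using (fun_linear hlf hr x 0 c).2

/-- The parts commute with maps from finite-dimensional spaces. -/
theorem part_apply {Z : Type*} [AddCommGroup Z] [Module k Z] [FiniteDimensional k Z] {α s u : End k Z}
    (hJ : IsJordan α s u) (hα : IsUnit α) {f : Z →ₗ[k] X} (hf : ∀ z, f (α z) = r (f z)) (z : Z) :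
    semiPart hlf hr (f z) = f (s z) ∧ unipPart hlf hr (f z) = f (u z) :=
  fun_apply hlf hr hJ hα hf z

theorem semiPart_unipPart (x : X) :
    semiPart hlf hr (unipPart hlf hr x) = r x ∧ unipPart hlf hr (semiPart hlf hr x) = r x := by
  obtain ⟨W, hWfin, hW, hx⟩ := hlf x
  obtain ⟨s, u, hJ⟩ := exists_isJordan (isUnit_restrict hr W fun _ h => hW h)
  have hp := fun w => part_apply hlf hr hJ (isUnit_restrict hr W fun _ h => hW h) (f := W.subtype) (fun _ => rfl) w
  have h1 := hp ⟨x, hx⟩
  simp only [Submodule.subtype_apply] at hp h1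
  rw [h1.1, h1.2, (hp _).1, (hp _).2]
  exact ⟨congrArg Subtype.val (LinearMap.congr_fun hJ.eq ⟨x, hx⟩),
    congrArg Subtype.val (LinearMap.congr_fun (hJ.comm.eq.symm.trans hJ.eq) ⟨x, hx⟩)⟩

end Linear

section Point

variable {k : Type u} [Field k] {A : Type v} [CommRing A] [HopfAlgebra k A]
  {V : Type w} [AddCommGroup V] [Module k V] [Comod k A V]

theorem toLinearMap_mul_eq_conv (g h : WithConv (A →ₐ[k] k)) :
    (g * h).ofConv.toLinearMap = conv g.ofConv.toLinearMap h.ofConv.toLinearMap := by
  exact congrArg WithConv.ofConv (AlgHom.toLinearMap_convMul g h)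

theorem actL_mul (g h : WithConv (A →ₐ[k] k)) (v : V) :
    actL (g * h).ofConv.toLinearMap v = actL g.ofConv.toLinearMap (actL h.ofConv.toLinearMap v) := by
  rw [toLinearMap_mul_eq_conv, actL_conv]

theorem actL_point_injective (g : A →ₐ[k] k) : Function.Injective (actL g.toLinearMap : V → V) := by
  refine Function.LeftInverse.injective (g := actL (g.toLinearMap ∘ₗ HopfAlgebra.antipode k)) fun v => ?_
  rw [← actL_conv, show conv (g.toLinearMap ∘ₗ HopfAlgebra.antipode k) g.toLinearMap =
      CoalgebraStruct.counit (R := k) (A := A) from ?_, actL_counit]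
  refine LinearMap.ext fun a => ?_
  have h := congrArg g (HopfAlgebra.mul_antipode_rTensor_comul_apply (R := k) a)
  rw [AlgHom.commutes] at h
  refine Eq.trans ?_ h
  show LinearMap.mul' k k (TensorProduct.map _ _ (CoalgebraStruct.comul (R := k) a)) = _
  generalize CoalgebraStruct.comul (R := k) a = z
  induction z using TensorProduct.induction_on with
  | zero => simp
  | tmul x y => simp
  | add x y hx hy => simp [hx, hy]

theorem isLocFin_actL (φ : A →ₗ[k] k) : IsLocFin (actL φ : V →ₗ[k] V) := fun v => by
  obtain ⟨W, hW, hv, hsub⟩ := exists_finite_subcomod (k := k) (A := A) (Set.finite_singleton v)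
  exact ⟨W, hW, fun x hx => actL_mem_of_isSubcomod hsub φ hx, hv rfl⟩

theorem counit_coeff (φ : V →ₗ[k] k) (v : V) :
    CoalgebraStruct.counit (R := k) (coeff A φ v) = φ v := by
  rw [apply_coeff, actL_counit]

variable [PerfectField k] (g : A →ₐ[k] k)

variable (V) in
/-- The semisimple part of the action of a point. -/
def semiAct : End k V := semiPart (isLocFin_actL (V := V) g.toLinearMap) (actL_point_injective g)

variable (V) in
/-- The unipotent part of the action of a point. -/
def unipAct : End k V := unipPart (isLocFin_actL (V := V) g.toLinearMap) (actL_point_injective g)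

/-- The semisimple part of a point, as a linear form. -/
def semiLin : A →ₗ[k] k := CoalgebraStruct.counit (R := k) ∘ₗ semiAct A g

/-- The unipotent part of a point, as a linear form. -/
def unipLin : A →ₗ[k] k := CoalgebraStruct.counit (R := k) ∘ₗ unipAct A g

theorem semiAct_eq_actL (v : V) :
    semiAct V g v = actL (semiLin g) v ∧ unipAct V g v = actL (unipLin g) v := by
  have hJ := loc_spec (isLocFin_actL (V := V) g.toLinearMap) (actL_point_injective g) v
  let W := locW (isLocFin_actL (V := V) g.toLinearMap) v
  let z : W := ⟨v, (isLocFin_actL (V := V) g.toLinearMap v).choose_spec.2.2⟩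
  have key := fun φ : V →ₗ[k] k => part_apply (isLocFin_actL (V := A) g.toLinearMap) (actL_point_injective g) hJ
    (isUnit_restrict (actL_point_injective g) _ _) (f := coeff A φ ∘ₗ W.subtype)
    (fun x => actL_comm_of_isComodHom (isComodHom_coeff φ) _ (x : V)) z
  have key0 := part_apply (isLocFin_actL (V := V) g.toLinearMap) (actL_point_injective g) hJ
    (isUnit_restrict (actL_point_injective g) _ _) (f := W.subtype) (fun _ => rfl) z
  constructor
  · refine (Module.forall_dual_apply_eq_zero_iff k _).1 (fun φ => ?_) |> sub_eq_zero.1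
    rw [map_sub, sub_eq_zero, ← apply_coeff (semiLin g) φ v, show semiAct V g v = _ from key0.1]
    exact ((congrArg (CoalgebraStruct.counit (R := k)) (key φ).1).trans (counit_coeff φ _)).symm
  · refine (Module.forall_dual_apply_eq_zero_iff k _).1 (fun φ => ?_) |> sub_eq_zero.1
    rw [map_sub, sub_eq_zero, ← apply_coeff (unipLin g) φ v, show unipAct V g v = _ from key0.2]
    exact ((congrArg (CoalgebraStruct.counit (R := k)) (key φ).2).trans (counit_coeff φ _)).symm

theorem part_mul (a b : A) :
    semiAct A g (a * b) = semiAct A g a * semiAct A g b ∧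
      unipAct A g (a * b) = unipAct A g a * unipAct A g b := by
  let hlf := isLocFin_actL (V := A) g.toLinearMap
  let hr := actL_point_injective (V := A) g
  let f : locW hlf a ⊗[k] locW hlf b →ₗ[k] A :=
    LinearMap.mul' k A ∘ₗ TensorProduct.map (locW hlf a).subtype (locW hlf b).subtype
  have hf : ∀ z, f (TensorProduct.map ((actL g.toLinearMap).restrict (locW_stable hlf a))
      ((actL g.toLinearMap).restrict (locW_stable hlf b)) z) = actL g.toLinearMap (f z) := by
    have hmul : ∀ x y : A, actL g.toLinearMap (x * y) = actL g.toLinearMap x * actL g.toLinearMap y := by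
      let F : A →ₐ[k] A := ((Algebra.TensorProduct.rid k k A).toAlgHom.comp
        (Algebra.TensorProduct.map (AlgHom.id k A) g)).comp (Bialgebra.comulAlgHom k A)
      exact fun x y => map_mul F x y
    intro z
    induction z using TensorProduct.induction_on with
    | zero => simp
    | tmul x y => exact (hmul x y).symm
    | add x y hx hy => simp only [map_add, hx, hy]
  have ha := part_apply hlf hr (loc_spec hlf hr a) (isUnit_restrict hr _ _) (f := (locW hlf a).subtype)
    (fun _ => rfl) ⟨a, (hlf a).choose_spec.2.2⟩
  have hb := part_apply hlf hr (loc_spec hlf hr b) (isUnit_restrict hr _ _) (f := (locW hlf b).subtype)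
    (fun _ => rfl) ⟨b, (hlf b).choose_spec.2.2⟩
  have hab := part_apply hlf hr ((loc_spec hlf hr a).tensor (loc_spec hlf hr b))
    (by
      rw [show (TensorProduct.map ((actL g.toLinearMap).restrict (locW_stable hlf a))
        ((actL g.toLinearMap).restrict (locW_stable hlf b)) : End k (locW hlf a ⊗[k] locW hlf b)) =
        End.rTensorAlgHom k (locW hlf a) (locW hlf b) ((actL g.toLinearMap).restrict (locW_stable hlf a)) *
        End.lTensorAlgHom k (locW hlf b) (locW hlf a) ((actL g.toLinearMap).restrict (locW_stable hlf b))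
        from TensorProduct.ext' fun _ _ => rfl]
      exact ((isUnit_restrict hr _ _).map _).mul ((isUnit_restrict hr _ _).map _))
    hf (⟨a, (hlf a).choose_spec.2.2⟩ ⊗ₜ ⟨b, (hlf b).choose_spec.2.2⟩)
  simp only [f, LinearMap.comp_apply, TensorProduct.map_tmul, LinearMap.mul'_apply, Submodule.subtype_apply] at ha hb hab
  rw [← ha.1, ← hb.1, ← ha.2, ← hb.2] at hab
  exact hab

theorem part_one : semiAct A g 1 = 1 ∧ unipAct A g 1 = 1 := by
  have h : actL g.toLinearMap (1 : A) = 1 := by
    rw [actL_apply, show Comod.coact (k := k) (A := A) (1 : A) = (1 : A ⊗[k] A) from Bialgebra.comul_one,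
      Algebra.TensorProduct.one_def, sliceR_tmul]
    simp
  have h' := part_apply (isLocFin_actL (V := A) g.toLinearMap) (actL_point_injective g)
    (Z := k) (α := 1) (s := 1) (u := 1) ⟨End.isSemisimple_id, by simp, Commute.one_left _, one_mul _⟩
    isUnit_one (f := Algebra.linearMap k A)
    (fun c => by simp [Algebra.algebraMap_eq_smul_one, h]) 1
  simpa [semiAct, unipAct] using h'

/-- The semisimple part of a point. -/
def semiPt : A →ₐ[k] k := AlgHom.ofLinearMap (semiLin g)
  (by simp [semiLin, (part_one g).1]) (fun a b => by simp [semiLin, (part_mul g a b).1])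

/-- The unipotent part of a point. -/
def unipPt : A →ₐ[k] k := AlgHom.ofLinearMap (unipLin g)
  (by simp [unipLin, (part_one g).2]) (fun a b => by simp [unipLin, (part_mul g a b).2])

theorem semiPt_mul_unipPt :
    WithConv.toConv (semiPt g) * WithConv.toConv (unipPt g) = WithConv.toConv g ∧
      WithConv.toConv (unipPt g) * WithConv.toConv (semiPt g) = WithConv.toConv g := by
  have hcounit : ∀ (φ : A →ₗ[k] k) (a : A), CoalgebraStruct.counit (R := k) (actL φ a) = φ a := fun φ a => by
    rw [← apply_coeff, coeff_counit]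
  have h := fun a => semiPart_unipPart (isLocFin_actL (V := A) g.toLinearMap) (actL_point_injective g) a
  constructor <;> refine WithConv.ofConv_injective (AlgHom.ext fun a => ?_)
  · rw [show (WithConv.toConv (semiPt g) * WithConv.toConv (unipPt g)).ofConv a =
        conv (semiLin g) (unipLin g) a from LinearMap.congr_fun (toLinearMap_mul_eq_conv _ _) a,
      ← hcounit (conv _ _), actL_conv, ← (semiAct_eq_actL g _).1, ← (semiAct_eq_actL g a).2]
    exact (congrArg _ (h a).1).trans (hcounit _ a)
  · rw [show (WithConv.toConv (unipPt g) * WithConv.toConv (semiPt g)).ofConv a =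
        conv (unipLin g) (semiLin g) a from LinearMap.congr_fun (toLinearMap_mul_eq_conv _ _) a,
      ← hcounit (conv _ _), actL_conv, ← (semiAct_eq_actL g _).2, ← (semiAct_eq_actL g a).1]
    exact (congrArg _ (h a).2).trans (hcounit _ a)

theorem isJordan_actL [FiniteDimensional k V] :
    IsJordan (actL g.toLinearMap : End k V) (actL (semiPt g).toLinearMap) (actL (unipPt g).toLinearMap) := by
  obtain ⟨s, u, hJ⟩ := exists_isJordan (X := V) (α := actL g.toLinearMap)
    ((LinearMap.isUnit_iff_ker_eq_bot _).2 (LinearMap.ker_eq_bot.2 (actL_point_injective g)))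
  have h := fun v => part_apply (isLocFin_actL (V := V) g.toLinearMap) (actL_point_injective g) hJ
    ((LinearMap.isUnit_iff_ker_eq_bot _).2 (LinearMap.ker_eq_bot.2 (actL_point_injective g)))
    (f := LinearMap.id) (fun _ => rfl) v
  rwa [show (actL (semiPt g).toLinearMap : End k V) = s from
      LinearMap.ext fun v => (semiAct_eq_actL g v).1.symm.trans (h v).1,
    show (actL (unipPt g).toLinearMap : End k V) = u from
      LinearMap.ext fun v => (semiAct_eq_actL g v).2.symm.trans (h v).2]

end Point

end

end Groth.Agent.H20Comod
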