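import Groth.Agent.H20Comod.UniPow
import Groth.Agent.H20Comod.Diag

/-!
Unipotent against diagonalisable: group-likes are trivial, no nonconstant maps to spans of group-likes.
-/

set_option autoImplicit false

universe u v w w'

open TensorProduct HopfRep WithConv

namespace Groth.Agent.H20Comod

noncomputable section

variable {k : Type u} [Field k] {A : Type v} [CommRing A] [Bialgebra k A]

theorem eq_one_of_isGroupLike (hU : IsUnipotent k A) {g : A} (hg : IsGroupLikeElem k g) : g = 1 := by
  by_contra hne
  obtain ⟨f, hf1, hf0⟩ := exists_dual_groupLike (k := k) hg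
  have h1 : f 1 = 0 := hf0 1 IsGroupLikeElem.one (Ne.symm hne)
  obtain ⟨m, hm⟩ := exists_mem_coFil hU g
  have hpow : ∀ n, (toConv f ^ n).ofConv g = 1 := by
    intro n
    induction n with
    | zero =>
      rw [pow_zero, LinearMap.convOne_def]
      simp [hg.counit_eq_one]
    | succ n ih =>
      rw [pow_succ]
      show LinearMap.mul' k k (TensorProduct.map (toConv f ^ n).ofConv f (CoalgebraStruct.comul (R := k) g)) = 1
      rw [hg.comul_eq_tmul_self, TensorProduct.map_tmul, LinearMap.mul'_apply, ih, hf1, one_mul]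
  exact one_ne_zero ((hpow (m + 1)).symm.trans (convPow_apply_eq_zero (x := toConv f) h1 (m + 1) m (Nat.lt_succ_self m) g hm))

theorem eq_zero_of_idempotent {S : Type w} [CommRing S] [Algebra k S] (hU : IsUnipotent k A)
    {x : WithConv (A →ₗ[k] S)} (hx : x.ofConv 1 = 0) (hid : x * x = x) : x = 0 := by
  refine WithConv.ofConv_injective (LinearMap.ext fun a => ?_)
  obtain ⟨m, hm⟩ := exists_mem_coFil hU a
  have hpow : ∀ n, x ^ (n + 1) = x := by
    intro n
    induction n with
    | zero => rw [pow_one]
    | succ n ih => rw [pow_succ, ih, hid]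
  conv_lhs => rw [← hpow m]
  exact convPow_apply_eq_zero hx (m + 1) m (Nat.lt_succ_self m) a hm

theorem baseChange_map_mem_one {K : Type w} [Field K] [Algebra k K] {B : Type w'} [CommRing B] [Bialgebra k B]
    (hU : IsUnipotent k A) (hD : IsDiagonalizable K (K ⊗[k] B)) (φ : A →ₐc[k] B) (a : A) :
    (1 : K) ⊗ₜ[k] φ a = (1 : K) ⊗ₜ[k] algebraMap k B (CoalgebraStruct.counit (R := k) a) := by
  classical
  let C := K ⊗[k] B
  let B' : Module.Basis {c : C | IsGroupLikeElem K c} K C :=
    Module.Basis.mk (linearIndepOn_isGroupLikeElem (R := K) (A := C)).linearIndependent (by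
      simp only [id_eq, Subtype.range_coe_subtype]; exact hD.ge)
  have hB : ∀ i, B' i = (i : C) := fun i => Module.Basis.mk_apply _ _ i
  let F : (C →ₗ[K] K) → Prop := fun f => ∀ c : C, LinearMap.mul' K K (TensorProduct.map f f (CoalgebraStruct.comul (R := K) c)) = f c
  have hF : ∀ i, F (B'.coord i) := by
    intro i c
    have h : LinearMap.mul' K K ∘ₗ TensorProduct.map (B'.coord i) (B'.coord i) ∘ₗ CoalgebraStruct.comul (R := K) =
        B'.coord i := by
      refine B'.ext fun j => ?_
      simp only [LinearMap.comp_apply]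
      have hj : IsGroupLikeElem K (B' j) := (hB j).symm ▸ j.2
      rw [hj.comul_eq_tmul_self, TensorProduct.map_tmul, LinearMap.mul'_apply, Module.Basis.coord_apply,
        B'.repr_self, Finsupp.single_apply]
      split_ifs <;> simp
    exact LinearMap.congr_fun h c
  have key : ∀ i : {c : C | IsGroupLikeElem K c}, (i : C) ≠ 1 → B'.coord i ((1 : K) ⊗ₜ[k] φ a) = 0 := by
    intro i hi
    let G : B →ₗ[k] K := (B'.coord i).restrictScalars k ∘ₗ (TensorProduct.mk k K B 1)
    let x : WithConv (A →ₗ[k] K) := toConv (G ∘ₗ (φ : A →ₗ[k] B))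
    have hx1 : x.ofConv 1 = 0 := by
      show B'.coord i ((1 : K) ⊗ₜ[k] φ 1) = 0
      rw [map_one, ← Algebra.TensorProduct.one_def, show (1 : C) = B' ⟨1, IsGroupLikeElem.one⟩ from (hB ⟨1, IsGroupLikeElem.one⟩).symm,
        Module.Basis.coord_apply, B'.repr_self, Finsupp.single_apply, if_neg]
      intro h
      exact hi (congrArg Subtype.val h).symm
    have hid : x * x = x := by
      refine WithConv.ofConv_injective (LinearMap.ext fun b => ?_)
      show LinearMap.mul' k K (TensorProduct.map (G ∘ₗ (φ : A →ₗ[k] B)) (G ∘ₗ (φ : A →ₗ[k] B))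
        (CoalgebraStruct.comul (R := k) b)) = G (φ b)
      rw [TensorProduct.map_comp, LinearMap.comp_apply, show TensorProduct.map (φ : A →ₗ[k] B) (φ : A →ₗ[k] B)
        (CoalgebraStruct.comul (R := k) b) = CoalgebraStruct.comul (R := k) (φ b) from
          CoalgHomClass.map_comp_comul_apply φ b]
      show _ = B'.coord i ((1 : K) ⊗ₜ[k] φ b)
      rw [← hF i, comul_one_tmul]
      generalize CoalgebraStruct.comul (R := k) (φ b) = z
      induction z using TensorProduct.induction_on with
      | zero => simp
      | tmul p q => rfl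
      | add u v hu hv => simp only [map_add, hu, hv]
    exact congrArg (fun y : WithConv (A →ₗ[k] K) => y.ofConv a) (eq_zero_of_idempotent hU hx1 hid)
  let i1 : {c : C | IsGroupLikeElem K c} := ⟨1, IsGroupLikeElem.one⟩
  have hc : (1 : K) ⊗ₜ[k] φ a = B'.coord i1 ((1 : K) ⊗ₜ[k] φ a) • (1 : C) := by
    refine B'.repr.injective (Finsupp.ext fun i => ?_)
    rw [map_smul, show (1 : C) = B' i1 from (hB i1).symm, B'.repr_self, Finsupp.smul_apply, Finsupp.single_apply]
    by_cases hi : i1 = i
    · subst hi; simp
    · rw [if_neg hi, smul_zero]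
      exact key i fun h => hi (Subtype.ext h.symm)
  have hε := congrArg (CoalgebraStruct.counit (R := K) (A := C)) hc
  rw [map_smul, Bialgebra.counit_one, TensorProduct.counit_tmul, CoalgHomClass.counit_comp_apply,
    CommSemiring.counit_apply, smul_eq_mul, mul_one, ← Algebra.algebraMap_eq_smul_one] at hε
  rw [hc, ← hε, Algebra.TensorProduct.one_def, TensorProduct.smul_tmul', smul_eq_mul, mul_one,
    Algebra.algebraMap_eq_smul_one (R := k) (A := B), TensorProduct.tmul_smul, TensorProduct.smul_tmul',
    ← Algebra.algebraMap_eq_smul_one]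

end

end Groth.Agent.H20Comod
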