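import Groth.Agent.H20Comod.JordanDecomp
import Groth.Agent.H20Hopf.Rosenlicht
import Mathlib.GroupTheory.Solvable

/-!
The theorem of Lie and Kolchin for reduced connected affine algebraic groups.
-/

set_option autoImplicit false

universe u v w

open HopfRep Module

open scoped commutatorElement

namespace Groth.Agent.H20Comod.LieKolchin

noncomputable section

theorem exists_common_eigenvector {k : Type u} [Field k] [IsAlgClosed k] {V : Type w} [AddCommGroup V]
    [Module k V] [FiniteDimensional k V] [Nontrivial V] {ι : Type*} (f : ι → End k V)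
    (hf : ∀ i j, Commute (f i) (f j)) : ∃ v : V, v ≠ 0 ∧ ∀ i, ∃ c : k, f i v = c • v := by
  classical
  have hex : ∃ n, ∃ W : Submodule k V, W ≠ ⊥ ∧ (∀ i, ∀ x ∈ W, f i x ∈ W) ∧ finrank k W = n :=
    ⟨_, ⊤, top_ne_bot, fun _ _ _ => Submodule.mem_top, rfl⟩
  obtain ⟨W, hW0, hWs, hWn⟩ := Nat.find_spec hex
  obtain ⟨v, hv, hv0⟩ := Submodule.exists_mem_ne_zero_of_ne_bot hW0
  haveI : Nontrivial W := Submodule.nontrivial_iff_ne_bot.2 hW0
  refine ⟨v, hv0, fun i => ?_⟩
  obtain ⟨c, hc⟩ := End.exists_eigenvalue ((f i).restrict (hWs i))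
  obtain ⟨x, hx⟩ := hc.exists_hasEigenvector
  let W' : Submodule k V := W ⊓ (f i).eigenspace c
  have hne : W' ≠ ⊥ := (Submodule.ne_bot_iff _).2 ⟨x, ⟨x.2, End.mem_eigenspace_iff.2
    (congrArg Subtype.val hx.apply_eq_smul)⟩, fun h => hx.2 (Subtype.ext h)⟩
  have hst : ∀ j, ∀ y ∈ W', f j y ∈ W' := fun j y hy => ⟨hWs j y hy.1, End.mem_eigenspace_iff.2 (by
    rw [← End.mul_apply, (hf i j).eq, End.mul_apply, End.mem_eigenspace_iff.1 hy.2, map_smul])⟩
  have hle : finrank k W ≤ finrank k W' := hWn.le.trans (Nat.find_min' hex ⟨W', hne, hst, rfl⟩)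
  have hmem : v ∈ W' := (Submodule.eq_of_le_of_finrank_le (show W' ≤ W from inf_le_left) hle).ge hv
  exact ⟨c, End.mem_eigenspace_iff.1 hmem.2⟩

section Comm

variable {G : Type*} [Group G]

/-- Iterated commutators. -/
def commSet : ℕ → Set G
  | 0 => Set.univ
  | m + 1 => {x | ∃ a ∈ commSet m, ∃ b ∈ commSet m, x = ⁅a, b⁆}

/-- Iterated commutator expressions in one variable. -/
def wordSet : ℕ → Set (G → G)
  | 0 => {p | p = id ∨ ∃ c, p = fun _ => c}
  | m + 1 => {p | ∃ q ∈ wordSet m, ∃ r ∈ wordSet m, p = fun g => ⁅q g, r g⁆}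

theorem one_mem_commSet : ∀ m, (1 : G) ∈ commSet (G := G) m
  | 0 => trivial
  | m + 1 => ⟨1, one_mem_commSet m, 1, one_mem_commSet m, (commutatorElement_one_left 1).symm⟩

theorem conj_mem_commSet : ∀ m (a : G), a ∈ commSet m → ∀ g : G, g * a * g⁻¹ ∈ commSet m
  | 0, _, _, _ => trivial
  | m + 1, _, ⟨a, ha, b, hb, rfl⟩, g => ⟨_, conj_mem_commSet m a ha g, _, conj_mem_commSet m b hb g,
      by simp only [commutatorElement_def]; group⟩

theorem commSet_le_derivedSeries : ∀ m, commSet (G := G) m ⊆ derivedSeries G m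
  | 0 => fun _ _ => Subgroup.mem_top _
  | m + 1 => fun _ ⟨_, ha, _, hb, h⟩ => h ▸ Subgroup.commutator_mem_commutator
      (commSet_le_derivedSeries m ha) (commSet_le_derivedSeries m hb)

theorem const_mem_wordSet : ∀ m (a : G), a ∈ commSet m → (fun _ => a) ∈ wordSet (G := G) m
  | 0, a, _ => Or.inr ⟨a, rfl⟩
  | m + 1, _, ⟨a, ha, b, hb, rfl⟩ => ⟨_, const_mem_wordSet m a ha, _, const_mem_wordSet m b hb, rfl⟩

theorem range_wordSet : ∀ m, ∀ p ∈ wordSet (G := G) m, ∀ g, p g ∈ commSet m
  | 0, _, _, _ => trivial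
  | m + 1, _, ⟨q, hq, r, hr, rfl⟩, g => ⟨_, range_wordSet m q hq g, _, range_wordSet m r hr g, rfl⟩

theorem eq_one_of_const {X : Type*} : ∀ m (a : G), a ∈ commSet m → ∀ F : G → X,
    (∀ p ∈ wordSet (G := G) m, ∀ g g', F (p g) = F (p g')) → F a = F 1
  | 0, a, _, F, hF => hF id (Or.inl rfl) a 1
  | m + 1, _, ⟨a, ha, b, hb, rfl⟩, F, hF => by
    have h := eq_one_of_const m a ha (fun x => F ⁅x, b⁆) fun p hp =>
      hF _ ⟨p, hp, _, const_mem_wordSet m b hb, rfl⟩
    rwa [commutatorElement_one_left] at h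

end Comm

variable {k : Type u} [Field k] {A : Type v} [CommRing A] [HopfAlgebra k A]
  {V : Type w} [AddCommGroup V] [Module k V] [Comod k A V]

variable (k A V) in
/-- The representation of the group of points. -/
def pointRep : WithConv (A →ₐ[k] k) →* End k V where
  toFun g := actL g.ofConv.toLinearMap
  map_one' := LinearMap.ext fun v => actL_counit v
  map_mul' g g' := LinearMap.ext fun v => actL_mul g g' v

/-- Regular functions on the group of points. -/
def IsReg (f : WithConv (A →ₐ[k] k) → k) : Prop := ∃ a : A, ∀ g, f g = g.ofConv a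

theorem isReg_const (c : k) : IsReg (A := A) fun _ => c :=
  ⟨algebraMap k A c, fun g => (g.ofConv.commutes c).symm⟩

theorem isReg_sum_mul {ι : Type*} (s : Finset ι) {f h : ι → WithConv (A →ₐ[k] k) → k}
    (hf : ∀ i, IsReg (f i)) (hh : ∀ i, IsReg (h i)) : IsReg fun g => ∑ i ∈ s, f i g * h i g := by
  choose a ha using hf
  choose b hb using hh
  exact ⟨∑ i ∈ s, a i * b i, fun g => by simp [map_sum, ha, hb]⟩

theorem isReg_eq_of_finite [IsAlgClosed k] [IsReduced A] [Algebra.FiniteType k A] [IsDomain A]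
    {f : WithConv (A →ₐ[k] k) → k} (hf : IsReg f) {S : Set k} (hS : S.Finite) (h : ∀ g, f g ∈ S)
    (g g' : WithConv (A →ₐ[k] k)) : f g = f g' := by
  classical
  obtain ⟨a, ha⟩ := hf
  have h0 : ∏ c ∈ hS.toFinset, (a - algebraMap k A c) = 0 := H20Hopf.Rosenlicht.point_ext (k := k) fun φ => by
    rw [map_prod]
    refine Finset.prod_eq_zero (hS.mem_toFinset.2 (h (WithConv.toConv φ))) ?_
    rw [map_sub, AlgHom.commutes, ha]
    exact sub_self _
  obtain ⟨c, -, hc⟩ := Finset.prod_eq_zero_iff.1 h0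
  rw [ha, ha, sub_eq_zero.1 hc]
  exact (g.ofConv.commutes c).trans (g'.ofConv.commutes c).symm

/-- Regular maps to the endomorphisms. -/
def IsRegEnd (f : WithConv (A →ₐ[k] k) → End k V) : Prop :=
  ∀ (φ : V →ₗ[k] k) (v : V), IsReg fun g => φ (f g v)

theorem IsRegEnd.mul [FiniteDimensional k V] {f h : WithConv (A →ₐ[k] k) → End k V} (hf : IsRegEnd f)
    (hh : IsRegEnd h) : IsRegEnd fun g => f g * h g := by
  intro φ v
  let b := finBasis k V
  obtain ⟨a, ha⟩ := isReg_sum_mul Finset.univ (fun i => hh (b.coord i) v) (fun i => hf φ (b i))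
  refine ⟨a, fun g => ?_⟩
  rw [← ha g]
  dsimp only
  rw [End.mul_apply]
  conv_lhs => rw [← b.sum_repr (h g v), map_sum, map_sum]
  simp [Basis.coord_apply]

variable (V) in
theorem isRegEnd_pointRep :
    IsRegEnd (pointRep k A V) ∧ IsRegEnd fun g => pointRep k A V g⁻¹ := by
  constructor
  · exact fun φ v => ⟨coeff A φ v, fun g => (apply_coeff _ φ v).symm⟩
  · refine fun φ v => ⟨HopfAlgebra.antipode k (coeff A φ v), fun g => ?_⟩
    exact (apply_coeff _ φ v).symm

theorem isRegEnd_word [FiniteDimensional k V] : ∀ m, ∀ p ∈ wordSet (G := WithConv (A →ₐ[k] k)) m,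
    IsRegEnd (fun g => pointRep k A V (p g)) ∧ IsRegEnd (fun g => pointRep k A V (p g)⁻¹)
  | 0, p, hp => by
    rcases hp with rfl | ⟨c, rfl⟩
    · exact isRegEnd_pointRep V
    · exact ⟨fun _ _ => isReg_const _, fun _ _ => isReg_const _⟩
  | m + 1, _, ⟨q, hq, r, hr, rfl⟩ => by
    obtain ⟨hq1, hq2⟩ := isRegEnd_word m q hq
    obtain ⟨hr1, hr2⟩ := isRegEnd_word m r hr
    simp only [commutatorElement_def, mul_inv_rev, inv_inv, map_mul]
    exact ⟨((hq1.mul hr1).mul hq2).mul hr2, hr1.mul (hq1.mul (hr2.mul hq2))⟩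

section Main

variable [IsAlgClosed k] [Algebra.FiniteType k A] [IsReduced A]

theorem isSubcomod_of_stable [FiniteDimensional k V] {W : Submodule k V}
    (hW : ∀ g, ∀ v ∈ W, pointRep k A V g v ∈ W) : IsSubcomod (k := k) (A := A) W := by
  refine (isSubcomod_iff_forall_actL W).2 fun v hv f => ?_
  by_contra hne
  obtain ⟨φ, hφ, hφW⟩ := W.exists_dual_map_eq_bot_of_notMem hne inferInstance
  refine hφ ?_
  rw [← apply_coeff, H20Hopf.Rosenlicht.point_ext (k := k) (a := coeff A φ v) fun g => ?_, map_zero]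
  rw [show g (coeff A φ v) = g.toLinearMap (coeff A φ v) from rfl, apply_coeff]
  exact (LinearMap.le_ker_iff_map.2 hφW) (hW (WithConv.toConv g) v hv)

variable [IsDomain A]

theorem scalar_of_commute [FiniteDimensional k V] (hV : IsSimpleComod k A V) (m : ℕ)
    (hcomm : ∀ a ∈ commSet (G := WithConv (A →ₐ[k] k)) m, ∀ b ∈ commSet (G := WithConv (A →ₐ[k] k)) m,
      Commute (pointRep k A V a) (pointRep k A V b)) :
    ∀ a ∈ commSet (G := WithConv (A →ₐ[k] k)) m, ∃ c : k, pointRep k A V a = c • 1 := by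
  classical
  haveI := hV.1
  obtain ⟨v, hv0, hv⟩ := exists_common_eigenvector (fun a : commSet (G := WithConv (A →ₐ[k] k)) m =>
    pointRep k A V a) fun a b => hcomm a a.2 b b.2
  intro a ha
  obtain ⟨c, hc⟩ := hv ⟨a, ha⟩
  obtain ⟨φ, hφ⟩ : ∃ φ : V →ₗ[k] k, φ v = 1 := by
    obtain ⟨φ, hφ⟩ := Module.Projective.exists_dual_ne_zero k hv0
    exact ⟨(φ v)⁻¹ • φ, by simp [hφ]⟩
  have hgg : ∀ (g : WithConv (A →ₐ[k] k)) (x : V), pointRep k A V g (pointRep k A V g⁻¹ x) = x := fun g x => by
    rw [← End.mul_apply, ← map_mul, mul_inv_cancel, map_one, End.one_apply]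
  have hval : ∀ g, ∃ d : k, pointRep k A V (g⁻¹ * a * g) v = d • v ∧
      (pointRep k A V a).HasEigenvalue d ∧ pointRep k A V a (pointRep k A V g v) = d • pointRep k A V g v := by
    intro g
    have hm := conj_mem_commSet m a ha g⁻¹
    rw [inv_inv] at hm
    obtain ⟨d, hd⟩ := hv ⟨_, hm⟩
    dsimp only at hd
    have h1 : pointRep k A V a (pointRep k A V g v) = d • pointRep k A V g v := by
      rw [← map_smul, ← hd, ← End.mul_apply, ← End.mul_apply, ← map_mul, ← map_mul,
        show g * (g⁻¹ * a * g) = a * g by group]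
    refine ⟨d, hd, End.hasEigenvalue_of_hasEigenvector ⟨End.mem_eigenspace_iff.2 h1, fun h0 => hv0 ?_⟩, h1⟩
    have := hgg g⁻¹ v
    rwa [inv_inv, h0, map_zero, eq_comm] at this
  have hreg : IsReg fun g => φ (pointRep k A V (g⁻¹ * a * g) v) := by
    simp only [map_mul]
    exact ((isRegEnd_pointRep V).2.mul (fun _ _ => isReg_const _)).mul (isRegEnd_pointRep V).1 φ v
  have hconst := isReg_eq_of_finite hreg (End.finite_hasEigenvalue (pointRep k A V a)) (fun g => by
    obtain ⟨d, hd, hev, -⟩ := hval g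
    show End.HasEigenvalue _ _
    rwa [hd, map_smul, hφ, smul_eq_mul, mul_one])
  have hWs : ∀ g, ∀ x ∈ Submodule.span k (Set.range fun h => pointRep k A V h v),
      pointRep k A V g x ∈ Submodule.span k (Set.range fun h => pointRep k A V h v) := by
    intro g x hx
    refine (Submodule.span_le.2 ?_ : Submodule.span k (Set.range fun h => pointRep k A V h v) ≤
      (Submodule.span k (Set.range fun h => pointRep k A V h v)).comap (pointRep k A V g)) hx
    rintro _ ⟨h, rfl⟩
    exact Submodule.subset_span ⟨g * h, by simp [map_mul]⟩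
  have htop : Submodule.span k (Set.range fun h => pointRep k A V h v) = ⊤ := by
    refine (hV.2 _ (isSubcomod_of_stable hWs)).resolve_left fun hbot => hv0 ?_
    rw [← Submodule.mem_bot k, ← hbot]
    exact Submodule.subset_span ⟨1, by simp⟩
  refine ⟨c, LinearMap.ext_on_range htop fun g => ?_⟩
  obtain ⟨d, hd, -, hd'⟩ := hval g
  have h1 := hconst g 1
  simp only [inv_one, one_mul, mul_one] at h1
  rw [hd, map_smul, hc, map_smul, hφ] at h1
  rw [hd', LinearMap.smul_apply, End.one_apply, show d = c by simpa using h1]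

theorem finrank_eq_one [FiniteDimensional k V] (hV : IsSimpleComod k A V)
    [Group.IsSolvable (WithConv (A →ₐ[k] k))] : finrank k V = 1 := by
  classical
  haveI := hV.1
  obtain ⟨N, hN⟩ := (‹Group.IsSolvable (WithConv (A →ₐ[k] k))›).solvable
  have hdesc : ∀ j m, 1 ≤ m → N ≤ m + j → ∀ a ∈ commSet (G := WithConv (A →ₐ[k] k)) m, pointRep k A V a = 1 := by
    intro j
    induction j with
    | zero =>
      intro m _ hm a ha
      have h := derivedSeries_antitone _ (show N ≤ m by omega) (commSet_le_derivedSeries m ha)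
      rw [hN, Subgroup.mem_bot] at h
      rw [h, map_one]
    | succ j ih =>
      intro m h1 hm a ha
      obtain ⟨l, rfl⟩ : ∃ l, m = l + 1 := ⟨m - 1, by omega⟩
      have hcomm : ∀ x ∈ commSet (G := WithConv (A →ₐ[k] k)) (l + 1), ∀ y ∈ commSet (G := WithConv (A →ₐ[k] k)) (l + 1),
          Commute (pointRep k A V x) (pointRep k A V y) := by
        intro x hx y hy
        have h := congrArg (· * (pointRep k A V y * pointRep k A V x))
          (ih (l + 2) (by omega) (by omega) _ ⟨x, hx, y, hy, rfl⟩)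
        simp only [← map_mul, one_mul] at h
        show _ = _
        rw [← map_mul, ← map_mul]
        rwa [commutatorElement_def, show x * y * x⁻¹ * y⁻¹ * (y * x) = x * y by group] at h
      have hroot : ∀ x ∈ commSet (G := WithConv (A →ₐ[k] k)) (l + 1), ∃ c : k,
          pointRep k A V x = c • 1 ∧ c ^ finrank k V = 1 := by
        intro x hx
        obtain ⟨c, hc⟩ := scalar_of_commute hV _ hcomm x hx
        refine ⟨c, hc, ?_⟩
        obtain ⟨p, -, q, -, rfl⟩ := hx
        have h := congrArg LinearMap.det hc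
        rw [LinearMap.det_smul, map_one, mul_one, ← MonoidHom.comp_apply,
          ← (LinearMap.det.comp (pointRep k A V)).coe_toHomUnits, commutatorElement_def,
          map_mul, map_mul, map_mul, map_inv, map_inv, mul_comm (MonoidHom.toHomUnits _ p),
          mul_inv_cancel_right, mul_inv_cancel] at h
        exact h.symm
      refine LinearMap.ext fun u => (Module.forall_dual_apply_eq_zero_iff k _).1 (fun φ => ?_) |> sub_eq_zero.1
      rw [map_sub, sub_eq_zero, ← map_one (pointRep k A V)]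
      refine eq_one_of_const (l + 1) a ha (fun x => φ (pointRep k A V x u)) fun p hp g g' => ?_
      refine isReg_eq_of_finite ((isRegEnd_word (l + 1) p hp).1 φ u)
        (((Polynomial.nthRootsFinset (finrank k V) (1 : k)).finite_toSet).image (fun c => c * φ u)) (fun g => ?_) g g'
      obtain ⟨c, hc, hcn⟩ := hroot _ (range_wordSet _ p hp g)
      exact ⟨c, (Polynomial.mem_nthRootsFinset finrank_pos (1 : k)).2 hcn, by simp [hc]⟩
  have hab : ∀ x y, Commute (pointRep k A V x) (pointRep k A V y) := by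
    intro x y
    have h := congrArg (· * (pointRep k A V y * pointRep k A V x))
      (hdesc N 1 le_rfl (by omega) _ ⟨x, trivial, y, trivial, rfl⟩)
    simp only [← map_mul, one_mul] at h
    show _ = _
    rw [← map_mul, ← map_mul]
    rwa [commutatorElement_def, show x * y * x⁻¹ * y⁻¹ * (y * x) = x * y by group] at h
  obtain ⟨v, hv0, hv⟩ := exists_common_eigenvector (fun x : WithConv (A →ₐ[k] k) => pointRep k A V x) hab
  have h : Submodule.span k {v} = ⊤ := by
    refine (hV.2 _ (isSubcomod_of_stable fun g x hx => ?_)).resolve_left fun hb => hv0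
      ((Submodule.mem_bot k).1 (hb ▸ Submodule.mem_span_singleton_self v))
    obtain ⟨r, rfl⟩ := Submodule.mem_span_singleton.1 hx
    obtain ⟨c, hc⟩ := hv g
    rw [map_smul, hc]
    exact Submodule.smul_mem _ _ (Submodule.smul_mem _ _ (Submodule.mem_span_singleton_self v))
  rw [← finrank_top, ← h, finrank_span_singleton hv0]

end Main

end

end Groth.Agent.H20Comod.LieKolchin
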