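import Groth.Agent.H20Comod.Coconn
import Groth.Agent.H20Comod.Diag
import Groth.Agent.H20FF.Coinv
import Mathlib.RingTheory.HopfAlgebra.Quotient

/-!
Unipotent groups: quotients, primitives, extensions by a subgroup cut out by a primitive.
-/

set_option autoImplicit false

universe u v v' w

open TensorProduct HopfRep WithConv

namespace Groth.Agent.H20Comod

noncomputable section

variable {k : Type u} [Field k]

theorem isUnipotent_of_surjective {A : Type v} [CommRing A] [Bialgebra k A] {A' : Type v'} [CommRing A'] [Bialgebra k A']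
    (f : A →ₐc[k] A') (hf : Function.Surjective f) (hU : IsUnipotent k A) : IsUnipotent k A' := by
  refine isUnipotent_of_filtration (fun r => (coFil k A r).map (f : A →ₗ[k] A'))
    (fun a b h => Submodule.map_mono (coFil_mono h)) ?_ ?_ fun r => ?_
  · show (coFil k A 0).map (f : A →ₗ[k] A') = _
    rw [coFil_zero, Submodule.map_span, Set.image_singleton, show (f : A →ₗ[k] A') 1 = 1 from map_one f]
  · rw [← Submodule.map_iSup, iSup_coFil hU, Submodule.map_top]
    exact LinearMap.range_eq_top.2 hf
  · rintro _ ⟨_, ⟨a, ha, rfl⟩, rfl⟩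
    rw [show CoalgebraStruct.comul (R := k) ((f : A →ₗ[k] A') a) =
      TensorProduct.map (f : A →ₗ[k] A') (f : A →ₗ[k] A') (CoalgebraStruct.comul (R := k) a) from
        (CoalgHomClass.map_comp_comul_apply f a).symm]
    refine (iSup₂_le fun i hi => ?_ : _ ≤ (⨆ i ∈ Finset.range (r + 1), LinearMap.range (TensorProduct.mapIncl
      ((coFil k A i).map (f : A →ₗ[k] A')) ((coFil k A (r - i)).map (f : A →ₗ[k] A')))).comap
        (TensorProduct.map (f : A →ₗ[k] A') (f : A →ₗ[k] A'))) (comul_coFil_le r (Submodule.mem_map_of_mem ha))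
    rintro _ ⟨t, rfl⟩
    refine Submodule.mem_iSup_of_mem i (Submodule.mem_iSup_of_mem hi
      ⟨TensorProduct.map (((f : A →ₗ[k] A') ∘ₗ (coFil k A i).subtype).codRestrict _ fun x => Submodule.mem_map_of_mem (f := (f : A →ₗ[k] A')) x.2)
        (((f : A →ₗ[k] A') ∘ₗ (coFil k A (r - i)).subtype).codRestrict _ fun x => Submodule.mem_map_of_mem (f := (f : A →ₗ[k] A')) x.2) t, ?_⟩)
    simp only [TensorProduct.mapIncl, ← LinearMap.comp_apply, ← TensorProduct.map_comp, LinearMap.subtype_comp_codRestrict]

theorem primitive_sub_counit {A : Type v} [CommRing A] [Bialgebra k A] {a u w : A}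
    (h : CoalgebraStruct.comul (R := k) a = u ⊗ₜ[k] (1 : A) + (1 : A) ⊗ₜ[k] w) :
    CoalgebraStruct.comul (R := k) (a - algebraMap k A (CoalgebraStruct.counit (R := k) a)) =
      (a - algebraMap k A (CoalgebraStruct.counit (R := k) a)) ⊗ₜ[k] (1 : A) +
        (1 : A) ⊗ₜ[k] (a - algebraMap k A (CoalgebraStruct.counit (R := k) a)) := by
  have h1 : sliceR (CoalgebraStruct.counit (R := k) (A := A)) (CoalgebraStruct.comul (R := k) a) = a := actL_counit (V := A) a
  have h2 : sliceL (CoalgebraStruct.counit (R := k) (A := A)) (CoalgebraStruct.comul (R := k) a) = a := by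
    simp [sliceL, Coalgebra.rTensor_counit_comul]
  rw [h] at h1 h2
  simp only [map_add, sliceR_tmul, sliceL_tmul, Bialgebra.counit_one, one_smul] at h1 h2
  have h3 := congrArg (CoalgebraStruct.counit (R := k)) h1
  simp only [map_add, map_smul, Bialgebra.counit_one, smul_eq_mul, mul_one] at h3
  have hu : u = a - CoalgebraStruct.counit (R := k) w • (1 : A) := eq_sub_of_add_eq h1
  have hw : w = a - CoalgebraStruct.counit (R := k) u • (1 : A) := eq_sub_of_add_eq' h2
  rw [map_sub, h, Algebra.algebraMap_eq_smul_one, map_smul, Bialgebra.comul_one, Algebra.TensorProduct.one_def, ← h3]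
  generalize CoalgebraStruct.counit (R := k) u = eu at hw ⊢
  generalize CoalgebraStruct.counit (R := k) w = ew at hu ⊢
  subst hu hw
  simp only [TensorProduct.sub_tmul, TensorProduct.tmul_sub, TensorProduct.tmul_smul, ← TensorProduct.smul_tmul',
    add_smul, TensorProduct.tmul_add, TensorProduct.add_tmul]
  abel

theorem exists_primitive_of_isUnipotent {A : Type v} [CommRing A] [Bialgebra k A] (hU : IsUnipotent k A)
    (hne : ∃ a : A, a ≠ algebraMap k A (CoalgebraStruct.counit (R := k) a)) :
    ∃ x : A, x ≠ 0 ∧ CoalgebraStruct.comul (R := k) x = x ⊗ₜ[k] (1 : A) + (1 : A) ⊗ₜ[k] x := by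
  classical
  have hex : ∃ r, ∃ a ∈ coFil k A r, a ≠ algebraMap k A (CoalgebraStruct.counit (R := k) a) := by
    obtain ⟨a, ha⟩ := hne
    obtain ⟨r, hr⟩ := exists_mem_coFil hU a
    exact ⟨r, a, hr, ha⟩
  obtain ⟨a, ha, hne'⟩ := Nat.find_spec hex
  refine ⟨a - algebraMap k A (CoalgebraStruct.counit (R := k) a), sub_ne_zero.2 hne', ?_⟩
  let N := LinearMap.range ((TensorProduct.mk k A A).flip 1) ⊔ LinearMap.range (TensorProduct.mk k A A 1)
  have hscal : ∀ i < Nat.find hex, ∀ c ∈ coFil k A i, c = CoalgebraStruct.counit (R := k) c • (1 : A) := fun i hi c hc => by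
    rw [← Algebra.algebraMap_eq_smul_one]
    by_contra hcon
    exact Nat.find_min hex hi ⟨c, hc, hcon⟩
  have hmem : CoalgebraStruct.comul (R := k) a ∈ N := by
    refine (iSup₂_le fun i hi => ?_ : _ ≤ N) (comul_coFil_le _ (Submodule.mem_map_of_mem ha))
    rintro _ ⟨t, rfl⟩
    induction t using TensorProduct.induction_on with
    | zero => simp
    | tmul p q =>
      rcases Nat.eq_zero_or_pos (Nat.find hex) with h0 | hpos
      · refine Submodule.mem_sup_left ?_
        obtain ⟨c, hc⟩ := Submodule.mem_span_singleton.1 (coFil_zero.le (coFil_mono (show Nat.find hex - i ≤ 0 by omega) q.2))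
        refine ⟨c • (p : A), ?_⟩
        simp [TensorProduct.mapIncl, ← hc, TensorProduct.smul_tmul]
      · by_cases hi0 : i = 0
        · refine Submodule.mem_sup_right ?_
          subst hi0
          refine ⟨CoalgebraStruct.counit (R := k) (p : A) • (q : A), ?_⟩
          rw [TensorProduct.mapIncl, TensorProduct.map_tmul, Submodule.coe_subtype, Submodule.coe_subtype]
          conv_rhs => rw [hscal 0 hpos p p.2]
          exact (TensorProduct.smul_tmul _ _ _).symm
        · refine Submodule.mem_sup_left ?_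
          refine ⟨CoalgebraStruct.counit (R := k) (q : A) • (p : A), ?_⟩
          rw [TensorProduct.mapIncl, TensorProduct.map_tmul, Submodule.coe_subtype, Submodule.coe_subtype]
          conv_rhs => rw [hscal _ (by omega : Nat.find hex - i < Nat.find hex) q q.2]
          exact TensorProduct.smul_tmul _ _ _
    | add x y hx hy => rw [map_add]; exact add_mem hx hy
  obtain ⟨_, ⟨u, rfl⟩, _, ⟨w, rfl⟩, huw⟩ := Submodule.mem_sup.1 hmem
  exact primitive_sub_counit huw.symm

/-- Corestriction of a comodule along a bialgebra map. -/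
@[reducible] def pushComod {A : Type v} [CommRing A] [Bialgebra k A] {A' : Type v'} [CommRing A'] [Bialgebra k A']
    (π : A →ₐc[k] A') (V : Type w) [AddCommGroup V] [Module k V] (c : Comod k A V) : Comod k A' V where
  coact := (π : A →ₗ[k] A').lTensor V ∘ₗ c.coact
  coassoc := by
    refine LinearMap.ext fun v => ?_
    have hco := LinearMap.congr_fun c.coassoc v
    simp only [LinearMap.coe_comp, Function.comp_apply, LinearEquiv.coe_coe] at hco ⊢
    have h1 : ∀ z : V ⊗[k] A, TensorProduct.assoc k V A' A'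
        (((π : A →ₗ[k] A').lTensor V ∘ₗ c.coact).rTensor A' ((π : A →ₗ[k] A').lTensor V z)) =
        (TensorProduct.map (π : A →ₗ[k] A') (π : A →ₗ[k] A')).lTensor V
          (TensorProduct.assoc k V A A (c.coact.rTensor A z)) := by
      intro z
      induction z using TensorProduct.induction_on with
      | zero => simp
      | tmul x a =>
        simp only [LinearMap.lTensor_tmul, LinearMap.rTensor_tmul, LinearMap.coe_comp, Function.comp_apply]
        generalize c.coact x = y
        induction y using TensorProduct.induction_on with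
        | zero => simp
        | tmul p b => simp
        | add x y hx hy => simp only [TensorProduct.add_tmul, map_add, hx, hy]
      | add x y hx hy => simp only [map_add, hx, hy]
    rw [h1, hco, ← LinearMap.lTensor_comp_apply, ← LinearMap.lTensor_comp_apply]
    congr 2
    exact CoalgHomClass.map_comp_comul π
  counit_comp := by
    rw [← LinearMap.comp_assoc, ← LinearMap.lTensor_comp, CoalgHomClass.counit_comp]
    exact c.counit_comp

/-- An extension of a unipotent quotient by a primitive is unipotent. -/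
theorem isUnipotent_of_primitive {A : Type v} [CommRing A] [HopfAlgebra k A] {A' : Type v} [CommRing A'] [Bialgebra k A']
    (π : A →ₐc[k] A') (hπ : Function.Surjective π) {x : A}
    (hx : CoalgebraStruct.comul (R := k) x = x ⊗ₜ[k] (1 : A) + (1 : A) ⊗ₜ[k] x)
    (hker : ∀ a, π a = 0 → a ∈ Ideal.span ({x} : Set A)) (hU : IsUnipotent k A') : IsUnipotent k A := by
  classical
  have hεx : CoalgebraStruct.counit (R := k) x = 0 := by
    have h1 : sliceR (CoalgebraStruct.counit (R := k) (A := A)) (CoalgebraStruct.comul (R := k) x) = x := actL_counit (V := A) x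
    rw [hx, map_add, sliceR_tmul, sliceR_tmul, Bialgebra.counit_one, one_smul, add_eq_left] at h1
    simpa [Bialgebra.counit_one] using congrArg (CoalgebraStruct.counit (R := k)) h1
  let C : Subalgebra k A := Algebra.adjoin k {x}
  have hC : H20FF.IsHopfSub C := by
    refine ⟨fun b hb => ?_, fun b hb => ?_⟩
    · have hle : C ≤ (Algebra.TensorProduct.map C.val C.val).range.comap (Bialgebra.comulAlgHom k A) := by
        refine Algebra.adjoin_le (Set.singleton_subset_iff.2 ⟨(⟨x, Algebra.self_mem_adjoin_singleton k x⟩ : C) ⊗ₜ[k] (1 : C) +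
          (1 : C) ⊗ₜ[k] (⟨x, Algebra.self_mem_adjoin_singleton k x⟩ : C), ?_⟩)
        show _ = Bialgebra.comulAlgHom k A x
        rw [Bialgebra.comulAlgHom_apply, hx]
        simp
      exact hle hb
    · have hle : C ≤ C.comap (HopfAlgebra.antipodeAlgHom k A) := by
        refine Algebra.adjoin_le (Set.singleton_subset_iff.2 ?_)
        show HopfAlgebra.antipode k x ∈ C
        have h1 := HopfAlgebra.mul_antipode_rTensor_comul_apply (R := k) x
        rw [hx, hεx, map_zero, map_add, map_add, LinearMap.rTensor_tmul, LinearMap.rTensor_tmul, LinearMap.mul'_apply,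
          LinearMap.mul'_apply, mul_one, HopfAlgebra.antipode_one, one_mul] at h1
        rw [eq_neg_of_add_eq_zero_left h1]
        exact neg_mem (Algebra.self_mem_adjoin_singleton k x)
      exact hle hb
  letI := H20FF.subHopf hC
  let ι := H20FF.subVal hC
  have hker' : ∀ a : A, π a = 0 → a ∈ Ideal.map (ι : C →+* A) (RingHom.ker (Bialgebra.counitAlgHom k C)) := by
    intro a ha
    refine (Ideal.span_le.2 (Set.singleton_subset_iff.2 ?_) : Ideal.span ({x} : Set A) ≤ _) (hker a ha)
    exact Ideal.mem_map_of_mem (ι : C →+* A) (show (⟨x, Algebra.self_mem_adjoin_singleton k x⟩ : C) ∈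
      RingHom.ker (Bialgebra.counitAlgHom k C) from hεx)
  intro V _ _ cV hfin hnt
  letI c' := pushComod π V cV
  obtain ⟨w, hw, hw0⟩ := Submodule.exists_mem_ne_zero_of_ne_bot (@hU V _ _ c' hfin hnt)
  have hw' : (π : A →ₗ[k] A').lTensor V (cV.coact w) = w ⊗ₜ[k] (1 : A') := hw
  have hcoeff : ∀ g : V →ₗ[k] k, sliceL g (cV.coact w) ∈ C.toSubmodule := by
    intro g
    have h1 : LinearMap.lTensor A (π : A →ₗ[k] A') (CoalgebraStruct.comul (R := k) (@coeff k _ A _ _ _ V _ _ cV g w)) =
        (@coeff k _ A _ _ _ V _ _ cV g w) ⊗ₜ[k] (1 : A') := by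
      rw [@comul_coeff k _ A _ _ _ V _ _ cV g w, ← LinearMap.comp_apply, LinearMap.lTensor_comp_rTensor,
        ← LinearMap.rTensor_comp_lTensor, LinearMap.comp_apply, hw', LinearMap.rTensor_tmul]
    obtain ⟨b, hb⟩ := H20FF.mem_range_of_coinvariant ι π Subtype.val_injective hπ hker' h1
    show sliceL g (cV.coact w) ∈ C
    rw [show sliceL g (cV.coact w) = ι b from hb.symm]
    exact b.2
  let Bn : ℕ → Submodule k A := fun n => Submodule.span k {y | ∃ i ≤ n, x ^ i = y}
  have hpow : ∀ i m, i ≤ m → x ^ i ∈ Bn m := fun i m h => Submodule.subset_span ⟨i, h, rfl⟩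
  have hBmono : Monotone Bn := fun a b h => Submodule.span_mono fun y ⟨i, hi, hy⟩ => ⟨i, hi.trans h, hy⟩
  have hBall : ∀ y ∈ C, ∃ n, y ∈ Bn n := by
    intro y hy
    obtain ⟨p, rfl⟩ := (Algebra.adjoin_singleton_eq_range_aeval k x).le hy
    refine ⟨p.natDegree, ?_⟩
    rw [show ((Polynomial.aeval x : Polynomial k →ₐ[k] A).toRingHom : Polynomial k →+* A) p = Polynomial.aeval x p from rfl,
      Polynomial.aeval_eq_sum_range]
    exact Submodule.sum_mem _ fun i hi => Submodule.smul_mem _ _ (Submodule.subset_span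
      ⟨i, Nat.lt_succ_iff.1 (Finset.mem_range.1 hi), rfl⟩)
  have hex : ∃ n, ∃ y : V, y ≠ 0 ∧ cV.coact y ∈ LinearMap.range ((Bn n).subtype.lTensor V) := by
    let bV := Module.finBasis k V
    choose d hd using hBall
    refine ⟨Finset.univ.sup fun j => d _ (hcoeff (bV.coord j)), w, hw0, ?_⟩
    rw [mem_range_lTensor_subtype_iff]
    intro g
    have hexp : g = ∑ j, g (bV j) • bV.coord j := by
      refine bV.ext fun i => ?_
      simp [LinearMap.sum_apply, Module.Basis.coord_apply, Finsupp.single_apply]
    have h1 : sliceL g (cV.coact w) = ∑ j, g (bV j) • sliceL (bV.coord j) (cV.coact w) := by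
      conv_lhs => rw [eq_sum_basis_tmul_sliceL bV (cV.coact w)]
      simp [map_sum]
    rw [h1]
    exact Submodule.sum_mem _ fun j _ => Submodule.smul_mem _ _
      (hBmono (Finset.le_sup (f := fun j => d _ (hcoeff (bV.coord j))) (Finset.mem_univ j)) (hd _ _))
  intro hbot
  obtain ⟨y, hy0, hy⟩ := Nat.find_spec hex
  generalize hn : Nat.find hex = n at hy
  have hfix : ∀ v : V, cV.coact v ∈ LinearMap.range ((Bn 0).subtype.lTensor V) → v = 0 := by
    rintro v ⟨t, ht⟩
    refine (Submodule.mem_bot k).1 (hbot ▸ ?_)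
    show cV.coact v = v ⊗ₜ[k] (1 : A)
    have h1 : ∀ t : V ⊗[k] Bn 0, (Bn 0).subtype.lTensor V t =
        sliceR (CoalgebraStruct.counit (R := k)) ((Bn 0).subtype.lTensor V t) ⊗ₜ[k] (1 : A) := by
      intro t
      induction t using TensorProduct.induction_on with
      | zero => simp
      | tmul p q =>
        have hq : (q : A) ∈ Submodule.span k {(1 : A)} := by
          refine Submodule.span_mono ?_ q.2
          rintro _ ⟨i, hi, rfl⟩
          simp [Nat.le_zero.1 hi]
        obtain ⟨r, hr⟩ := Submodule.mem_span_singleton.1 hq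
        simp [← hr, Bialgebra.counit_one, TensorProduct.smul_tmul]
      | add a b ha hb => rw [map_add, map_add, TensorProduct.add_tmul, ← ha, ← hb]
    conv_rhs => rw [← @actL_counit k _ A _ _ _ V _ _ cV v, @actL_apply k _ A _ _ _ V _ _ cV, ← ht]
    rw [← ht]
    exact h1 t
  rcases n with _ | n
  · exact hy0 (hfix y hy)
  · refine Nat.find_min hex (by omega : n < Nat.find hex) ⟨y, hy0, ?_⟩
    refine (lTensor_exact V (LinearMap.exact_subtype_mkQ (Bn n)) (Bn n).mkQ_surjective _).1
      (eq_zero_of_forall_sliceR fun ψ => ?_)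
    rw [sliceR_lTensor, ← @actL_apply k _ A _ _ _ V _ _ cV]
    refine hfix _ ?_
    rw [@coact_actL' k _ A _ _ _ V _ _ cV]
    obtain ⟨t, ht⟩ := hy
    rw [← ht, ← LinearMap.lTensor_comp_apply]
    have hact : ∀ q : Bn (n + 1), actL (ψ ∘ₗ (Bn n).mkQ) (q : A) ∈ Bn 0 := by
      rintro ⟨q, hq⟩
      induction hq using Submodule.span_induction with
      | mem _ h =>
        obtain ⟨i, hi, rfl⟩ := h
        show sliceR (ψ ∘ₗ (Bn n).mkQ) (CoalgebraStruct.comul (R := k) (x ^ i)) ∈ Bn 0
        rw [Bialgebra.comul_pow, hx, (Commute.all _ _).add_pow, map_sum]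
        refine Submodule.sum_mem _ fun j hj => ?_
        rw [Algebra.TensorProduct.tmul_pow, Algebra.TensorProduct.tmul_pow, Algebra.TensorProduct.tmul_mul_tmul,
          one_pow, one_pow, mul_one, one_mul, ← nsmul_eq_mul', map_nsmul, sliceR_tmul]
        by_cases hj0 : j = 0
        · subst hj0
          exact nsmul_mem (Submodule.smul_mem _ _ (hpow 0 0 le_rfl)) _
        · rw [LinearMap.comp_apply, Submodule.mkQ_apply,
            (Submodule.Quotient.mk_eq_zero _).2 (hpow (i - j) n (by omega)), map_zero, zero_smul,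
            smul_zero]
          exact zero_mem _
      | zero => rw [map_zero]; exact zero_mem _
      | add a b _ _ ha hb => rw [map_add]; exact add_mem ha hb
      | smul r a _ ha => rw [map_smul]; exact Submodule.smul_mem _ r ha
    exact ⟨((actL (ψ ∘ₗ (Bn n).mkQ) ∘ₗ (Bn (n + 1)).subtype).codRestrict _ hact).lTensor V t, by
      rw [← LinearMap.lTensor_comp_apply, LinearMap.subtype_comp_codRestrict]⟩

end

end Groth.Agent.H20Comod
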