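import Groth.Agent.H20Comod.OrbitPrimes
import Groth.Agent.H20Comod.LinRed
import Groth.Agent.H8Props.FieldDimRing
import Mathlib.RingTheory.ZariskisMainTheorem

/-!
Stable points of actions of linearly reductive groups on affine schemes: finite stabilisers as
quasi-finiteness of the universal stabiliser at the identity, orbit closures, existence of closed
orbits, the criterion of stability on the fibres of the quotient and openness of the stable locus.
-/

set_option autoImplicit false

universe u v w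

open TensorProduct HopfRep

namespace Groth.Agent.H20Comod.Stability

open OrbitPrimes

noncomputable section

section QuasiFinite

variable {k : Type u} [Field k] [IsAlgClosed k] {R : Type v} [CommRing R] [Algebra k R]
  {B : Type w} [CommRing B] [Algebra k B] [Algebra.FiniteType k B] [Algebra R B] [IsScalarTower k R B]

omit [IsAlgClosed k] [Algebra.FiniteType k B] in
theorem point_eq_of_ker_le {w w' : B →ₐ[k] k} (h : RingHom.ker w ≤ RingHom.ker w') : w' = w :=
  AlgHom.ext fun b => by
    have : b - algebraMap k B (w b) ∈ RingHom.ker w' := h (by simp)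
    simpa [sub_eq_zero] using this

omit [IsAlgClosed k] [Algebra.FiniteType k B] in
theorem exists_separating {T : Set (B →ₐ[k] k)} (hT : T.Finite) (w : B →ₐ[k] k) :
    ∃ f : B, w f ≠ 0 ∧ ∀ w' ∈ T, w' ≠ w → w' f = 0 := by
  classical
  have h : ∀ w' : B →ₐ[k] k, ∃ b : B, w b ≠ 0 ∧ (w' ≠ w → w' b = 0) := fun w' => by
    by_cases e : w' = w
    · exact ⟨1, by simp, fun h => (h e).elim⟩
    · obtain ⟨b, hb⟩ := DFunLike.ne_iff.1 e
      exact ⟨b - algebraMap k B (w' b), by simp [sub_eq_zero, Ne.symm hb], fun _ => by simp⟩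
  choose b hb hb' using h
  refine ⟨∏ w' ∈ hT.toFinset, b w', ?_, fun w' hw' hne => ?_⟩
  · rw [map_prod]
    exact Finset.prod_ne_zero_iff.2 fun w' _ => hb w'
  · rw [map_prod]
    exact Finset.prod_eq_zero (hT.mem_toFinset.2 hw') (hb' w' hne)

theorem quasiFiniteAt_of_finite_points [Algebra.FiniteType R B] (w : B →ₐ[k] k)
    (hfin : {w' : B →ₐ[k] k | w'.comp (IsScalarTower.toAlgHom k R B) =
      w.comp (IsScalarTower.toAlgHom k R B)}.Finite)
    (P : Ideal B) [P.IsPrime] (hP : P = RingHom.ker w) : Algebra.QuasiFiniteAt R P := by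
  obtain ⟨f, hf, hf'⟩ := exists_separating hfin w
  refine Algebra.QuasiFiniteAt.of_isOpen_singleton_fiber ⟨P, ‹_›⟩ ?_
  rw [isOpen_induced_iff]
  refine ⟨PrimeSpectrum.basicOpen f, (PrimeSpectrum.basicOpen f).isOpen, Set.ext fun q => ?_⟩
  obtain ⟨q, hq⟩ := q
  simp only [Set.mem_preimage, Set.mem_singleton_iff, Subtype.mk.injEq]
  refine ⟨fun hfq => ?_, fun e => ?_⟩
  · have hfq : f ∉ q.asIdeal := hfq
    have hover : q.asIdeal.comap (algebraMap R B) = P.comap (algebraMap R B) :=
      congrArg PrimeSpectrum.asIdeal (Set.mem_singleton_iff.1 hq)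
    have hpt : ∀ v : B →ₐ[k] k, q.asIdeal ≤ RingHom.ker v → v f ≠ 0 → v = w := fun v hv hvf => by
      by_contra hne
      refine hvf (hf' v ?_ hne)
      refine (point_eq_of_ker_le ?_)
      intro r hr
      exact hv (show r ∈ q.asIdeal.comap (algebraMap R B) from hover ▸ (show r ∈ P.comap (algebraMap R B) by rw [hP]; exact hr))
    refine PrimeSpectrum.ext (le_antisymm ?_ ?_)
    · obtain ⟨v, hv, hvf⟩ := exists_point_notMem (k := k) q.asIdeal hfq
      rw [hpt v hv hvf] at hv
      exact hP ▸ hv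
    · intro b hb
      by_contra hbq
      obtain ⟨v, hv, hvf⟩ := exists_point_notMem (k := k) q.asIdeal (f := f * b)
        fun h => (q.isPrime.mem_or_mem h).elim hfq hbq
      rw [map_mul] at hvf
      have := hpt v hv (left_ne_zero_of_mul hvf)
      rw [this] at hvf
      exact right_ne_zero_of_mul hvf ((SetLike.ext_iff.1 hP b).1 hb)
  · rw [e]
    show f ∉ P
    rw [hP]
    exact hf

omit [IsAlgClosed k] [Algebra.FiniteType k B] in
theorem isolated_of_quasiFiniteAt [Algebra.FiniteType R B] (w : B →ₐ[k] k) (P : Ideal B) [P.IsPrime]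
    (hP : P = RingHom.ker w) [Algebra.QuasiFiniteAt R P] :
    ∃ f : B, w f ≠ 0 ∧ ∀ w' : B →ₐ[k] k, w' ≠ w →
      w'.comp (IsScalarTower.toAlgHom k R B) = w.comp (IsScalarTower.toAlgHom k R B) → w' f = 0 := by
  haveI : P.LiesOver (P.comap (algebraMap R B)) := ⟨rfl⟩
  obtain ⟨f, hf, H⟩ := Ideal.exists_not_mem_forall_mem_of_ne_of_liesOver (P.comap (algebraMap R B)) P
  refine ⟨f, fun h => hf (by rw [hP]; exact h), fun w' hne hw' => ?_⟩
  refine H (RingHom.ker w') (RingHom.ker_isPrime _) (fun e => hne (point_eq_of_ker_le (e.trans hP).ge))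
    ⟨Ideal.ext fun r => ?_⟩
  have h2 := AlgHom.congr_fun hw' r
  simp only [AlgHom.comp_apply, IsScalarTower.toAlgHom_apply] at h2
  simp only [Ideal.under_def, Ideal.mem_comap, RingHom.mem_ker, hP, h2]

omit k in
theorem isOpen_quasiFiniteAt {R : Type v} [CommRing R] {B : Type w} [CommRing B] [Algebra R B]
    [Algebra.FiniteType R B] (P : Ideal B) [P.IsPrime] [Algebra.QuasiFiniteAt R P] :
    ∃ r ∉ P, ∀ Q : Ideal B, ∀ _ : Q.IsPrime, r ∉ Q → Algebra.QuasiFiniteAt R Q := by
  obtain ⟨r, hr, hbij⟩ := Algebra.ZariskisMainProperty.of_finiteType (R := R) P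
  exact ⟨r.1, hr, fun Q _ hQ => Algebra.ZariskisMainProperty.quasiFiniteAt Q ⟨r, hQ, hbij⟩⟩

end QuasiFinite

variable {k : Type u} [Field k] [IsAlgClosed k] {A : Type u} [CommRing A] [HopfAlgebra k A]
  [Algebra.FiniteType k A]
  {R : Type u} [CommRing R] [Algebra k R] [Comod k A R] [GLin.IsCoactAlg k A R] [Algebra.FiniteType k R]

variable (A) in
/-- The rational stabiliser is finite. -/
def FinStab (x : R →ₐ[k] k) : Prop := {g : A →ₐ[k] k | GLin.actPt k g x = x}.Finite

variable (k A R) in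
/-- The ideal of the universal stabiliser in `R ⊗ A`. -/
def stabRel : Ideal (R ⊗[k] A) :=
  Ideal.span (Set.range fun r : R => Comod.coact (k := k) (A := A) r - r ⊗ₜ[k] (1 : A))

variable (k A R) in
/-- The coordinate ring of the universal stabiliser. -/
abbrev StabAlg : Type u := (R ⊗[k] A) ⧸ stabRel k A R

omit [IsAlgClosed k] [Algebra.FiniteType k A] [Algebra.FiniteType k R] in
theorem actPt_apply (g : A →ₐ[k] k) (z : R →ₐ[k] k) (r : R) :
    GLin.actPt k g z r = Algebra.TensorProduct.lmul' k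
      (Algebra.TensorProduct.map z g (Comod.coact (k := k) (A := A) r)) := by
  rw [GLin.actPt, AlgHom.comp_apply, orbitHom_eq_sliceL]
  generalize Comod.coact (k := k) (A := A) r = t
  induction t using TensorProduct.induction_on with
  | zero => simp
  | tmul p q => simp
  | add p q hp hq => simp only [map_add, hp, hq]

/-- The point `(z, g)` of the universal stabiliser. -/
def stabPt (z : R →ₐ[k] k) (g : A →ₐ[k] k) (h : GLin.actPt k g z = z) : StabAlg k A R →ₐ[k] k :=
  Ideal.Quotient.liftₐ _ ((Algebra.TensorProduct.lmul' k).comp (Algebra.TensorProduct.map z g))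
    fun t ht => by
      refine (Ideal.span_le (I := RingHom.ker
        ((Algebra.TensorProduct.lmul' k).comp (Algebra.TensorProduct.map z g)))).2 ?_ ht
      rintro _ ⟨r, rfl⟩
      simp only [SetLike.mem_coe, RingHom.mem_ker, map_sub, AlgHom.comp_apply, ← actPt_apply, h]
      simp

omit [IsAlgClosed k] [Algebra.FiniteType k A] [Algebra.FiniteType k R] in
theorem stabPt_mk (z : R →ₐ[k] k) (g : A →ₐ[k] k) (h : GLin.actPt k g z = z) (r : R) (a : A) :
    stabPt z g h (Ideal.Quotient.mk _ (r ⊗ₜ[k] a)) = z r * g a := by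
  show Algebra.TensorProduct.lmul' k (Algebra.TensorProduct.map z g (r ⊗ₜ[k] a)) = _
  simp

omit [IsAlgClosed k] [Algebra.FiniteType k A] [Algebra.FiniteType k R] in
theorem stabPt_comp (z : R →ₐ[k] k) (g : A →ₐ[k] k) (h : GLin.actPt k g z = z) :
    (stabPt z g h).comp (IsScalarTower.toAlgHom k R (StabAlg k A R)) = z :=
  AlgHom.ext fun r => (stabPt_mk z g h r 1).trans (by simp)

omit [IsAlgClosed k] [Algebra.FiniteType k A] [Algebra.FiniteType k R] in
theorem exists_eq_stabPt (w : StabAlg k A R →ₐ[k] k) :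
    ∃ (g : A →ₐ[k] k) (h : GLin.actPt k g (w.comp (IsScalarTower.toAlgHom k R (StabAlg k A R))) =
      w.comp (IsScalarTower.toAlgHom k R (StabAlg k A R))),
      w = stabPt (w.comp (IsScalarTower.toAlgHom k R (StabAlg k A R))) g h := by
  let g : A →ₐ[k] k := (w.comp (Ideal.Quotient.mkₐ k _)).comp Algebra.TensorProduct.includeRight
  set z := w.comp (IsScalarTower.toAlgHom k R (StabAlg k A R)) with hz
  have hfac : w.comp (Ideal.Quotient.mkₐ k _) =
      (Algebra.TensorProduct.lmul' k).comp (Algebra.TensorProduct.map z g) := by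
    refine Algebra.TensorProduct.ext' fun r a => ?_
    have : r ⊗ₜ[k] a = (r ⊗ₜ[k] (1 : A)) * ((1 : R) ⊗ₜ[k] a) := by simp
    rw [this, map_mul, map_mul]
    simp [g, z, ← Algebra.TensorProduct.one_def]
    exact Or.inl rfl
  refine ⟨g, AlgHom.ext fun r => ?_, AlgHom.ext fun b => ?_⟩
  · rw [actPt_apply, ← AlgHom.comp_apply, ← hfac]
    show w (Ideal.Quotient.mk _ (Comod.coact (k := k) (A := A) r)) = w (Ideal.Quotient.mk _ (r ⊗ₜ[k] (1 : A)))
    refine congrArg w (Ideal.Quotient.eq.2 (Ideal.subset_span ⟨r, rfl⟩))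
  · obtain ⟨b, rfl⟩ := Ideal.Quotient.mk_surjective b
    exact AlgHom.congr_fun hfac b

variable (A) in
/-- The identity of the stabiliser of `z`. -/
def idPt (z : R →ₐ[k] k) : StabAlg k A R →ₐ[k] k := stabPt z (Bialgebra.counitAlgHom k A) (actPt_one z)

omit [IsAlgClosed k] in
instance finiteType_stabAlg : Algebra.FiniteType k (StabAlg k A R) :=
  haveI : Algebra.FiniteType R (R ⊗[k] A) := inferInstance
  haveI : Algebra.FiniteType k (R ⊗[k] A) := Algebra.FiniteType.trans (S := R) inferInstance inferInstance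
  Algebra.FiniteType.of_surjective (Ideal.Quotient.mkₐ k _) Ideal.Quotient.mk_surjective

omit [IsAlgClosed k] [Algebra.FiniteType k R] in
instance finiteType_stabAlg_base : Algebra.FiniteType R (StabAlg k A R) :=
  Algebra.FiniteType.of_surjective (Ideal.Quotient.mkₐ R _) Ideal.Quotient.mk_surjective

omit [IsAlgClosed k] [Algebra.FiniteType k R] in
/-- A group of rational points in which the identity is isolated is finite. -/
theorem finStab_of_isolated (x : R →ₐ[k] k) {f : A} (h0 : Bialgebra.counitAlgHom k A f ≠ 0)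
    (hf : ∀ g : A →ₐ[k] k, GLin.actPt k g x = x → g ≠ Bialgebra.counitAlgHom k A → g f = 0) :
    FinStab A x := by
  haveI : IsNoetherianRing A := Algebra.FiniteType.isNoetherianRing k A
  letI : GLin.IsCoactAlg k A A := ⟨Bialgebra.comul_one, Bialgebra.comul_mul⟩
  let F : (A →ₐ[k] k) → A := fun h => actAlg ((WithConv.toConv h)⁻¹).ofConv f
  have hev : ∀ g h : A →ₐ[k] k,
      g (F h) = (WithConv.toConv g * (WithConv.toConv h)⁻¹).ofConv f := fun g h => by
    show g (actAlg ((WithConv.toConv h)⁻¹).ofConv f) = _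
    rw [actAlg_apply, actL_apply]
    show g (sliceR _ (Coalgebra.comul (R := k) f)) =
      Algebra.TensorProduct.lmul' k (Algebra.TensorProduct.map g ((WithConv.toConv h)⁻¹).ofConv (Coalgebra.comul (R := k) f))
    generalize Coalgebra.comul (R := k) f = t
    induction t using TensorProduct.induction_on with
    | zero => simp
    | tmul p r => simp [mul_comm]
    | add p r hp hr => simp only [map_add, hp, hr]
  have hself : ∀ h : A →ₐ[k] k, h (F h) ≠ 0 := fun h => by
    rw [hev, mul_inv_cancel]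
    exact h0
  have hne : ∀ g h : A →ₐ[k] k, GLin.actPt k g x = x → GLin.actPt k h x = x → g ≠ h → g (F h) = 0 := by
    intro g h hg hh hgh
    rw [hev]
    refine hf _ ?_ fun e => hgh ?_
    · have hi : GLin.actPt k ((WithConv.toConv h)⁻¹).ofConv x = x := by
        conv_lhs => rw [← hh, actPt_actPt, WithConv.toConv_ofConv, mul_inv_cancel]
        exact actPt_one x
      have := actPt_actPt ((WithConv.toConv h)⁻¹).ofConv g x
      rw [hg, hi, WithConv.toConv_ofConv] at this
      exact this.symm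
    · have : WithConv.toConv g * (WithConv.toConv h)⁻¹ = 1 := congrArg WithConv.toConv e
      exact congrArg WithConv.ofConv (mul_inv_eq_one.1 this)
  set G := {g : A →ₐ[k] k | GLin.actPt k g x = x}
  have hfg : (Ideal.span (F '' G)).FG := IsNoetherian.noetherian _
  obtain ⟨s, hs, hspan⟩ := (Submodule.fg_span_iff_fg_span_finset_subset (F '' G)).1 hfg
  classical
  obtain ⟨T, hT, rfl⟩ := Finset.subset_set_image_iff.1 hs
  refine T.finite_toSet.subset fun g hg => ?_
  by_contra hgT
  refine hself g ?_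
  have hmem : F g ∈ Ideal.span (↑(T.image F) : Set A) := by
    show F g ∈ Submodule.span A _
    rw [← hspan]
    exact Submodule.subset_span ⟨g, hg, rfl⟩
  refine (Ideal.span_le (I := RingHom.ker g)).2 ?_ hmem
  intro a ha
  obtain ⟨h, hh, rfl⟩ := Finset.mem_image.1 (Finset.mem_coe.1 ha)
  exact hne g h hg (hT hh) fun e => hgT (e ▸ hh)

theorem finStab_iff_quasiFiniteAt (z : R →ₐ[k] k) (P : Ideal (StabAlg k A R)) [P.IsPrime]
    (hP : P = RingHom.ker (idPt A z)) : FinStab A z ↔ Algebra.QuasiFiniteAt R P := by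
  refine ⟨fun h => quasiFiniteAt_of_finite_points (idPt A z) ?_ P hP, fun h => ?_⟩
  · rw [idPt, stabPt_comp]
    refine (h.dependent_image fun g hg => stabPt z g hg).subset fun w hw => ?_
    obtain ⟨g, hg, e⟩ := exists_eq_stabPt w
    have hw : w.comp (IsScalarTower.toAlgHom k R (StabAlg k A R)) = z := hw
    subst hw
    exact ⟨g, hg, e.symm⟩
  · obtain ⟨F, hF, H⟩ := isolated_of_quasiFiniteAt (R := R) (idPt A z) P hP
    obtain ⟨t, rfl⟩ := Ideal.Quotient.mk_surjective F
    let f : A := sliceL z.toLinearMap t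
    have hev : ∀ (g : A →ₐ[k] k) (hg : GLin.actPt k g z = z), stabPt z g hg (Ideal.Quotient.mk _ t) = g f := by
      intro g hg
      show Algebra.TensorProduct.lmul' k (Algebra.TensorProduct.map z g t) = g (sliceL z.toLinearMap t)
      clear hF H f
      induction t using TensorProduct.induction_on with
      | zero => simp
      | tmul p q => simp
      | add p q hp hq => simp only [map_add, hp, hq]
    refine finStab_of_isolated z (f := f) (by rw [← hev _ (actPt_one z)]; exact hF) fun g hg hne => ?_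
    rw [← hev g hg]
    refine H _ (fun e => hne (AlgHom.ext fun a => ?_)) (by rw [idPt, stabPt_comp, stabPt_comp])
    have := AlgHom.congr_fun e (Ideal.Quotient.mk _ ((1 : R) ⊗ₜ[k] a))
    simpa [idPt, stabPt_mk] using this

/-- The points with finite stabiliser form an open set. -/
theorem exists_open_finStab {z : R →ₐ[k] k} (hz : FinStab A z) :
    ∃ e : R, z e ≠ 0 ∧ ∀ z' : R →ₐ[k] k, z' e ≠ 0 → FinStab A z' := by
  haveI := RingHom.ker_isPrime (idPt A z)
  haveI := (finStab_iff_quasiFiniteAt z _ rfl).1 hz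
  obtain ⟨r, hr, H⟩ := isOpen_quasiFiniteAt (R := R) (RingHom.ker (idPt A z))
  obtain ⟨t, rfl⟩ := Ideal.Quotient.mk_surjective r
  let e : R := sliceR (Bialgebra.counitAlgHom k A).toLinearMap t
  have hev : ∀ z' : R →ₐ[k] k, idPt A z' (Ideal.Quotient.mk _ t) = z' e := by
    intro z'
    show Algebra.TensorProduct.lmul' k (Algebra.TensorProduct.map z' (Bialgebra.counitAlgHom k A) t) = z' (sliceR _ t)
    clear hr H e
    induction t using TensorProduct.induction_on with
    | zero => simp
    | tmul p q => simp [mul_comm]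
    | add p q hp hq => simp only [map_add, hp, hq]
  refine ⟨e, fun h => hr (by rw [RingHom.mem_ker, hev, h]), fun z' hz' => ?_⟩
  haveI := RingHom.ker_isPrime (idPt A z')
  exact (finStab_iff_quasiFiniteAt z' _ rfl).2 (H _ inferInstance fun h => hz' (by rw [← hev]; exact h))

omit [IsAlgClosed k] [Algebra.FiniteType k A] [Algebra.FiniteType k R] in
theorem finite_fibre {x : R →ₐ[k] k} (hx : FinStab A x) (g : A →ₐ[k] k) :
    {h : A →ₐ[k] k | GLin.actPt k h x = GLin.actPt k g x}.Finite := by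
  refine (hx.image fun γ => (WithConv.toConv γ * WithConv.toConv g).ofConv).subset fun h hh => ?_
  refine ⟨(WithConv.toConv h * (WithConv.toConv g)⁻¹).ofConv, ?_, by simp⟩
  show _ = x
  have := actPt_actPt ((WithConv.toConv g)⁻¹).ofConv h x
  rw [show GLin.actPt k h x = GLin.actPt k g x from hh, actPt_actPt, WithConv.toConv_ofConv,
    mul_inv_cancel] at this
  exact this.symm.trans (actPt_one x)

theorem finStab_actPt {x : R →ₐ[k] k} (hx : FinStab A x) (g : A →ₐ[k] k) : FinStab A (GLin.actPt k g x) := by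
  refine ((finite_fibre hx g).image fun h => ((WithConv.toConv g)⁻¹ * WithConv.toConv h).ofConv).subset fun γ hγ => ?_
  refine ⟨(WithConv.toConv g * WithConv.toConv γ).ofConv, ?_, by simp⟩
  show _ = _
  rw [← actPt_actPt]
  exact hγ

omit [IsAlgClosed k] [Algebra.FiniteType k A] in
theorem dim_quotient_le_of_injective {Q : Ideal R} [Q.IsPrime] {C : Type u} [CommRing C] [IsDomain C]
    [Algebra k C] [Algebra.FiniteType k C] (φ : (R ⧸ Q) →ₐ[k] C) (hφ : Function.Injective φ) :
    ringKrullDim (R ⧸ Q) ≤ ringKrullDim C := by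
  obtain ⟨s, hs, hs'⟩ := H8Props.FieldDim.exists_dim_trdeg (k := k) (R ⧸ Q)
  obtain ⟨t, ht, ht'⟩ := H8Props.FieldDim.exists_dim_trdeg (k := k) C
  rw [hs, ht]
  have := trdeg_le_of_injective φ hφ
  rw [hs', ht'] at this
  exact_mod_cast this

theorem dim_component_eq (k : Type u) [Field k] [IsAlgClosed k] [HopfAlgebra k A] [Algebra.FiniteType k A] {q q' : Ideal A} (hq : q ∈ minimalPrimes A) (hq' : q' ∈ minimalPrimes A) :
    ringKrullDim (A ⧸ q) = ringKrullDim (A ⧸ q') := by
  letI : GLin.IsCoactAlg k A A := ⟨Bialgebra.comul_one, Bialgebra.comul_mul⟩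
  obtain ⟨a, ha, -⟩ := exists_point_only (k := k) hq
  obtain ⟨b, -, hb'⟩ := exists_point_only (k := k) hq'
  set g : A →ₐ[k] k := ((WithConv.toConv a)⁻¹ * WithConv.toConv b).ofConv
  have haτ : q.comap (actAlg g : A →ₐ[k] A) = q' := hb' _ (comap_minimalPrimes (actAlg_bijective g) hq) fun f hf => by
    have h2 : a (actAlg g f) = b f := by
      have hab : (WithConv.toConv a * WithConv.toConv g).ofConv = b := by
        simp [g]
      rw [actAlg_apply, actL_apply, ← hab]
      show a (sliceR g.toLinearMap (Coalgebra.comul (R := k) f)) =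
        Algebra.TensorProduct.lmul' k (Algebra.TensorProduct.map a g (Coalgebra.comul (R := k) f))
      generalize Coalgebra.comul (R := k) f = z
      induction z using TensorProduct.induction_on with
      | zero => simp
      | tmul p r => simp [mul_comm]
      | add z z' hz hz' => simp only [map_add, hz, hz']
    rw [RingHom.mem_ker, ← h2]
    exact ha hf
  let e : A ≃+* A := RingEquiv.ofBijective ((actAlg g : A →ₐ[k] A) : A →+* A) (actAlg_bijective g)
  exact (ringKrullDim_eq_of_ringEquiv (Ideal.quotientEquiv q' q e (by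
    rw [← haτ]
    exact (Ideal.map_comap_of_surjective _ (actAlg_bijective g).2 q).symm))).symm

/-- Under a finite stabiliser the orbit map preserves dimensions of components. -/
theorem dim_le_of_finStab {x : R →ₐ[k] k} (hx : FinStab A x) (q : Ideal A) [q.IsPrime] :
    ringKrullDim (A ⧸ q) ≤ ringKrullDim (R ⧸ q.comap (GLin.orbitHom k A x)) := by
  let θ := GLin.orbitHom k A x
  letI : Algebra R A := θ.toRingHom.toAlgebra
  haveI : IsScalarTower k R A := IsScalarTower.of_algebraMap_eq fun c => (θ.commutes c).symm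
  haveI : Algebra.FiniteType R A := Algebra.FiniteType.of_restrictScalars_finiteType k R A
  have hqf : ∀ Q : Ideal A, ∀ _ : Q.IsPrime, Algebra.QuasiFiniteAt R Q := fun Q _ => by
    obtain ⟨g, hg⟩ := exists_point_le_ker (k := k) ‹Q.IsPrime›.ne_top
    haveI := RingHom.ker_isPrime g
    haveI : Algebra.QuasiFiniteAt R (RingHom.ker g) := quasiFiniteAt_of_finite_points g (finite_fibre hx g) _ rfl
    exact Algebra.QuasiFiniteAt.of_le hg
  let φ : (R ⧸ q.comap θ) →ₐ[k] (A ⧸ q) := Ideal.quotientMapₐ q θ le_rfl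
  refine Order.krullDim_le_of_strictMono (PrimeSpectrum.comap φ.toRingHom) fun p p' hlt => ?_
  refine lt_of_le_of_ne (show _ ≤ _ from Ideal.comap_mono hlt.le) fun e => hlt.ne (PrimeSpectrum.ext ?_)
  haveI : (p.asIdeal.comap (Ideal.Quotient.mk q)).IsPrime := Ideal.comap_isPrime _ _
  haveI : (p'.asIdeal.comap (Ideal.Quotient.mk q)).IsPrime := Ideal.comap_isPrime _ _
  haveI := hqf (p'.asIdeal.comap (Ideal.Quotient.mk q)) inferInstance
  refine Ideal.comap_injective_of_surjective _ Ideal.Quotient.mk_surjective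
    (Algebra.QuasiFiniteAt.eq_of_le_of_under_eq (R := R) (Ideal.comap_mono hlt.le) ?_)
  exact congrArg (fun t : PrimeSpectrum (R ⧸ q.comap θ) => t.asIdeal.comap (Ideal.Quotient.mk _)) e

/-- An orbit with finite stabiliser does not lie in the boundary of another orbit. -/
theorem exists_actPt_eq_of_finStab {x y : R →ₐ[k] k} (hx : FinStab A x)
    (h : GLin.InOrbitClosure k A y x) : ∃ g : A →ₐ[k] k, x = GLin.actPt k g y := by
  haveI := RingHom.ker_isPrime (Bialgebra.counitAlgHom k A)
  obtain ⟨q, hq, -⟩ := Ideal.exists_minimalPrimes_le (I := (⊥ : Ideal A)) (J := RingHom.ker (Bialgebra.counitAlgHom k A)) bot_le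
  haveI := hq.1.1
  set Q := q.comap (GLin.orbitHom k A x)
  haveI : Q.IsPrime := Ideal.comap_isPrime _ _
  have hPQ : RingHom.ker (GLin.orbitHom k A y) ≤ Q := fun f hf => by
    rw [Ideal.mem_comap, show GLin.orbitHom k A x f = 0 from ker_orbitHom_le y h hf]
    exact q.zero_mem
  obtain ⟨Q', hQ', hle⟩ := Ideal.exists_minimalPrimes_le hPQ
  obtain ⟨q₂, hq₂p, hq₂⟩ := Ideal.exists_comap_eq_of_mem_minimalPrimes (f := (GLin.orbitHom k A y).toRingHom) (I := ⊥) Q' hQ'
  haveI := hq₂p.1
  replace hq₂ : q₂.comap (GLin.orbitHom k A y) = Q' := hq₂.2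
  obtain ⟨q₃, hq₃, hq₃le⟩ := Ideal.exists_minimalPrimes_le (I := (⊥ : Ideal A)) (J := q₂) bot_le
  haveI := hq₃.1.1
  have hq₃' : q₃.comap (GLin.orbitHom k A y) = Q' := le_antisymm ((Ideal.comap_mono hq₃le).trans_eq hq₂)
    (hQ'.2 ⟨Ideal.comap_isPrime _ q₃, fun f hf => by
      rw [Ideal.mem_comap, show GLin.orbitHom k A y f = 0 from hf]; exact q₃.zero_mem⟩
      ((Ideal.comap_mono hq₃le).trans_eq hq₂))
  rcases hle.eq_or_lt with heq | hlt
  · exact exists_actPt_eq_of_comap_eq y x q₃ q (hq₃'.trans heq)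
  · exfalso
    haveI := hQ'.1.1
    have h1 : ringKrullDim (R ⧸ Q) < ringKrullDim (R ⧸ Q') := H8Props.FieldDim.dim_quotient_lt (k := k) R Q' Q hlt
    have h2 : ringKrullDim (R ⧸ Q') ≤ ringKrullDim (A ⧸ q₃) := dim_quotient_le_of_injective
      (Ideal.quotientMapₐ q₃ (GLin.orbitHom k A y) hq₃'.ge)
      (Ideal.quotientMap_injective' (H := hq₃'.ge) hq₃'.le)
    rw [dim_component_eq k hq₃ hq] at h2
    exact absurd (h1.trans_le (h2.trans (dim_le_of_finStab hx q))) (lt_irrefl _)

/-- Every orbit closure contains a closed orbit. -/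
theorem exists_isClosedOrbit_inOrbitClosure (x : R →ₐ[k] k) :
    ∃ z : R →ₐ[k] k, GLin.IsClosedOrbit k A z ∧ GLin.InOrbitClosure k A x z := by
  haveI : IsNoetherianRing R := Algebra.FiniteType.isNoetherianRing k R
  obtain ⟨P, ⟨z, hxz, rfl⟩, hmax⟩ := (set_has_maximal_iff_noetherian.2 (inferInstance : IsNoetherian R R))
    {P : Ideal R | ∃ z : R →ₐ[k] k, GLin.InOrbitClosure k A x z ∧ P = RingHom.ker (GLin.orbitHom k A z)}
    ⟨_, x, ker_orbitHom_le_ker x, rfl⟩
  refine ⟨z, isClosedOrbit_of_forall z fun w hw => ?_, hxz⟩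
  have hle := ker_orbitHom_le z hw
  have heq : RingHom.ker (GLin.orbitHom k A z) = RingHom.ker (GLin.orbitHom k A w) :=
    hle.eq_or_lt.resolve_right (hmax _ ⟨w, (ker_orbitHom_le x hxz).trans hw, rfl⟩)
  haveI := RingHom.ker_isPrime (Bialgebra.counitAlgHom k A)
  obtain ⟨q, hq, -⟩ := Ideal.exists_minimalPrimes_le (I := (⊥ : Ideal A)) (J := RingHom.ker (Bialgebra.counitAlgHom k A)) bot_le
  haveI := hq.1.1
  have h := comap_orbitHom_mem_minimalPrimes w hq
  rw [← heq] at h
  obtain ⟨q', hq'p, hq'⟩ := Ideal.exists_comap_eq_of_mem_minimalPrimes (f := (GLin.orbitHom k A z).toRingHom) (I := ⊥) _ h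
  haveI := hq'p.1
  exact exists_actPt_eq_of_comap_eq z w q' q hq'.2

omit [Algebra.FiniteType k R] in
theorem inOrbitClosure_of_exists {x z : R →ₐ[k] k} (h : ∃ g : A →ₐ[k] k, z = GLin.actPt k g x) :
    GLin.InOrbitClosure k A x z := by
  obtain ⟨g, rfl⟩ := h
  exact (ker_orbitHom_actPt_le x g).trans (ker_orbitHom_le_ker _)

theorem inOrbitClosure_trans {x z w : R →ₐ[k] k} (h : GLin.InOrbitClosure k A x z)
    (h' : GLin.InOrbitClosure k A z w) : GLin.InOrbitClosure k A x w :=
  (ker_orbitHom_le x h).trans h'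

section Reductive

variable {α : A →ₗ[k] k} (hα : IsIntegral α) (h1 : α 1 = 1)
include hα h1

/-- A closed orbit lies in the closure of every orbit with the same invariants. -/
theorem inOrbitClosure_of_isClosedOrbit {x y : R →ₐ[k] k} (hy : GLin.IsClosedOrbit k A y)
    (h : ∀ f ∈ GLin.invariants k A R, x f = y f) : GLin.InOrbitClosure k A x y := by
  obtain ⟨z, hxz, hyz⟩ := exists_inOrbitClosure_both hα h1 h
  obtain ⟨g, rfl⟩ := exists_actPt_eq_of_isClosedOrbit hy hyz
  refine inOrbitClosure_trans hxz (inOrbitClosure_of_exists ⟨((WithConv.toConv g)⁻¹).ofConv, ?_⟩)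
  rw [actPt_actPt, WithConv.toConv_ofConv, mul_inv_cancel]
  exact (actPt_one y).symm

/-- Stability means that the whole fibre of the quotient has finite stabilisers. -/
theorem stable_iff_forall_fibre (x : R →ₐ[k] k) :
    GLin.IsClosedOrbit k A x ∧ FinStab A x ↔
      ∀ z : R →ₐ[k] k, (∀ f ∈ GLin.invariants k A R, z f = x f) → FinStab A z := by
  refine ⟨fun ⟨hc, hf⟩ z hz => ?_, fun H => ⟨?_, H x fun _ _ => rfl⟩⟩
  · obtain ⟨g, rfl⟩ := exists_actPt_eq_of_finStab hf (inOrbitClosure_of_isClosedOrbit hα h1 hc hz)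
    have := finStab_actPt hf ((WithConv.toConv g)⁻¹).ofConv
    rwa [actPt_actPt, WithConv.toConv_ofConv, mul_inv_cancel,
      show GLin.actPt k (1 : WithConv (A →ₐ[k] k)).ofConv z = z from actPt_one z] at this
  · obtain ⟨z, hz, hxz⟩ := exists_isClosedOrbit_inOrbitClosure (A := A) x
    have hfz := H z fun f hf => apply_eq_of_inOrbitClosure (A := A) hxz hf
    obtain ⟨g, rfl⟩ := exists_actPt_eq_of_finStab hfz hxz
    refine isClosedOrbit_of_forall x fun w hw => ?_
    obtain ⟨g', rfl⟩ := exists_actPt_eq_of_isClosedOrbit hz ((ker_orbitHom_actPt x g).le.trans hw)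
    exact ⟨_, actPt_actPt g' g x⟩

/-- A closed orbit is separated from a disjoint invariant closed set by an invariant. -/
theorem exists_invariant_ne_zero {x : R →ₐ[k] k} {I : Ideal R}
    (hI : IsSubcomod (k := k) (A := A) (I.restrictScalars k))
    (h : ∀ w : R →ₐ[k] k, RingHom.ker (GLin.orbitHom k A x) ≤ RingHom.ker w → ¬ I ≤ RingHom.ker w) :
    ∃ f ∈ GLin.invariants k A R, f ∈ I ∧ x f ≠ 0 := by
  have htop : RingHom.ker (GLin.orbitHom k A x) ⊔ I = ⊤ := by
    by_contra hne
    obtain ⟨w, hw⟩ := exists_point_le_ker (k := k) hne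
    exact h w (le_sup_left.trans hw) (le_sup_right.trans hw)
  obtain ⟨p, hp, i, hi, hpi⟩ := Submodule.mem_sup.1 ((Ideal.eq_top_iff_one _).1 htop)
  refine ⟨actL α i, actL_mem_fixedPts hα h1 i, actL_mem_of_isSubcomod hI α hi, fun hc => ?_⟩
  have h2 : actL α (1 : R) = 1 := actL_eq_self_of_fixed h1 (one_mem (GLin.invariants k A R))
  rw [← hpi, map_add] at h2
  have h3 := congrArg x h2
  rw [map_add, apply_eq_zero_of_orbitHom_eq_zero x (actL_mem_of_isSubcomod (isSubcomod_ker_orbitHom x) α hp),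
    hc, hpi, map_one] at h3
  simp at h3

variable [IsReduced A]

omit hα h1 [IsReduced A] in
theorem actPt_actAlg (g : A →ₐ[k] k) (z : R →ₐ[k] k) (f : R) :
    z (actAlg g f) = GLin.actPt k g z f := by
  rw [actAlg_apply, actL_apply, actPt_apply]
  generalize Comod.coact (k := k) (A := A) f = t
  induction t using TensorProduct.induction_on with
  | zero => simp
  | tmul p q => simp [mul_comm]
  | add p q hp hq => simp only [map_add, hp, hq]

omit hα h1 in
theorem eq_zero_of_forall_points {a : A} (h : ∀ g : A →ₐ[k] k, g a = 0) : a = 0 := by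
  by_contra ha
  obtain ⟨M, hM, haM⟩ : ∃ M : Ideal A, M.IsPrime ∧ a ∉ M := by
    by_contra hc
    push Not at hc
    exact ha (IsReduced.eq_zero a (nilpotent_iff_mem_prime.2 fun J hJ => hc J hJ))
  obtain ⟨g, -, hg⟩ := exists_point_notMem (k := k) M haM
  exact hg (h g)

omit hα h1 in
/-- The functions vanishing on an invariant set of rational points form a stable ideal. -/
theorem exists_stable_vanishing (Z : Set (R →ₐ[k] k)) (hZ : ∀ z ∈ Z, ∀ g : A →ₐ[k] k, GLin.actPt k g z ∈ Z) :
    ∃ J : Ideal R, IsSubcomod (k := k) (A := A) (J.restrictScalars k) ∧ ∀ f, f ∈ J ↔ ∀ z ∈ Z, z f = 0 := by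
  refine ⟨⨅ z ∈ Z, RingHom.ker z, ?_, fun f => by simp [Submodule.mem_iInf]⟩
  rw [isSubcomod_iff_forall_actL]
  intro f hf φ
  simp only [Submodule.restrictScalars_mem, Submodule.mem_iInf, RingHom.mem_ker] at hf ⊢
  intro z hz
  have h0 : GLin.orbitHom k A z f = 0 := eq_zero_of_forall_points fun g => hf _ (hZ z hz g)
  rw [orbitHom_eq_sliceL] at h0
  have : ∀ t : R ⊗[k] A, z (sliceR φ t) = φ (sliceL z.toLinearMap t) := fun t => by
    induction t using TensorProduct.induction_on with
    | zero => simp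
    | tmul p q => simp [mul_comm]
    | add p q hp hq => simp only [map_add, hp, hq]
  rw [actL_apply, this, h0, map_zero]

/-- The stable locus is cut out by invariants. -/
theorem exists_stable_cutting :
    ∃ S : Set R, S ⊆ GLin.invariants k A R ∧
      ∀ x : R →ₐ[k] k, GLin.IsClosedOrbit k A x ∧ FinStab A x ↔ ∃ f ∈ S, x f ≠ 0 := by
  obtain ⟨J, hJ, hmem⟩ := exists_stable_vanishing {z : R →ₐ[k] k | ¬ FinStab A z} fun z hz g hg => hz (by
    have := finStab_actPt hg ((WithConv.toConv g)⁻¹).ofConv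
    rwa [actPt_actPt, WithConv.toConv_ofConv, mul_inv_cancel,
      show GLin.actPt k (1 : WithConv (A →ₐ[k] k)).ofConv z = z from actPt_one z] at this)
  refine ⟨{f | f ∈ GLin.invariants k A R ∧ f ∈ J}, fun f hf => hf.1, fun x => ⟨fun ⟨hc, hf⟩ => ?_, ?_⟩⟩
  · obtain ⟨f, h1', h2, h3⟩ := exists_invariant_ne_zero hα h1 hJ fun w hw hJw => by
      obtain ⟨g, rfl⟩ := exists_actPt_eq_of_isClosedOrbit hc hw
      obtain ⟨e, he, H⟩ := exists_open_finStab (finStab_actPt hf g)
      refine he (hJw ((hmem e).2 fun z hz => ?_))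
      by_contra h0
      exact hz (H z h0)
    exact ⟨f, ⟨h1', h2⟩, h3⟩
  · rintro ⟨f, ⟨hfi, hfJ⟩, hxf⟩
    rw [stable_iff_forall_fibre hα h1]
    intro z hz
    by_contra hn
    exact hxf (by rw [← hz f hfi]; exact (hmem f).1 hfJ z hn)

/-- An invariant fraction is a quotient of invariants when a stable point exists. -/
theorem exists_invariant_fraction [IsDomain R] {x : R →ₐ[k] k} (hc : GLin.IsClosedOrbit k A x)
    (hf : FinStab A x) {a b : R} (hb : b ≠ 0)
    (hab : ∀ g : A →ₐ[k] k, a * actAlg g b = b * actAlg g a) :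
    ∃ c ∈ GLin.invariants k A R, ∃ d ∈ GLin.invariants k A R, d ≠ 0 ∧ a * d = b * c := by
  let I : Ideal R := (Ideal.span {b}).colon {a}
  obtain ⟨S, hS, hS'⟩ := exists_stable_cutting (R := R) hα h1
  obtain ⟨e, heS, hxe⟩ := (hS' x).1 ⟨hc, hf⟩
  have he : e ≠ 0 := fun h => hxe (by rw [h, map_zero])
  obtain ⟨y, hy⟩ : ∃ y : R →ₐ[k] k, y (b * e) ≠ 0 := by
    obtain ⟨y, -, hy⟩ := exists_point_notMem (k := k) (⊥ : Ideal R) (f := b * e)
      (by simp [hb, he])
    exact ⟨y, hy⟩
  rw [map_mul] at hy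
  obtain ⟨hyc, hyf⟩ := (hS' y).2 ⟨e, heS, right_ne_zero_of_mul hy⟩
  have hmemI : ∀ d : R, d ∈ I ↔ ∃ c, a * d = b * c := fun d => by
    simp only [I, Submodule.mem_colon_singleton, smul_eq_mul, Ideal.mem_span_singleton']
    exact ⟨fun ⟨c, hc⟩ => ⟨c, by rw [mul_comm b, hc, mul_comm]⟩, fun ⟨c, hc⟩ => ⟨c, by rw [mul_comm c, ← hc, mul_comm]⟩⟩
  have hstab : ∀ (g : A →ₐ[k] k) (d c : R), a * d = b * c → a * actAlg g d = b * actAlg g c := by
    intro g d c h
    have hgb : actAlg g b ≠ (0 : R) := fun h0 => hb ((actAlg_bijective g).1 (h0.trans (map_zero _).symm))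
    have h' := congrArg (actAlg g) h
    rw [map_mul, map_mul] at h'
    refine mul_right_cancel₀ hgb ?_
    calc a * actAlg g d * actAlg g b = (a * actAlg g b) * actAlg g d := by ring
      _ = b * (actAlg g a * actAlg g d) := by rw [hab g]; ring
      _ = b * actAlg g c * actAlg g b := by rw [h']; ring
  obtain ⟨J, hJ, hmem⟩ := exists_stable_vanishing {z : R →ₐ[k] k | I ≤ RingHom.ker z} fun z hz g d hd => by
    obtain ⟨c, hc⟩ := (hmemI d).1 hd
    rw [RingHom.mem_ker, ← actPt_actAlg (A := A)]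
    exact hz ((hmemI _).2 ⟨_, hstab g d c hc⟩)
  obtain ⟨f, hfi, hfJ, hyne⟩ := exists_invariant_ne_zero hα h1 hJ (x := y) fun w hw hJw => by
    obtain ⟨g, rfl⟩ := exists_actPt_eq_of_isClosedOrbit hyc hw
    have hbI : b ∈ I := (hmemI b).2 ⟨a, mul_comm a b⟩
    have hnot : ¬ I ≤ RingHom.ker (GLin.actPt k g y) := fun hI => by
      have : GLin.actPt k ((WithConv.toConv g)⁻¹).ofConv (GLin.actPt k g y) b = 0 := by
        rw [← actPt_actAlg]
        obtain ⟨c, hc⟩ := (hmemI b).1 hbI
        exact hI ((hmemI _).2 ⟨_, hstab _ b c hc⟩)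
      rw [actPt_actPt, WithConv.toConv_ofConv, mul_inv_cancel,
        show GLin.actPt k (1 : WithConv (A →ₐ[k] k)).ofConv y = y from actPt_one y] at this
      exact left_ne_zero_of_mul hy this
    refine hnot fun d hd => hJw ((hmem d).2 fun z hz => hz hd)
  have hrad : f ∈ I.radical := by
    rw [Ideal.radical_eq_sInf, Ideal.mem_sInf]
    intro p hp
    by_contra hfp
    haveI := hp.2
    obtain ⟨z, hz, hz0⟩ := exists_point_notMem (k := k) p hfp
    exact hz0 ((hmem f).1 hfJ z (hp.1.trans hz))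
  obtain ⟨n, hn⟩ := hrad
  obtain ⟨c, hc⟩ := (hmemI _).1 hn
  have hd0 : f ^ n ≠ 0 := pow_ne_zero _ fun h => hyne (by rw [h, map_zero])
  refine ⟨c, ?_, f ^ n, pow_mem hfi n, hd0, hc⟩
  show Comod.coact (k := k) (A := A) c = c ⊗ₜ[k] 1
  have hfix : ∀ g : A →ₐ[k] k, actAlg g c = c := fun g => by
    have h := hstab g _ _ hc
    rw [map_pow, show actAlg g f = f by
      rw [actAlg_apply, actL_apply, show Comod.coact (k := k) (A := A) f = f ⊗ₜ[k] 1 from hfi, sliceR_tmul,
        AlgHom.toLinearMap_apply, map_one, one_smul], hc] at h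
    exact mul_left_cancel₀ hb h.symm
  rw [← sub_eq_zero]
  refine eq_zero_of_forall_sliceR fun φ => (Module.forall_dual_apply_eq_zero_iff k _).1 fun l => ?_
  have hsw : ∀ t : R ⊗[k] A, l (sliceR φ t) = φ (sliceL l t) := fun t => by
    induction t using TensorProduct.induction_on with
    | zero => simp
    | tmul p q => simp [mul_comm]
    | add p q hp hq => simp only [map_add, hp, hq]
  rw [hsw]
  suffices sliceL l (Comod.coact (k := k) (A := A) c - c ⊗ₜ[k] (1 : A)) = 0 by rw [this, map_zero]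
  refine eq_zero_of_forall_points (k := k) fun g => ?_
  have hsw' : ∀ t : R ⊗[k] A, l (sliceR g.toLinearMap t) = g (sliceL l t) := fun t => by
    induction t using TensorProduct.induction_on with
    | zero => simp
    | tmul p q => simp [mul_comm]
    | add p q hp hq => simp only [map_add, hp, hq]
  rw [← hsw', map_sub, sliceR_tmul, AlgHom.toLinearMap_apply, map_one, one_smul, ← actL_apply, ← actAlg_apply,
    hfix, sub_self, map_zero]

end Reductive

end

end Groth.Agent.H20Comod.Stability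

namespace Groth.Agent.H20Comod.Stability

open OrbitPrimes

variable {k : Type u} [Field k] [IsAlgClosed k] {A : Type u} [CommRing A] [HopfAlgebra k A]
  [Algebra.FiniteType k A]
  {R : Type u} [CommRing R] [Algebra k R] [Comod k A R] [GLin.IsCoactAlg k A R]

theorem hasFiniteStab_iff (x : R →ₐ[k] k) : GLin.HasFiniteStab k A x ↔ FinStab A x := by
  let C := A ⧸ GLin.stabIdeal k A x
  have hkill : ∀ g : A →ₐ[k] k, GLin.stabIdeal k A x ≤ RingHom.ker g ↔ GLin.actPt k g x = x := fun g => by
    rw [GLin.stabIdeal, Ideal.map_le_iff_le_comap]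
    refine ⟨fun h => point_eq_of_ker_le (k := k) h, fun h r hr => ?_⟩
    show GLin.actPt k g x r = 0
    rw [h]
    exact hr
  haveI : Algebra.FiniteType k C := Algebra.FiniteType.of_surjective (Ideal.Quotient.mkₐ k _) Ideal.Quotient.mk_surjective
  constructor
  · intro h
    haveI : Module.Finite k C := h
    haveI : IsArtinianRing C := .of_finite k C
    have hinj : Function.Injective fun φ : C →ₐ[k] k => (⟨RingHom.ker φ, RingHom.ker_isPrime φ⟩ : PrimeSpectrum C) :=
      fun φ φ' e => (point_eq_of_ker_le (k := k) (congrArg PrimeSpectrum.asIdeal e).le).symm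
    haveI : Finite (C →ₐ[k] k) := Finite.of_injective _ hinj
    refine (Set.finite_range fun φ : C →ₐ[k] k => φ.comp (Ideal.Quotient.mkₐ k _)).subset fun g hg => ?_
    exact ⟨Ideal.Quotient.liftₐ _ g ((hkill g).2 hg), AlgHom.ext fun _ => rfl⟩
  · intro h
    have hinj : Function.Injective fun φ : C →ₐ[k] k => φ.comp (Ideal.Quotient.mkₐ k _) := fun φ φ' e =>
      AlgHom.ext fun c => by
        obtain ⟨a, rfl⟩ := Ideal.Quotient.mk_surjective c
        exact AlgHom.congr_fun e a
    have hmem : ∀ φ : C →ₐ[k] k, φ.comp (Ideal.Quotient.mkₐ k _) ∈ {g : A →ₐ[k] k | GLin.actPt k g x = x} :=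
      fun φ => (hkill _).1 fun a ha => by
        rw [RingHom.mem_ker, AlgHom.comp_apply, show Ideal.Quotient.mkₐ k (GLin.stabIdeal k A x) a = 0 from Ideal.Quotient.eq_zero_iff_mem.2 ha, map_zero]
    have hfin : (Set.univ : Set (C →ₐ[k] k)).Finite :=
      Set.Finite.of_finite_image (h.subset (Set.image_subset_iff.2 fun φ _ => hmem φ)) hinj.injOn
    have hmax : ∀ p : Ideal C, p.IsPrime → ∃ φ : C →ₐ[k] k, p = RingHom.ker φ := fun p hp => by
      obtain ⟨w, hw⟩ := exists_point_le_ker (k := k) hp.ne_top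
      obtain ⟨f, hf, hf'⟩ := exists_separating hfin w
      have hfp : f ∉ p := fun hm => hf (hw hm)
      refine ⟨w, le_antisymm hw fun b hb => ?_⟩
      by_contra hbp
      obtain ⟨v, hv, hvf⟩ := exists_point_notMem (k := k) p (f := f * b) fun hm => (hp.mem_or_mem hm).elim hfp hbp
      rw [map_mul] at hvf
      have hvw : v = w := by
        by_contra hne
        exact left_ne_zero_of_mul hvf (hf' v trivial hne)
      exact right_ne_zero_of_mul hvf (by rw [hvw]; exact hb)
    haveI : IsNoetherianRing C := Algebra.FiniteType.isNoetherianRing k C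
    haveI : Ring.KrullDimLE 0 C := Ring.krullDimLE_zero_iff.2 fun p hp => by
      obtain ⟨φ, rfl⟩ := hmax p hp
      exact RingHom.ker_isMaximal_of_surjective φ fun c => ⟨algebraMap k C c, φ.commutes c⟩
    show Module.Finite k C
    rw [Module.finite_iff_isArtinianRing, isArtinianRing_iff_isNoetherianRing_krullDimLE_zero]
    exact ⟨inferInstance, inferInstance⟩

theorem closed_iff_isClosedOrbit [Algebra.FiniteType k R] (x : R →ₐ[k] k) :
    (∀ z : R →ₐ[k] k, (∀ f : R, (∀ g : A →ₐ[k] k, x (Comod.act k A R g f) = 0) → z f = 0) →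
      ∃ g : A →ₐ[k] k, ∀ f : R, z f = x (Comod.act k A R g f)) ↔ GLin.IsClosedOrbit k A x := by
  have h1 : ∀ (g : A →ₐ[k] k) (f : R), x (Comod.act k A R g f) = GLin.actPt k g x f := fun g f => apply_act x g f
  refine ⟨fun H => isClosedOrbit_of_forall x fun z hz => ?_, fun H z hz => ?_⟩
  · obtain ⟨g, hg⟩ := H z ((inOrbitClosure_iff_forall_act x z).1 hz)
    exact ⟨g, AlgHom.ext fun f => (hg f).trans (h1 g f)⟩
  · obtain ⟨g, rfl⟩ := exists_actPt_eq_of_isClosedOrbit H ((inOrbitClosure_iff_forall_act x z).2 hz)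
    exact ⟨g, fun f => (h1 g f).symm⟩

omit [IsAlgClosed k] [Algebra.FiniteType k A] in
theorem finite_iff_finStab (x : R →ₐ[k] k) :
    {g : A →ₐ[k] k | ∀ f : R, x (Comod.act k A R g f) = x f}.Finite ↔ FinStab A x := by
  have : {g : A →ₐ[k] k | ∀ f : R, x (Comod.act k A R g f) = x f} = {g | GLin.actPt k g x = x} :=
    Set.ext fun g => ⟨fun h => AlgHom.ext fun f => (apply_act x g f).symm.trans (h f),
      fun h f => (apply_act x g f).trans (AlgHom.congr_fun h f)⟩
  rw [this]
  rfl

end Groth.Agent.H20Comod.Stability
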