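import Groth.Agent.H20Comod.Flag
import Groth.Agent.H20Comod.Diag
import Mathlib.RingTheory.Bialgebra.GroupLike
import Mathlib.RingTheory.HopfAlgebra.GroupLike
import Mathlib.RingTheory.HopfAlgebra.TensorProduct
import Mathlib.RingTheory.Bialgebra.Convolution
import Mathlib.FieldTheory.IsAlgClosed.AlgebraicClosure
import Mathlib.FieldTheory.PurelyInseparable.Basic
import Mathlib.Algebra.CharP.Lemmas
import Mathlib.Algebra.CharP.Algebra

/-!
Cocommutative Hopf algebras without primitives are spanned by group-like elements; descent of group-likes along a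
purely inseparable extension.
-/

set_option autoImplicit false

universe u v w

open TensorProduct HopfRep WithConv
open scoped Groth.Agent.H20Comod

namespace Groth.Agent.H20Comod

noncomputable section

section Closed

variable {k : Type u} [Field k] [IsAlgClosed k] {A : Type v} [CommRing A] [HopfAlgebra k A]

theorem isTrigonalizable_of_isCocomm [Coalgebra.IsCocomm k A] : IsTrigonalizable k A := by
  intro V _ _ _ _ hs
  haveI := (isSimpleComod_iff (k := k) (A := A) (V := V)).1 hs
  exact exists_eq_smul_of_isSimpleModule (k := k) (A := A)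

/-- Cocommutative, algebraically closed, no primitives: spanned by group-likes. -/
theorem isDiagonalizable_of_forall_primitive [Coalgebra.IsCocomm k A]
    (hP : ∀ f : A, CoalgebraStruct.comul (R := k) f = f ⊗ₜ[k] (1 : A) + (1 : A) ⊗ₜ[k] f → f = 0) :
    IsDiagonalizable k A := by
  classical
  let S := Submodule.span k {a : A | IsGroupLikeElem k a}
  refine eq_top_iff.2 fun x _ => ?_
  obtain ⟨F, hF, n, hn⟩ := exists_lineFlag_of_finite (isTrigonalizable_of_isCocomm (k := k) (A := A)) (Set.finite_singleton x)
  suffices h : ∀ i, F i ≤ S from h n (hn rfl)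
  intro i
  induction i with
  | zero => rw [hF.zero]; exact bot_le
  | succ i ih =>
    by_contra hnot
    obtain ⟨a, ha, haS⟩ := SetLike.not_le_iff_exists.1 hnot
    obtain ⟨y, hy⟩ := hF.step i
    have hle : F (i + 1) ≤ S ⊔ Submodule.span k {a} := by
      intro z hz
      obtain ⟨p, hp, q, hq, hpq⟩ := Submodule.mem_sup.1 (hy ha)
      obtain ⟨p', hp', q', hq', hpq'⟩ := Submodule.mem_sup.1 (hy hz)
      obtain ⟨c, rfl⟩ := Submodule.mem_span_singleton.1 hq
      obtain ⟨c', rfl⟩ := Submodule.mem_span_singleton.1 hq'
      have hc : c ≠ 0 := fun h => haS (ih (by rw [← hpq, h, zero_smul, add_zero]; exact hp))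
      refine Submodule.mem_sup.2 ⟨p' - (c' / c) • p, sub_mem (ih hp') (S.smul_mem _ (ih hp)), (c' / c) • a,
        Submodule.smul_mem _ _ (Submodule.mem_span_singleton_self a), ?_⟩
      rw [← hpq', ← hpq, smul_add, smul_smul, div_mul_cancel₀ _ hc]
      abel
    obtain ⟨g, hg0, hgS⟩ := Submodule.exists_le_ker_of_notMem haS
    have hga : g a ≠ 0 := hg0
    let χ := (g a)⁻¹ • sliceL g (CoalgebraStruct.comul (R := k) a)
    let d : A ⊗[k] A := CoalgebraStruct.comul (R := k) a - a ⊗ₜ[k] χ
    have hdS : d ∈ LinearMap.range (S.subtype.rTensor A) := by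
      rw [mem_range_rTensor_subtype_iff]
      intro φ
      have hm : sliceR φ (CoalgebraStruct.comul (R := k) a) ∈ S ⊔ Submodule.span k {a} :=
        hle (actL_mem_of_isSubcomod (hF.isSub (i + 1)) φ ha)
      obtain ⟨p, hp, q, hq, hpq⟩ := Submodule.mem_sup.1 hm
      obtain ⟨c, rfl⟩ := Submodule.mem_span_singleton.1 hq
      have hc : c = φ χ := by
        have h1 : g (sliceR φ (CoalgebraStruct.comul (R := k) a)) = c * g a := by
          rw [← hpq, map_add, LinearMap.mem_ker.1 (hgS hp), zero_add, map_smul, smul_eq_mul]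
        rw [apply_sliceR_eq_apply_sliceL'] at h1
        show c = φ ((g a)⁻¹ • _)
        rw [map_smul, h1, smul_eq_mul, mul_comm c, inv_mul_cancel_left₀ hga]
      rw [show d = CoalgebraStruct.comul (R := k) a - a ⊗ₜ[k] χ from rfl, map_sub, sliceR_tmul, ← hc, ← hpq,
        add_sub_cancel_right]
      exact hp
    let Bs : Module.Basis {c : A | IsGroupLikeElem k c} k S :=
      (Module.Basis.span (linearIndepOn_isGroupLikeElem (R := k) (A := A)).linearIndependent).map
        (LinearEquiv.ofEq _ _ (congrArg (Submodule.span k) Subtype.range_coe_subtype))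
    have hBs : ∀ j, ((Bs j : S) : A) = (j : A) := fun j => by
      simp only [Bs, Module.Basis.map_apply, LinearEquiv.coe_ofEq_apply, Module.Basis.span_apply]; rfl
    obtain ⟨z, hz⟩ := hdS
    obtain ⟨b, rfl⟩ : ∃ b : {c : A | IsGroupLikeElem k c} →₀ A, z = (TensorProduct.equivFinsuppOfBasisLeft Bs).symm b :=
      ⟨TensorProduct.equivFinsuppOfBasisLeft Bs z, (LinearEquiv.symm_apply_apply _ _).symm⟩
    have hΔ : CoalgebraStruct.comul (R := k) a = a ⊗ₜ[k] χ + ∑ j ∈ b.support, (j : A) ⊗ₜ[k] b j := by
      have : d = ∑ j ∈ b.support, (j : A) ⊗ₜ[k] b j := by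
        rw [← hz, TensorProduct.equivFinsuppOfBasisLeft_symm_apply, Finsupp.sum, map_sum]
        exact Finset.sum_congr rfl fun j _ => by rw [LinearMap.rTensor_tmul, Submodule.coe_subtype, hBs]
      rw [← this]; simp [d]
    have hcoassoc := Coalgebra.coassoc_apply (R := k) a
    have hχg : IsGroupLikeElem k χ := by
      refine ⟨?_, ?_⟩
      · have h1 := congrArg g (Coalgebra.lTensor_counit_comul (R := k) a |> congrArg (TensorProduct.rid k A))
        have h2 : (TensorProduct.rid k A) (LinearMap.lTensor A (CoalgebraStruct.counit (R := k))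
            (CoalgebraStruct.comul (R := k) a)) = sliceR (CoalgebraStruct.counit (R := k)) (CoalgebraStruct.comul (R := k) a) := rfl
        rw [h2, TensorProduct.rid_tmul, one_smul, apply_sliceR_eq_apply_sliceL'] at h1
        show CoalgebraStruct.counit (R := k) ((g a)⁻¹ • _) = 1
        rw [map_smul, h1, smul_eq_mul, inv_mul_cancel₀ hga]
      · have hA : ∀ x : A ⊗[k] A, CoalgebraStruct.comul (R := k) (sliceL g x) =
            sliceL g ((CoalgebraStruct.comul (R := k) (A := A)).lTensor A x) := by
          intro x
          induction x using TensorProduct.induction_on with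
          | zero => simp
          | tmul p q => simp
          | add u v hu hv => simp only [map_add, hu, hv]
        show CoalgebraStruct.comul (R := k) ((g a)⁻¹ • _) = _
        rw [map_smul, hA, ← hcoassoc, hΔ]
        simp only [map_add, map_sum, LinearMap.rTensor_tmul, TensorProduct.assoc_tmul]
        rw [hΔ]
        have hgj : ∀ j : {c : A | IsGroupLikeElem k c}, g (j : A) = 0 := fun j =>
          LinearMap.mem_ker.1 (hgS (Submodule.subset_span j.2))
        have h0 : ∀ (j : {c : A | IsGroupLikeElem k c}), sliceL g (TensorProduct.assoc k A A A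
            (CoalgebraStruct.comul (R := k) (j : A) ⊗ₜ[k] b j)) = 0 := fun j => by
          rw [j.2.comul_eq_tmul_self, TensorProduct.assoc_tmul, sliceL_tmul, hgj, zero_smul]
        simp only [h0, Finset.sum_const_zero, add_zero, TensorProduct.add_tmul, TensorProduct.sum_tmul, map_add,
          map_sum, TensorProduct.assoc_tmul, sliceL_tmul, hgj, zero_smul, smul_smul, inv_mul_cancel₀ hga, one_smul]
    have hb : ∀ j, CoalgebraStruct.comul (R := k) (b j) = b j ⊗ₜ[k] χ + (j : A) ⊗ₜ[k] b j := by
      intro j
      obtain ⟨φ, hφj, hφ0⟩ := exists_dual_groupLike (k := k) j.2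
      have hsum : ∀ f : {c : A | IsGroupLikeElem k c} → A ⊗[k] A,
          (∀ i, i ∉ b.support → f i = 0) → ∑ i ∈ b.support, φ (i : A) • f i = f j := by
        intro f hf
        rw [Finset.sum_eq_single j]
        · rw [hφj, one_smul]
        · intro i _ hij
          rw [hφ0 i i.2 fun h => hij (Subtype.ext h), zero_smul]
        · intro h; rw [hf j h, smul_zero]
      have key := congrArg (sliceL φ) hcoassoc
      rw [hΔ] at key
      simp only [map_add, map_sum, LinearMap.rTensor_tmul, LinearMap.lTensor_tmul, sliceL_tmul] at key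
      rw [hΔ] at key
      have hj' : ∀ i : {c : A | IsGroupLikeElem k c}, TensorProduct.assoc k A A A (CoalgebraStruct.comul (R := k) (i : A) ⊗ₜ[k] b i) =
          (i : A) ⊗ₜ[k] ((i : A) ⊗ₜ[k] b i) := fun i => by rw [i.2.comul_eq_tmul_self, TensorProduct.assoc_tmul]
      simp only [hj', TensorProduct.add_tmul, TensorProduct.sum_tmul, map_add, map_sum, TensorProduct.assoc_tmul,
        sliceL_tmul] at key
      rw [hsum (fun i => (i : A) ⊗ₜ[k] b i) (fun i hi => by simp [Finsupp.notMem_support_iff.1 hi]),
        hsum (fun i => b i ⊗ₜ[k] χ) (fun i hi => by simp [Finsupp.notMem_support_iff.1 hi]),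
        hsum (fun i => CoalgebraStruct.comul (R := k) (b i)) (fun i hi => by simp [Finsupp.notMem_support_iff.1 hi]),
        hχg.comul_eq_tmul_self, add_assoc] at key
      exact (add_left_cancel key).symm
    have hbS : ∀ j, b j ∈ S := by
      intro j
      by_cases hjχ : (j : A) = χ
      · have h1 := hb j
        rw [hjχ] at h1
        have hinv : χ * HopfAlgebra.antipode k χ = 1 := hχg.mul_antipode_cancel
        have hp : HopfAlgebra.antipode k χ * b j = 0 := by
          refine hP _ ?_
          rw [Bialgebra.comul_mul, h1, hχg.antipode.comul_eq_tmul_self, mul_add,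
            Algebra.TensorProduct.tmul_mul_tmul, Algebra.TensorProduct.tmul_mul_tmul,
            mul_comm (HopfAlgebra.antipode k χ) χ, hinv]
        have : b j = 0 := by
          calc b j = χ * HopfAlgebra.antipode k χ * b j := by rw [hinv, one_mul]
            _ = 0 := by rw [mul_assoc, hp, mul_zero]
        rw [this]; exact zero_mem _
      · have h1 := hb j
        have h2 : TensorProduct.comm k A A (CoalgebraStruct.comul (R := k) (b j)) = CoalgebraStruct.comul (R := k) (b j) :=
          Coalgebra.comm_comul k (b j)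
        rw [h1, map_add, TensorProduct.comm_tmul, TensorProduct.comm_tmul] at h2
        obtain ⟨φ, hφχ, hφ0⟩ := exists_dual_groupLike (k := k) hχg
        have h3 := congrArg (sliceR φ) h2
        simp only [map_add, sliceR_tmul, hφχ, hφ0 _ j.2 hjχ, one_smul, zero_smul, add_zero] at h3
        have h4 : b j = φ (b j) • χ - φ (b j) • (j : A) := by
          rw [eq_sub_iff_add_eq]; exact h3.symm
        rw [h4]
        exact sub_mem (S.smul_mem _ (Submodule.subset_span hχg)) (S.smul_mem _ (Submodule.subset_span j.2))
    refine haS ?_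
    have h5 := Coalgebra.rTensor_counit_comul (R := k) a
    rw [hΔ, map_add, map_sum] at h5
    have h6 := congrArg (TensorProduct.lid k A) h5
    simp only [LinearMap.rTensor_tmul, map_add, map_sum, TensorProduct.lid_tmul, one_smul] at h6
    rw [← h6]
    exact add_mem (S.smul_mem _ (Submodule.subset_span hχg)) (Submodule.sum_mem _ fun j _ => S.smul_mem _ (hbS j))
where
  apply_sliceR_eq_apply_sliceL' {g : A →ₗ[k] k} {f : A →ₗ[k] k} {x : A ⊗[k] A} :
      g (sliceR f x) = f (sliceL g x) := by
    induction x using TensorProduct.induction_on with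
    | zero => simp
    | tmul p q => simp [mul_comm]
    | add u v hu hv => simp [hu, hv]

end Closed

section Descent

variable {k : Type u} [Field k] {K : Type w} [Field K] [Algebra k K] {A : Type v} [CommRing A] [Bialgebra k A]

theorem comul_tmul_eq_distrib (s : K) (a : A) :
    CoalgebraStruct.comul (R := K) (s ⊗ₜ[k] a) =
      AlgebraTensorModule.distribBaseChange k K A A (s ⊗ₜ[k] CoalgebraStruct.comul (R := k) a) := by
  have h1 : s ⊗ₜ[k] a = s • ((1 : K) ⊗ₜ[k] a) := by rw [TensorProduct.smul_tmul', smul_eq_mul, mul_one]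
  have h2 : s ⊗ₜ[k] CoalgebraStruct.comul (R := k) a = s • ((1 : K) ⊗ₜ[k] CoalgebraStruct.comul (R := k) a) := by
    rw [TensorProduct.smul_tmul', smul_eq_mul, mul_one]
  rw [h1, h2, map_smul, map_smul, comul_one_tmul]
  congr 1
  generalize CoalgebraStruct.comul (R := k) a = z
  induction z using TensorProduct.induction_on with
  | zero => simp
  | tmul p q => simp
  | add u v hu hv => simp only [TensorProduct.tmul_add, map_add, hu, hv]

theorem forall_primitive_baseChange
    (hP : ∀ f : A, CoalgebraStruct.comul (R := k) f = f ⊗ₜ[k] (1 : A) + (1 : A) ⊗ₜ[k] f → f = 0) :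
    ∀ c : K ⊗[k] A, CoalgebraStruct.comul (R := K) c = c ⊗ₜ[K] (1 : K ⊗[k] A) + (1 : K ⊗[k] A) ⊗ₜ[K] c → c = 0 := by
  intro c hc
  let δ : A →ₗ[k] A ⊗[k] A := CoalgebraStruct.comul (R := k) - (TensorProduct.mk k A A).flip 1 - TensorProduct.mk k A A 1
  have hinj : Function.Injective δ := by
    rw [← LinearMap.ker_eq_bot, Submodule.eq_bot_iff]
    intro f hf
    refine hP f ?_
    have := LinearMap.mem_ker.1 hf
    simp only [δ, LinearMap.sub_apply, LinearMap.flip_apply, TensorProduct.mk_apply, sub_sub, sub_eq_zero] at this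
    exact this
  have hD : ∀ c : K ⊗[k] A, AlgebraTensorModule.distribBaseChange k K A A (δ.lTensor K c) =
      CoalgebraStruct.comul (R := K) c - c ⊗ₜ[K] (1 : K ⊗[k] A) - (1 : K ⊗[k] A) ⊗ₜ[K] c := by
    intro c
    induction c using TensorProduct.induction_on with
    | zero => simp
    | tmul s a =>
      rw [LinearMap.lTensor_tmul]
      simp only [δ, LinearMap.sub_apply, LinearMap.flip_apply, TensorProduct.mk_apply, TensorProduct.tmul_sub, map_sub,
        AlgebraTensorModule.distribBaseChange_tmul, ← comul_tmul_eq_distrib, ← Algebra.TensorProduct.one_def]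
      rw [show (s ⊗ₜ[k] (1 : A)) = s • (1 : K ⊗[k] A) by
        rw [Algebra.TensorProduct.one_def, TensorProduct.smul_tmul', smul_eq_mul, mul_one],
        TensorProduct.smul_tmul, TensorProduct.smul_tmul', smul_eq_mul, mul_one]
    | add u v hu hv =>
      simp only [map_add, hu, hv, TensorProduct.add_tmul, TensorProduct.tmul_add]
      abel
  have h0 : AlgebraTensorModule.distribBaseChange k K A A (δ.lTensor K c) = 0 := by
    rw [hD, hc]; abel
  exact Module.Flat.lTensor_preserves_injective_linearMap δ hinj
    (((LinearEquiv.map_eq_zero_iff _).1 h0).trans (map_zero _).symm)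

theorem span_groupLike_of_purelyInseparable [IsPurelyInseparable k K] [Coalgebra.IsCocomm k A]
    (hD : IsDiagonalizable K (K ⊗[k] A)) : IsDiagonalizable k A := by
  classical
  let C := K ⊗[k] A
  let Bc : Module.Basis {c : C | IsGroupLikeElem K c} K C :=
    Module.Basis.mk (linearIndepOn_isGroupLikeElem (R := K) (A := C)).linearIndependent (by
      simp only [id_eq, Subtype.range_coe_subtype]; exact hD.ge)
  have hB : ∀ i, Bc i = (i : C) := fun i => Module.Basis.mk_apply _ _ i
  have hrat : ∀ (i : {c : C | IsGroupLikeElem K c}) (a : A), ∃ r : k, algebraMap k K r = Bc.coord i ((1 : K) ⊗ₜ[k] a) := by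
    intro i a
    let G : A →ₗ[k] K := (Bc.coord i).restrictScalars k ∘ₗ (TensorProduct.mk k K A 1)
    let x : WithConv (A →ₗ[k] K) := toConv G
    obtain ⟨q, hq⟩ := ExpChar.exists k
    haveI := hq
    have hid : x * x = x := by
      refine WithConv.ofConv_injective (LinearMap.ext fun b => ?_)
      show LinearMap.mul' k K (TensorProduct.map G G (CoalgebraStruct.comul (R := k) b)) = Bc.coord i ((1 : K) ⊗ₜ[k] b)
      have hF : LinearMap.mul' K K ∘ₗ TensorProduct.map (Bc.coord i) (Bc.coord i) ∘ₗ CoalgebraStruct.comul (R := K) =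
          Bc.coord i := by
        refine Bc.ext fun j => ?_
        simp only [LinearMap.comp_apply]
        have hj : IsGroupLikeElem K (Bc j) := (hB j).symm ▸ j.2
        rw [hj.comul_eq_tmul_self, TensorProduct.map_tmul, LinearMap.mul'_apply, Module.Basis.coord_apply,
          Bc.repr_self, Finsupp.single_apply]
        split_ifs <;> simp
      conv_rhs => rw [← hF]
      rw [LinearMap.comp_apply, LinearMap.comp_apply, comul_one_tmul]
      generalize CoalgebraStruct.comul (R := k) b = z
      induction z using TensorProduct.induction_on with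
      | zero => simp
      | tmul p r => rfl
      | add u v hu hv => simp only [map_add, hu, hv]
    obtain ⟨W, hWf, haW, hW⟩ := exists_finite_subcoalg (k := k) (A := A) (Set.finite_singleton a)
    haveI := hWf
    let bW := Module.finBasis k W
    obtain ⟨pW, hpW⟩ := W.subtype.exists_leftInverse_of_injective W.ker_subtype
    choose nj yj hj using fun j => IsPurelyInseparable.pow_mem k q (G (bW j : A))
    let n := Finset.univ.sup nj
    let φ : Fin (Module.finrank k W) → WithConv (A →ₗ[k] k) := fun j => toConv (bW.coord j ∘ₗ pW)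
    let ι : (A →ₗ[k] k) → WithConv (A →ₗ[k] K) := fun f => toConv (Algebra.linearMap k K ∘ₗ f)
    let t : WithConv (A →ₗ[k] K) := ∑ j, G (bW j : A) • ι (φ j).ofConv
    have ht : ∀ w ∈ W, t.ofConv w = x.ofConv w := by
      intro w hw
      simp only [t, ofConv_sum, LinearMap.sum_apply, ofConv_smul, LinearMap.smul_apply, ι, φ, ofConv_toConv,
        LinearMap.comp_apply, Algebra.linearMap_apply, smul_eq_mul]
      have hPw : pW w = ⟨w, hw⟩ := LinearMap.congr_fun hpW ⟨w, hw⟩
      have hexp : G w = ∑ j, bW.repr ⟨w, hw⟩ j • G (bW j : A) := by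
        have h1 := congrArg (fun v : W => G (v : A)) (bW.sum_repr ⟨w, hw⟩).symm
        simp only [AddSubmonoidClass.coe_finsetSum, map_sum, Submodule.coe_smul, map_smul] at h1
        exact h1
      show _ = G w
      rw [hexp]
      refine Finset.sum_congr rfl fun j _ => ?_
      rw [hPw, Module.Basis.coord_apply, Algebra.smul_def, mul_comm]
    have hagree : ∀ N, ∀ w ∈ W, (t ^ (N + 1)).ofConv w = (x ^ (N + 1)).ofConv w := by
      intro N
      induction N with
      | zero => simpa using ht
      | succ N ih =>
        intro w hw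
        obtain ⟨z, hz⟩ := hW w hw
        rw [pow_succ, pow_succ x]
        show LinearMap.mul' k K (TensorProduct.map _ _ (CoalgebraStruct.comul (R := k) w)) =
          LinearMap.mul' k K (TensorProduct.map _ _ (CoalgebraStruct.comul (R := k) w))
        rw [← hz]
        clear hz
        induction z using TensorProduct.induction_on with
        | zero => simp
        | tmul p r =>
          simp only [TensorProduct.map_tmul, Submodule.coe_subtype, LinearMap.mul'_apply]
          rw [ih p p.2, ht r r.2]
        | add u v hu hv => simp only [map_add, hu, hv]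
    have hxpow : ∀ N, x ^ (N + 1) = x := fun N => by
      induction N with
      | zero => rw [pow_one]
      | succ N ih => rw [pow_succ, ih, hid]
    have hqpos : 0 < q := expChar_pos k q
    haveI : ExpChar (WithConv (A →ₗ[k] K)) q := expChar_of_injective_algebraMap (R := k) (fun c c' hcc => by
      have h := congrArg (fun f : WithConv (A →ₗ[k] K) => f.ofConv 1) hcc
      simp only [LinearMap.convAlgebraMap_apply, Bialgebra.counit_one, map_one, ← Algebra.algebraMap_eq_smul_one] at h
      exact (algebraMap k K).injective h) q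
    have htp : t ^ (q ^ n) = ∑ j, G (bW j : A) ^ (q ^ n) • ι (φ j).ofConv ^ (q ^ n) := by
      rw [sum_pow_char_pow q n]
      exact Finset.sum_congr rfl fun j _ => _root_.smul_pow _ _ _
    have hι : ∀ (f : WithConv (A →ₗ[k] k)) (N : ℕ), ι f.ofConv ^ N = ι (f ^ N).ofConv := by
      intro f N
      induction N with
      | zero =>
        rw [pow_zero, pow_zero, LinearMap.convOne_def]
        exact WithConv.ofConv_injective (LinearMap.ext fun w => by simp [ι])
      | succ N ih =>
        rw [pow_succ, ih, pow_succ]
        refine WithConv.ofConv_injective ?_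
        have := LinearMap.algHom_comp_convMul_distrib (Algebra.ofId k K) (f ^ N) f
        exact this.symm
    obtain ⟨m, hm⟩ : ∃ m, q ^ n = m + 1 := ⟨q ^ n - 1, by have := pow_pos hqpos n; omega⟩
    have hfin : x.ofConv a = (t ^ (q ^ n)).ofConv a := by
      rw [hm, hagree m a (haW rfl), hxpow]
    have hy : ∀ j, ∃ y : k, algebraMap k K y = G (bW j : A) ^ (q ^ n) := fun j => by
      refine ⟨yj j ^ (q ^ (n - nj j)), ?_⟩
      rw [map_pow, hj, ← pow_mul, ← pow_add, Nat.add_sub_cancel' (Finset.le_sup (Finset.mem_univ j))]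
    choose y hy using hy
    refine ⟨∑ j, y j * ((φ j) ^ (q ^ n)).ofConv a, ?_⟩
    rw [show Bc.coord i ((1 : K) ⊗ₜ[k] a) = x.ofConv a from rfl, hfin, htp, map_sum, ofConv_sum, LinearMap.sum_apply]
    refine Finset.sum_congr rfl fun j _ => ?_
    rw [ofConv_smul, LinearMap.smul_apply, smul_eq_mul, map_mul, hy, hι]
    rfl
  choose r hr using hrat
  obtain ⟨π, hπ⟩ := (LinearMap.toSpanSingleton k K 1).exists_leftInverse_of_injective
    (LinearMap.ker_eq_bot.2 fun c c' h => by
      simp only [LinearMap.toSpanSingleton_apply, ← Algebra.algebraMap_eq_smul_one] at h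
      exact (algebraMap k K).injective h)
  have hπ' : ∀ c : k, π (algebraMap k K c) = c := fun c => by
    rw [Algebra.algebraMap_eq_smul_one]; exact LinearMap.congr_fun hπ c
  have hinj : Function.Injective (fun a : A => (1 : K) ⊗ₜ[k] a) :=
    Algebra.TensorProduct.includeRight_injective (B := A) (algebraMap k K).injective
  have hchi : ∀ i : {c : C | IsGroupLikeElem K c}, ∃ a : A, (1 : K) ⊗ₜ[k] a = (i : C) := by
    intro i
    obtain ⟨S, hS⟩ := TensorProduct.exists_finset (i : C)
    refine ⟨∑ p ∈ S, π p.1 • p.2, ?_⟩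
    refine Bc.repr.injective (Finsupp.ext fun j => ?_)
    rw [← hB i, Bc.repr_self]
    show Bc.coord j _ = _
    rw [TensorProduct.tmul_sum, map_sum]
    have h1 : (Finsupp.single i (1 : K)) j = Bc.coord j (i : C) := by rw [← hB i, Module.Basis.coord_apply, Bc.repr_self]
    have h2 : (Finsupp.single i (1 : K)) j = algebraMap k K (if i = j then 1 else 0) := by
      rw [Finsupp.single_apply]; split_ifs <;> simp
    have h3 : Bc.coord j (i : C) = ∑ p ∈ S, p.1 * algebraMap k K (r j p.2) := by
      rw [hS, map_sum]
      refine Finset.sum_congr rfl fun p _ => ?_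
      rw [hr, show p.1 ⊗ₜ[k] p.2 = p.1 • ((1 : K) ⊗ₜ[k] p.2) by rw [TensorProduct.smul_tmul', smul_eq_mul, mul_one],
        map_smul, smul_eq_mul]
    have h4 := congrArg π (h2.symm.trans (h1.trans h3))
    rw [hπ', map_sum] at h4
    rw [h2, h4, map_sum]
    refine Finset.sum_congr rfl fun p _ => ?_
    rw [show p.1 * algebraMap k K (r j p.2) = r j p.2 • p.1 by rw [Algebra.smul_def, mul_comm], map_smul,
      smul_eq_mul, map_mul, hr, TensorProduct.tmul_smul,
      show π p.1 • ((1 : K) ⊗ₜ[k] p.2) = algebraMap k K (π p.1) • ((1 : K) ⊗ₜ[k] p.2) from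
        (algebraMap_smul K (π p.1) _).symm, map_smul, smul_eq_mul, mul_comm]
  choose α hα using hchi
  refine eq_top_iff.2 fun a _ => ?_
  have hgl : ∀ i, IsGroupLikeElem k (α i) := by
    intro i
    refine ⟨?_, ?_⟩
    · apply (algebraMap k K).injective
      rw [map_one, ← i.2.counit_eq_one, ← hα i, TensorProduct.counit_tmul, CommSemiring.counit_apply,
        ← Algebra.algebraMap_eq_smul_one]
    · have h := i.2.comul_eq_tmul_self
      rw [← hα i, comul_tmul_eq_distrib] at h
      have h2 : ((1 : K) ⊗ₜ[k] α i) ⊗ₜ[K] ((1 : K) ⊗ₜ[k] α i) =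
          AlgebraTensorModule.distribBaseChange k K A A ((1 : K) ⊗ₜ[k] (α i ⊗ₜ[k] α i)) :=
        (AlgebraTensorModule.distribBaseChange_tmul ..).symm
      rw [h2] at h
      exact Algebra.TensorProduct.includeRight_injective (B := A ⊗[k] A) (algebraMap k K).injective
        ((AlgebraTensorModule.distribBaseChange k K A A).injective h)
  have ha : a = ∑ i ∈ (Bc.repr ((1 : K) ⊗ₜ[k] a)).support, r i a • α i := by
    apply hinj
    show (1 : K) ⊗ₜ[k] a = (1 : K) ⊗ₜ[k] _
    rw [TensorProduct.tmul_sum]
    conv_lhs => rw [← Bc.linearCombination_repr ((1 : K) ⊗ₜ[k] a), Finsupp.linearCombination_apply, Finsupp.sum]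
    refine Finset.sum_congr rfl fun i _ => ?_
    rw [TensorProduct.tmul_smul, ← algebraMap_smul K (r i a), hr, hα, hB]
    rfl
  rw [ha]
  exact Submodule.sum_mem _ fun i _ => Submodule.smul_mem _ _ (Submodule.subset_span (hgl i))

end Descent

end

end Groth.Agent.H20Comod
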