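import Groth.Agent.H20Comod.Flag
import Groth.Agent.H20Comod.Diag
import Groth.Prelude.Def_CoactBr2

/-!
Unipotent groups: filtrations with trivial steps, base change.
-/

set_option autoImplicit false

universe u v w w'

open TensorProduct HopfRep
open scoped Groth.Agent.H20Comod

namespace Groth.Agent.H20Comod

noncomputable section

variable {k : Type u} [Field k] {A : Type v} [CommRing A] [Bialgebra k A]

variable (k A) in
/-- A chain of subcomodules starting at zero with trivial steps. -/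
structure IsUniFlag {V : Type w} [AddCommGroup V] [Module k V] [Comod k A V] (F : ℕ → Submodule k V) : Prop where
  isSub : ∀ i, IsSubcomod (k := k) (A := A) (F i)
  zero : F 0 = ⊥
  step : ∀ i, ∀ v ∈ F (i + 1), Comod.coact (k := k) (A := A) v - v ⊗ₜ[k] (1 : A) ∈
    LinearMap.range ((F i).subtype.rTensor A)

theorem exists_uniFlag (hU : IsUnipotent k A) (V : Type v) [AddCommGroup V] [Module k V] [Comod k A V]
    [Module.Finite k V] : ∃ (m : ℕ) (F : ℕ → Submodule k V), Monotone F ∧ IsUniFlag k A F ∧ F m = ⊤ := by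
  classical
  let S := {p : Submodule k V // IsSubcomod (k := k) (A := A) p}
  have hstep : ∀ p : S, ∃ q : S, p.1 ≤ q.1 ∧ (p.1 ≠ ⊤ → p.1 < q.1) ∧
      ∀ v ∈ q.1, Comod.coact (k := k) (A := A) v - v ⊗ₜ[k] (1 : A) ∈ LinearMap.range (p.1.subtype.rTensor A) := by
    rintro ⟨p, hp⟩
    letI := ComodSub.Comod.quot (inferInstance : Comod k A V) p hp
    have hpi := ComodSub.isComodHom_mkQ (inferInstance : Comod k A V) p hp
    have hle : p ≤ (fixedPts k A (V ⧸ p)).comap p.mkQ := fun z hz => by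
      show p.mkQ z ∈ fixedPts k A (V ⧸ p)
      rw [show p.mkQ z = 0 from (Submodule.Quotient.mk_eq_zero p).2 hz]
      exact zero_mem _
    have hfix : IsSubcomod (k := k) (A := A) (fixedPts k A (V ⧸ p)) :=
      fun y hy => ⟨(⟨y, hy⟩ : fixedPts k A (V ⧸ p)) ⊗ₜ[k] (1 : A), (hy : Comod.coact (k := k) (A := A) y = _).symm⟩
    refine ⟨⟨_, isSubcomod_comap hpi hfix⟩, hle, fun htop => ?_, fun v hv => ?_⟩
    · refine lt_of_le_of_ne hle fun e => ?_
      haveI : Nontrivial (V ⧸ p) := Submodule.Quotient.nontrivial_iff.2 htop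
      obtain ⟨x, hx, hx0⟩ := Submodule.exists_mem_ne_zero_of_ne_bot (hU (V ⧸ p) inferInstance inferInstance)
      obtain ⟨y, rfl⟩ := p.mkQ_surjective x
      have hy : y ∈ p := by
        have h2 := e.ge
        exact h2 (show y ∈ (fixedPts k A (V ⧸ p)).comap p.mkQ from hx)
      exact hx0 ((Submodule.Quotient.mk_eq_zero p).2 hy)
    · refine (rTensor_exact A (LinearMap.exact_subtype_mkQ p) p.mkQ_surjective _).1 ?_
      rw [map_sub, LinearMap.rTensor_tmul,
        show p.mkQ.rTensor A (Comod.coact (k := k) (A := A) v) = Comod.coact (k := k) (A := A) (p.mkQ v) from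
          (LinearMap.congr_fun hpi v).symm]
      exact sub_eq_zero.2 hv
  choose next hle hlt hs using hstep
  let F : ℕ → S := fun n => next^[n] ⟨⊥, isSubcomod_bot⟩
  have hF : ∀ i, F (i + 1) = next (F i) := fun i => Function.iterate_succ_apply' next i _
  have hrank : ∀ i, (F i).1 = ⊤ ∨ i ≤ Module.finrank k (F i).1 := by
    intro i
    induction i with
    | zero => exact Or.inr (Nat.zero_le _)
    | succ i ih =>
      rw [hF]
      by_cases htop : (F i).1 = ⊤
      · exact Or.inl (top_le_iff.1 (htop ▸ hle (F i)))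
      · exact Or.inr (Nat.succ_le_of_lt (lt_of_le_of_lt (ih.resolve_left htop)
          (Submodule.finrank_lt_finrank_of_lt (hlt _ htop))))
  refine ⟨Module.finrank k V + 1, fun i => (F i).1, monotone_nat_of_le_succ fun i => by rw [hF]; exact hle _,
    ⟨fun i => (F i).2, rfl, fun i v hv => hs _ v (by rw [hF] at hv; exact hv)⟩, ?_⟩
  refine (hrank _).resolve_right fun h => ?_
  have := Submodule.finrank_le (F (Module.finrank k V + 1)).1
  omega

theorem fixedPts_ne_bot_of_uniFlag {V : Type w} [AddCommGroup V] [Module k V] [Comod k A V] [Nontrivial V]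
    {F : ℕ → Submodule k V} (hF : IsUniFlag k A F) {m : ℕ} (hm : F m = ⊤) : fixedPts k A V ≠ ⊥ := by
  classical
  have hex : ∃ i, F i ≠ ⊥ := ⟨m, by rw [hm]; exact top_ne_bot⟩
  obtain ⟨i, hi⟩ : ∃ i, Nat.find hex = i + 1 := Nat.exists_eq_succ_of_ne_zero fun e => by
    have := Nat.find_spec hex
    rw [e, hF.zero] at this
    exact this rfl
  have hbot : F i = ⊥ := not_not.1 (Nat.find_min hex (by omega))
  obtain ⟨x, hx, hx0⟩ := Submodule.exists_mem_ne_zero_of_ne_bot (hi ▸ Nat.find_spec hex)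
  intro h
  have hfix : x ∈ fixedPts k A V := by
    obtain ⟨z, hz⟩ := hF.step i x hx
    have : (F i).subtype = 0 := LinearMap.ext fun y => (Submodule.mem_bot k).1 (hbot.le y.2)
    rw [this, LinearMap.rTensor_zero, LinearMap.zero_apply] at hz
    exact sub_eq_zero.1 hz.symm
  exact hx0 ((Submodule.mem_bot k).1 (h ▸ hfix))

theorem exists_uniFlag_of_finite (hU : IsUnipotent k A) {s : Set A} (hs : s.Finite) :
    ∃ F : ℕ → Submodule k A, IsUniFlag k A F ∧ ∃ n, s ⊆ F n := by
  obtain ⟨W, hWf, haW, hW⟩ := exists_finite_subcomod (k := k) (A := A) (V := A) hs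
  letI := ComodSub.Comod.restr (inferInstance : Comod k A A) W hW
  obtain ⟨n, F, -, hF, htop⟩ := exists_uniFlag hU ↥W
  have hhom := ComodSub.isComodHom_subtype (inferInstance : Comod k A A) W hW
  refine ⟨fun i => (F i).map W.subtype, ⟨fun i => isSubcomod_map hhom (hF.isSub i), by rw [hF.zero, Submodule.map_bot],
    ?_⟩, n, fun a ha => ⟨⟨a, haW ha⟩, by rw [htop]; trivial, rfl⟩⟩
  rintro i _ ⟨v, hv, rfl⟩
  obtain ⟨z, hz⟩ := hF.step i v hv
  let incl : F i →ₗ[k] ↥((F i).map W.subtype) :=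
    (W.subtype ∘ₗ (F i).subtype).codRestrict _ fun y => ⟨y, y.2, rfl⟩
  refine ⟨incl.rTensor A z, ?_⟩
  rw [← LinearMap.rTensor_comp_apply, show ((F i).map W.subtype).subtype ∘ₗ incl = W.subtype ∘ₗ (F i).subtype from rfl, LinearMap.rTensor_comp_apply, hz, map_sub,
    LinearMap.rTensor_tmul, ComodSub.restr_coact_coe]
  rfl

theorem isUnipotent_of_uniFlags (h : ∀ a : A, ∃ F : ℕ → Submodule k A, IsUniFlag k A F ∧ ∃ n, a ∈ F n) :
    IsUnipotent k A := by
  classical
  intro V _ _ _ _ hnt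
  obtain ⟨v, hv⟩ := exists_ne (0 : V)
  obtain ⟨m, -, hm⟩ := exists_simple_le (k := k) (A := A) (V := V) (p := ⊤) top_ne_bot
  haveI := hm
  haveI := IsSimpleModule.nontrivial (DualAlg k A) m
  obtain ⟨⟨x, hx⟩, hx0⟩ := exists_ne (0 : m)
  have hx0' : x ≠ 0 := fun e => hx0 (Subtype.ext e)
  obtain ⟨g, hg⟩ : ∃ g : V →ₗ[k] k, g x ≠ 0 := by
    by_contra hc
    push_neg at hc
    exact hx0' ((Module.forall_dual_apply_eq_zero_iff k x).1 hc)
  let f : V →ₗ[k] A := coeff A g
  let T : Submodule (DualAlg k A) V := toSub (LinearMap.ker f) (isSubcomod_ker (isComodHom_coeff g))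
  have hinj : ∀ y ∈ m, f y = 0 → y = 0 := by
    intro y hy hfy
    rcases IsSimpleOrder.eq_bot_or_eq_top (T.comap m.subtype) with h0 | h0
    · have : (⟨y, hy⟩ : m) ∈ T.comap m.subtype := hfy
      rw [h0, Submodule.mem_bot] at this
      exact congrArg Subtype.val this
    · exfalso
      have h1 : f x = 0 := (h0 ▸ Submodule.mem_top : (⟨x, hx⟩ : m) ∈ T.comap m.subtype)
      refine hg ?_
      have h2 := congrArg (CoalgebraStruct.counit (R := k)) h1
      rwa [map_zero, apply_coeff, actL_counit] at h2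
  obtain ⟨F, hF, n, hn⟩ := h (f x)
  have hex : ∃ j, ∃ y ∈ m, y ≠ 0 ∧ f y ∈ F j := ⟨n, x, hx, hx0', hn⟩
  obtain ⟨j, hj⟩ : ∃ j, Nat.find hex = j + 1 := Nat.exists_eq_succ_of_ne_zero fun e => by
    obtain ⟨y, hy, hy0, hfy⟩ := Nat.find_spec hex
    rw [e, hF.zero, Submodule.mem_bot] at hfy
    exact hy0 (hinj y hy hfy)
  obtain ⟨y, hy, hy0, hfy⟩ := Nat.find_spec hex
  rw [hj] at hfy
  intro hbot
  have hfix : y ∈ fixedPts k A V := by
    show Comod.coact (k := k) (A := A) y = y ⊗ₜ[k] (1 : A)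
    rw [← sub_eq_zero]
    refine eq_zero_of_forall_sliceR fun φ => ?_
    rw [map_sub, ← actL_apply, sliceR_tmul]
    by_contra hne
    refine Nat.find_min hex (show j < Nat.find hex by omega) ⟨actL φ y - φ 1 • y,
      m.sub_mem (m.smul_mem (DualAlg.mk φ) hy) ((m.restrictScalars k).smul_mem (φ 1) hy), hne, ?_⟩
    have h2 := sliceR_mem_of_mem_range (hF.step j (f y) hfy) φ
    rwa [map_sub, ← actL_apply, sliceR_tmul, ← actL_comm_of_isComodHom (isComodHom_coeff g), ← map_smul, ← map_sub] at h2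
  exact hy0 ((Submodule.mem_bot k).1 (hbot ▸ hfix))

section BaseChange

variable {K : Type w} [Field K] [Algebra k K]

theorem isUnipotent_baseChange (hU : IsUnipotent k A) : IsUnipotent K (K ⊗[k] A) := by
  classical
  refine isUnipotent_of_uniFlags fun b => ?_
  obtain ⟨S, hS⟩ := TensorProduct.exists_finset b
  obtain ⟨F, hF, n, hn⟩ := exists_uniFlag_of_finite hU (S.finite_toSet.image Prod.snd)
  let G : ℕ → Submodule K (K ⊗[k] A) := fun i => Submodule.span K ((fun a : A => (1 : K) ⊗ₜ[k] a) '' (F i : Set A))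
  let L : A ⊗[k] A →ₗ[k] (K ⊗[k] A) ⊗[K] (K ⊗[k] A) :=
    TensorProduct.lift (LinearMap.mk₂ k (fun x y => ((1 : K) ⊗ₜ[k] x) ⊗ₜ[K] ((1 : K) ⊗ₜ[k] y))
      (fun x x' y => by rw [TensorProduct.tmul_add, TensorProduct.add_tmul])
      (fun c x y => by rw [TensorProduct.tmul_smul]; exact (TensorProduct.smul_tmul' c _ _).symm)
      (fun x y y' => by rw [TensorProduct.tmul_add, TensorProduct.tmul_add])
      (fun c x y => by rw [TensorProduct.tmul_smul, TensorProduct.tmul_smul]))
  have hL : ∀ i, ∀ z ∈ LinearMap.range ((F i).subtype.rTensor A),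
      L z ∈ LinearMap.range ((G i).subtype.rTensor (K ⊗[k] A)) := by
    rintro i _ ⟨z, rfl⟩
    induction z using TensorProduct.induction_on with
    | zero => simp
    | tmul p q => exact ⟨(⟨_, Submodule.subset_span ⟨p, p.2, rfl⟩⟩ : G i) ⊗ₜ[K] ((1 : K) ⊗ₜ[k] q), rfl⟩
    | add u v hu hv => rw [map_add, map_add]; exact add_mem hu hv
  have hco : ∀ a : A, Comod.coact (k := K) (A := K ⊗[k] A) ((1 : K) ⊗ₜ[k] a) = L (CoalgebraStruct.comul (R := k) a) :=
    comul_one_tmul
  refine ⟨G, ⟨fun i => ?_, ?_, fun i v hv => ?_⟩, n, ?_⟩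
  · intro x hx
    induction hx using Submodule.span_induction with
    | mem y hy => obtain ⟨a, ha, rfl⟩ := hy; rw [hco]; exact hL i _ (hF.isSub i a ha)
    | zero => rw [map_zero]; exact zero_mem _
    | add u v _ _ hu hv => rw [map_add]; exact add_mem hu hv
    | smul c u _ hu => rw [map_smul]; exact Submodule.smul_mem _ c hu
  · show Submodule.span K ((fun a : A => (1 : K) ⊗ₜ[k] a) '' ((F 0 : Submodule k A) : Set A)) = ⊥
    rw [hF.zero]; simp
  · induction hv using Submodule.span_induction with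
    | mem y hy =>
      obtain ⟨a, ha, rfl⟩ := hy
      rw [hco, Algebra.TensorProduct.one_def, show ((1 : K) ⊗ₜ[k] a) ⊗ₜ[K] ((1 : K) ⊗ₜ[k] (1 : A)) = L (a ⊗ₜ[k] (1 : A))
        from rfl, ← map_sub]
      exact hL i _ (hF.step i a ha)
    | zero => rw [map_zero, TensorProduct.zero_tmul, sub_zero]; exact zero_mem _
    | add u v _ _ hu hv => rw [map_add, TensorProduct.add_tmul, add_sub_add_comm]; exact add_mem hu hv
    | smul c u _ hu =>
      rw [map_smul]
      have h2 := Submodule.smul_mem _ c hu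
      simpa only [smul_sub, TensorProduct.smul_tmul'] using h2
  · rw [hS]
    refine Submodule.sum_mem _ fun j hj => ?_
    have h2 : j.1 • ((1 : K) ⊗ₜ[k] j.2) ∈ G n :=
      Submodule.smul_mem _ _ (Submodule.subset_span ⟨j.2, hn ⟨j, hj, rfl⟩, rfl⟩)
    rwa [TensorProduct.smul_tmul', smul_eq_mul, mul_one] at h2

end BaseChange

end

end Groth.Agent.H20Comod
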