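import Groth.Agent.H20Comod.OrbitClosure
import Groth.Agent.H20Comod.DualMod
import Groth.Agent.H05EGA4.GenericImage

/-!
Minimal primes of orbit closures: translations by rational points permute the components of the group,
the components of the group dominate components of the orbit closure, orbits sharing a component
of their closures coincide, and a criterion for closedness of orbits.
-/

set_option autoImplicit false

universe u v w

open TensorProduct HopfRep

namespace Groth.Agent.H20Comod.OrbitPrimes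

noncomputable section

section Act

variable {k : Type u} [Field k] {A : Type v} [CommRing A] [HopfAlgebra k A]
  {R : Type w} [CommRing R] [Algebra k R] [Comod k A R] [GLin.IsCoactAlg k A R]

/-- The action of a rational point on an equivariant algebra, as an algebra map. -/
def actAlg (g : A →ₐ[k] k) : R →ₐ[k] R :=
  (Algebra.TensorProduct.rid k k R).toAlgHom.comp
    ((Algebra.TensorProduct.map (AlgHom.id k R) g).comp (GLin.coactAlgHom k A R))

theorem actAlg_apply (g : A →ₐ[k] k) (f : R) : actAlg g f = actL g.toLinearMap f := by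
  show Algebra.TensorProduct.rid k k R
    (Algebra.TensorProduct.map (AlgHom.id k R) g (Comod.coact (k := k) (A := A) f)) = _
  rw [actL_apply]
  generalize Comod.coact (k := k) (A := A) f = z
  induction z using TensorProduct.induction_on with
  | zero => simp
  | tmul r a => simp
  | add z z' hz hz' => simp only [map_add, hz, hz']

theorem actAlg_conv (g h : A →ₐ[k] k) (f : R) :
    actAlg g (actAlg h f) = actAlg (WithConv.toConv g * WithConv.toConv h).ofConv f := by
  rw [actAlg_apply, actAlg_apply, actAlg_apply, ← actL_conv]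
  congr 2

theorem actAlg_inv (g : A →ₐ[k] k) (f : R) :
    actAlg ((WithConv.toConv g)⁻¹).ofConv (actAlg g f) = f := by
  rw [actAlg_conv, WithConv.toConv_ofConv, inv_mul_cancel, actAlg_apply]
  exact actL_counit f

theorem actAlg_inv' (g : A →ₐ[k] k) (f : R) :
    actAlg g (actAlg ((WithConv.toConv g)⁻¹).ofConv f) = f := by
  rw [actAlg_conv, WithConv.toConv_ofConv, mul_inv_cancel, actAlg_apply]
  exact actL_counit f

theorem actAlg_bijective (g : A →ₐ[k] k) : Function.Bijective (actAlg g : R →ₐ[k] R) :=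
  Function.bijective_iff_has_inverse.2 ⟨actAlg ((WithConv.toConv g)⁻¹).ofConv, actAlg_inv g, actAlg_inv' g⟩

theorem orbitHom_natural {S : Type w} [CommRing S] [Algebra k S] [Comod k A S] [GLin.IsCoactAlg k A S]
    (ι : S →ₐ[k] R) (hι : ∀ s : S, Comod.coact (k := k) (A := A) (ι s) =
      Algebra.TensorProduct.map ι (AlgHom.id k A) (Comod.coact (k := k) (A := A) s)) (z : R →ₐ[k] k) :
    (GLin.orbitHom k A z).comp ι = GLin.orbitHom k A (z.comp ι) := by
  refine AlgHom.ext fun s => ?_
  rw [AlgHom.comp_apply, orbitHom_eq_sliceL, orbitHom_eq_sliceL, hι,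
    show (z.comp ι).toLinearMap = z.toLinearMap ∘ₗ ι.toLinearMap from rfl, ← sliceL_rTensor]
  rfl

theorem ker_orbitHom_le (x : R →ₐ[k] k) {z : R →ₐ[k] k} (hz : RingHom.ker (GLin.orbitHom k A x) ≤ RingHom.ker z) :
    RingHom.ker (GLin.orbitHom k A x) ≤ RingHom.ker (GLin.orbitHom k A z) := by
  intro f hf
  have hsub := isSubcomod_ker_orbitHom (A := A) x
  obtain ⟨t, ht⟩ := hsub f hf
  rw [RingHom.mem_ker, orbitHom_eq_sliceL, ← ht, sliceL_rTensor,
    show z.toLinearMap ∘ₗ ((RingHom.ker (GLin.orbitHom k A x)).restrictScalars k).subtype = 0 from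
      LinearMap.ext fun y => hz y.2]
  simp [sliceL]

theorem ker_orbitHom_le_ker (x : R →ₐ[k] k) : RingHom.ker (GLin.orbitHom k A x) ≤ RingHom.ker x :=
  fun _ hf => apply_eq_zero_of_orbitHom_eq_zero x hf

theorem ker_orbitHom_actPt_le (x : R →ₐ[k] k) (g : A →ₐ[k] k) :
    RingHom.ker (GLin.orbitHom k A x) ≤ RingHom.ker (GLin.orbitHom k A (GLin.actPt k g x)) :=
  ker_orbitHom_le x fun f hf => by
    rw [RingHom.mem_ker, GLin.actPt, AlgHom.comp_apply, show GLin.orbitHom k A x f = 0 from hf, map_zero]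

theorem ker_orbitHom_actPt (x : R →ₐ[k] k) (g : A →ₐ[k] k) :
    RingHom.ker (GLin.orbitHom k A (GLin.actPt k g x)) = RingHom.ker (GLin.orbitHom k A x) := by
  refine le_antisymm ?_ (ker_orbitHom_actPt_le x g)
  refine (ker_orbitHom_actPt_le (GLin.actPt k g x) ((WithConv.toConv g)⁻¹).ofConv).trans_eq ?_
  rw [actPt_actPt, WithConv.toConv_ofConv, mul_inv_cancel]
  exact congrArg (fun z => RingHom.ker (GLin.orbitHom k A z)) (actPt_one x)

end Act

variable {k : Type u} [Field k] [IsAlgClosed k] {A : Type u} [CommRing A] [HopfAlgebra k A]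
  [Algebra.FiniteType k A]
  {R : Type u} [CommRing R] [Algebra k R] [Comod k A R] [GLin.IsCoactAlg k A R]

theorem exists_point_notMem {B : Type v} [CommRing B] [Algebra k B] [Algebra.FiniteType k B]
    (q : Ideal B) [q.IsPrime] {f : B} (hf : f ∉ q) : ∃ z : B →ₐ[k] k, q ≤ RingHom.ker z ∧ z f ≠ 0 := by
  haveI : IsJacobsonRing B := isJacobsonRing_of_finiteType (A := k) (B := B)
  have hj : q.jacobson = q := IsJacobsonRing.out ‹IsJacobsonRing B› (Ideal.IsPrime.isRadical ‹_›)
  rw [← hj, Ideal.jacobson, Ideal.mem_sInf] at hf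
  push Not at hf
  obtain ⟨M, ⟨hqM, hM⟩, hfM⟩ := hf
  obtain ⟨z, hz⟩ := exists_point_le_ker (k := k) hM.ne_top
  exact ⟨z, hqM.trans hz, fun h => hfM ((hM.eq_of_le (RingHom.ker_ne_top z) hz).ge h)⟩

/-- A point lying in a given component only. -/
theorem exists_point_only {B : Type v} [CommRing B] [Algebra k B] [Algebra.FiniteType k B]
    {q : Ideal B} (hq : q ∈ minimalPrimes B) :
    ∃ z : B →ₐ[k] k, q ≤ RingHom.ker z ∧ ∀ q' ∈ minimalPrimes B, q' ≤ RingHom.ker z → q' = q := by
  classical
  haveI : IsNoetherianRing B := Algebra.FiniteType.isNoetherianRing k B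
  haveI := hq.1.1
  have hfin := minimalPrimes.finite_of_isNoetherianRing B
  have h : ∀ q' : Ideal B, ∃ f : B, f ∉ q ∧ (q' ∈ minimalPrimes B → q' ≠ q → f ∈ q') := fun q' => by
    by_cases hq' : q' ∈ minimalPrimes B ∧ q' ≠ q
    · have : ¬ q' ≤ q := fun hle => hq'.2 (le_antisymm hle (hq.2 hq'.1.1 hle))
      obtain ⟨f, hf, hfq⟩ := SetLike.not_le_iff_exists.1 this
      exact ⟨f, hfq, fun _ _ => hf⟩
    · exact ⟨1, fun h => ‹q.IsPrime›.ne_top ((Ideal.eq_top_iff_one q).2 h), fun a b => (hq' ⟨a, b⟩).elim⟩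
  choose f hfq hf using h
  have hp : ∏ q' ∈ hfin.toFinset, f q' ∉ q := by
    rw [Ideal.IsPrime.prod_mem_iff]
    rintro ⟨q', -, h'⟩
    exact hfq q' h'
  obtain ⟨z, hz, hz0⟩ := exists_point_notMem (k := k) q hp
  refine ⟨z, hz, fun q' hq' hle => ?_⟩
  by_contra hne
  exact hz0 (hle (Ideal.mem_of_dvd _ (Finset.dvd_prod_of_mem f (hfin.mem_toFinset.2 hq')) (hf q' hq' hne)))

omit [IsAlgClosed k] [Algebra.FiniteType k A] in
theorem comap_minimalPrimes {B : Type v} [CommRing B] [Algebra k B] {e : B →ₐ[k] B}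
    (he : Function.Bijective e) {q : Ideal B} (hq : q ∈ minimalPrimes B) : q.comap e ∈ minimalPrimes B := by
  let E := RingEquiv.ofBijective (e : B →+* B) he
  haveI := hq.1.1
  refine ⟨⟨Ideal.comap_isPrime e q, bot_le⟩, fun p hp hle => ?_⟩
  haveI := hp.1
  have h1 : q ≤ p.comap (E.symm : B →+* B) := hq.2 ⟨Ideal.comap_isPrime _ p, bot_le⟩ fun b hb => by
    have := hle hb
    rw [Ideal.mem_comap] at this
    rwa [show e ((E.symm : B →+* B) b) = b from E.apply_symm_apply b] at this
  intro b hb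
  have := h1 hb
  rw [Ideal.mem_comap] at this
  rwa [show (E.symm : B →+* B) (e b) = b from E.symm_apply_apply b] at this

/-- Every component of the group dominates a component of the orbit closure. -/
theorem comap_orbitHom_mem_minimalPrimes (y : R →ₐ[k] k) {q : Ideal A} (hq : q ∈ minimalPrimes A) :
    q.comap (GLin.orbitHom k A y) ∈ (RingHom.ker (GLin.orbitHom k A y)).minimalPrimes := by
  classical
  haveI : IsNoetherianRing A := Algebra.FiniteType.isNoetherianRing k A
  haveI := hq.1.1
  set θ := GLin.orbitHom k A y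
  have hle : RingHom.ker θ ≤ q.comap θ := fun f hf => by
    rw [Ideal.mem_comap, show θ f = 0 from hf]; exact q.zero_mem
  obtain ⟨t, ht, htle⟩ := Ideal.exists_minimalPrimes_le hle
  obtain ⟨q₂, hq₂p, hq₂⟩ := Ideal.exists_comap_eq_of_mem_minimalPrimes (f := θ.toRingHom) (I := ⊥) t ht
  replace hq₂ : q₂.comap θ = t := hq₂.2
  haveI := hq₂p.1
  obtain ⟨q₃, hq₃, hq₃le⟩ := Ideal.exists_minimalPrimes_le (I := (⊥ : Ideal A)) (J := q₂) bot_le
  haveI := hq₃.1.1
  have ht₃ : q₃.comap θ = t := le_antisymm ((Ideal.comap_mono hq₃le).trans_eq hq₂)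
    (ht.2 ⟨Ideal.comap_isPrime θ q₃, fun f hf => by
      rw [Ideal.mem_comap, show θ f = 0 from hf]; exact q₃.zero_mem⟩
      ((Ideal.comap_mono hq₃le).trans_eq hq₂))
  by_contra hmin
  have hlt : q₃.comap θ < q.comap θ := (ht₃ ▸ htle : q₃.comap θ ≤ q.comap θ).lt_of_ne fun h => hmin
    (by rw [← h, ht₃]; exact ht)
  letI : GLin.IsCoactAlg k A A := ⟨Bialgebra.comul_one, Bialgebra.comul_mul⟩
  obtain ⟨a, ha, -⟩ := exists_point_only (k := k) hq
  obtain ⟨b, -, hb'⟩ := exists_point_only (k := k) hq₃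
  set g : A →ₐ[k] k := ((WithConv.toConv a)⁻¹ * WithConv.toConv b).ofConv
  let τ : A →ₐ[k] A := actAlg g
  let α : R →ₐ[k] R := actAlg g
  have hcomm : ∀ f, θ (α f) = τ (θ f) := fun f => by
    rw [actAlg_apply, actAlg_apply]
    exact actL_natural θ.toLinearMap (isComodHom_orbitHom y) _ f
  have haτ : q.comap τ = q₃ := hb' _ (comap_minimalPrimes (actAlg_bijective g) hq) fun f hf => by
    have h2 : a (τ f) = b f := by
      have hab : (WithConv.toConv a * WithConv.toConv g).ofConv = b := by
        simp [g]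
      rw [actAlg_apply]
      show a (actL g.toLinearMap f) = _
      rw [← hab]
      simp only [actL_apply]
      show _ = Algebra.TensorProduct.lmul' k (Algebra.TensorProduct.map a g (Coalgebra.comul (R := k) f))
      show a (sliceR g.toLinearMap (Coalgebra.comul (R := k) f)) = _
      generalize Coalgebra.comul (R := k) f = z
      induction z using TensorProduct.induction_on with
      | zero => simp
      | tmul p r => simp [mul_comm]
      | add z z' hz hz' => simp only [map_add, hz, hz']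
    rw [RingHom.mem_ker, ← h2]
    exact ha hf
  have hσ : ∀ p : Ideal A, (p.comap θ).comap α = (p.comap τ).comap θ := fun p =>
    Ideal.ext fun f => by simp only [Ideal.mem_comap, hcomm]
  let σ : Ideal R → Ideal R := fun t => t.comap α
  let T : Set (Ideal R) := (fun p : Ideal A => p.comap θ) '' minimalPrimes A
  have hT : T.Finite := (minimalPrimes.finite_of_isNoetherianRing A).image _
  have hσT : ∀ n, σ^[n] (q.comap θ) ∈ T := fun n => by
    induction n with
    | zero => exact ⟨q, hq, rfl⟩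
    | succ n ih =>
      obtain ⟨p, hp, hpe⟩ := ih
      rw [Function.iterate_succ_apply', ← hpe]
      exact ⟨p.comap τ, comap_minimalPrimes (actAlg_bijective g) hp, (hσ p).symm⟩
  have hinj : Function.Injective σ := Ideal.comap_injective_of_surjective (α : R →+* R) (actAlg_bijective g).2
  have hsm : StrictMono σ := Monotone.strictMono_of_injective (fun _ _ h => Ideal.comap_mono h) hinj
  have hanti : StrictAnti fun n => σ^[n] (q.comap θ) := strictAnti_nat_of_succ_lt fun n => by
    rw [Function.iterate_succ_apply]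
    exact (hsm.iterate n) (by show (q.comap θ).comap α < q.comap θ; rwa [hσ, haτ])
  exact Set.infinite_range_of_injective hanti.injective (hT.subset (Set.range_subset_iff.2 hσT))

/-- A point over a prime in the image of the orbit morphism is a translate. -/
theorem exists_actPt_eq_of_comap (x z : R →ₐ[k] k) (q : Ideal A) [q.IsPrime]
    (hq : q.comap (GLin.orbitHom k A x) = RingHom.ker z) : ∃ g : A →ₐ[k] k, z = GLin.actPt k g x := by
  obtain ⟨g, hg⟩ := exists_point_le_ker (k := k) ‹q.IsPrime›.ne_top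
  refine ⟨g, AlgHom.ext fun f => ?_⟩
  have h0 : f - algebraMap k R (z f) ∈ RingHom.ker z := by simp
  rw [← hq, Ideal.mem_comap] at h0
  have h2 := hg h0
  rw [RingHom.mem_ker, map_sub, AlgHom.commutes, map_sub, AlgHom.commutes, sub_eq_zero] at h2
  exact h2.symm

variable [Algebra.FiniteType k R]

/-- The image of a component of the group contains the points of a dense open of its closure. -/
theorem exists_open_subset_orbit (x : R →ₐ[k] k) (q : Ideal A) [q.IsPrime] :
    ∃ f : R, f ∉ q.comap (GLin.orbitHom k A x) ∧ ∀ w : R →ₐ[k] k,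
      q.comap (GLin.orbitHom k A x) ≤ RingHom.ker w → w f ≠ 0 → ∃ g : A →ₐ[k] k, w = GLin.actPt k g x := by
  set θ := GLin.orbitHom k A x
  set Q := q.comap θ
  haveI : Q.IsPrime := Ideal.comap_isPrime θ q
  let φ : (R ⧸ Q) →ₐ[k] (A ⧸ q) := Ideal.quotientMapₐ q θ le_rfl
  have hφ : Function.Injective φ := Ideal.quotientMap_injective
  letI : Algebra (R ⧸ Q) (A ⧸ q) := φ.toRingHom.toAlgebra
  haveI : IsScalarTower k (R ⧸ Q) (A ⧸ q) := IsScalarTower.of_algebraMap_eq fun c => (φ.commutes c).symm
  haveI : Algebra.FiniteType (R ⧸ Q) (A ⧸ q) := Algebra.FiniteType.of_restrictScalars_finiteType k _ _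
  obtain ⟨f', hf', H⟩ := H05EGA4.GenericImage.exists_basicOpen_subset_range (A := R ⧸ Q) (B := A ⧸ q) hφ
  obtain ⟨f, rfl⟩ := Ideal.Quotient.mk_surjective f'
  refine ⟨f, fun h => hf' (Ideal.Quotient.eq_zero_iff_mem.2 h), fun w hw hwf => ?_⟩
  let w' : (R ⧸ Q) →ₐ[k] k := Ideal.Quotient.liftₐ Q w hw
  obtain ⟨p, hp⟩ := H ⟨RingHom.ker w', RingHom.ker_isPrime w'⟩ hwf
  haveI : (p.asIdeal.comap (Ideal.Quotient.mk q)).IsPrime := Ideal.comap_isPrime _ _
  refine exists_actPt_eq_of_comap x w (p.asIdeal.comap (Ideal.Quotient.mk q)) ?_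
  ext r
  have : φ (Ideal.Quotient.mk Q r) ∈ p.asIdeal ↔ w r = 0 := by
    have h1 : p.asIdeal.comap (algebraMap (R ⧸ Q) (A ⧸ q)) = RingHom.ker w' := congrArg PrimeSpectrum.asIdeal hp
    exact SetLike.ext_iff.1 h1 (Ideal.Quotient.mk Q r)
  exact this

/-- Orbits whose closures share a component coincide. -/
theorem exists_actPt_eq_of_comap_eq (x z : R →ₐ[k] k) (q q' : Ideal A) [q.IsPrime] [q'.IsPrime]
    (h : q.comap (GLin.orbitHom k A x) = q'.comap (GLin.orbitHom k A z)) :
    ∃ g : A →ₐ[k] k, z = GLin.actPt k g x := by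
  obtain ⟨f, hf, H⟩ := exists_open_subset_orbit x q
  obtain ⟨f', hf', H'⟩ := exists_open_subset_orbit z q'
  haveI : (q.comap (GLin.orbitHom k A x)).IsPrime := Ideal.comap_isPrime _ _
  rw [← h] at hf' H'
  obtain ⟨w, hw, hw0⟩ := exists_point_notMem (k := k) (q.comap (GLin.orbitHom k A x)) (f := f * f')
    fun hm => (Ideal.IsPrime.mem_or_mem ‹_› hm).elim hf hf'
  rw [map_mul] at hw0
  obtain ⟨g, hg⟩ := H w hw (left_ne_zero_of_mul hw0)
  obtain ⟨g', hg'⟩ := H' w hw (right_ne_zero_of_mul hw0)
  exact eq_actPt_of_actPt_eq (hg.symm.trans hg')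

/-- An orbit is closed as soon as all rational points of its closure lie on it. -/
theorem isClosedOrbit_of_forall (x : R →ₐ[k] k)
    (h : ∀ z : R →ₐ[k] k, RingHom.ker (GLin.orbitHom k A x) ≤ RingHom.ker z →
      ∃ g : A →ₐ[k] k, z = GLin.actPt k g x) : GLin.IsClosedOrbit k A x := by
  set θ := GLin.orbitHom k A x
  have : Set.range (PrimeSpectrum.comap θ.toRingHom) = PrimeSpectrum.zeroLocus (RingHom.ker θ : Set R) := by
    refine Set.Subset.antisymm ?_ fun p hp => ?_
    · rintro _ ⟨q, rfl⟩ f hf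
      show θ f ∈ q.asIdeal
      rw [show θ f = 0 from hf]; exact q.asIdeal.zero_mem
    · rw [PrimeSpectrum.mem_range_comap_iff]
      refine le_antisymm (fun f hf => ?_) Ideal.le_comap_map
      by_contra hfp
      obtain ⟨z, hz, hz0⟩ := exists_point_notMem (k := k) p.asIdeal hfp
      obtain ⟨g, rfl⟩ := h z (le_trans hp hz)
      refine hz0 ((Ideal.map_le_iff_le_comap (f := θ.toRingHom) (K := RingHom.ker g)).2 ?_ hf)
      exact hz
  show IsClosed _
  rw [this]
  exact PrimeSpectrum.isClosed_zeroLocus _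

end

end Groth.Agent.H20Comod.OrbitPrimes
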