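import Groth.Agent.H20Comod.Semisimple

/-!
Flags of subcomodules, trigonalisable and unipotent groups.
-/

set_option autoImplicit false

universe u v w w'

open TensorProduct HopfRep
open scoped Groth.Agent.H20Comod

namespace Groth.Agent.H20Comod

noncomputable section

variable {k : Type u} [Field k]

section Coalg

variable {A : Type v} [AddCommGroup A] [Module k A] [Coalgebra k A]

variable (k A) in
/-- A chain of subcomodules starting at zero whose steps are at most lines. -/
structure IsLineFlag {V : Type w} [AddCommGroup V] [Module k V] [Comod k A V] (F : ℕ → Submodule k V) : Prop where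
  isSub : ∀ i, IsSubcomod (k := k) (A := A) (F i)
  zero : F 0 = ⊥
  step : ∀ i, ∃ x, F (i + 1) ≤ F i ⊔ Submodule.span k {x}

theorem isSubcomod_comap {V : Type w} [AddCommGroup V] [Module k V] [Comod k A V] {W : Type w'} [AddCommGroup W]
    [Module k W] [Comod k A W] {f : V →ₗ[k] W} (hf : Hoch.IsComodHom A f) {p : Submodule k W}
    (hp : IsSubcomod (k := k) (A := A) p) : IsSubcomod (k := k) (A := A) (p.comap f) :=
  (isSubcomod_iff_forall_actL _).2 fun v hv φ => by
    show f (actL φ v) ∈ p
    rw [actL_comm_of_isComodHom hf]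
    exact actL_mem_of_isSubcomod hp φ hv

theorem isSubcomod_map {V : Type w} [AddCommGroup V] [Module k V] [Comod k A V] {W : Type w'} [AddCommGroup W]
    [Module k W] [Comod k A W] {f : V →ₗ[k] W} (hf : Hoch.IsComodHom A f) {p : Submodule k V}
    (hp : IsSubcomod (k := k) (A := A) p) : IsSubcomod (k := k) (A := A) (p.map f) := by
  refine (isSubcomod_iff_forall_actL _).2 ?_
  rintro _ ⟨v, hv, rfl⟩ φ
  exact ⟨actL φ v, actL_mem_of_isSubcomod hp φ hv, actL_comm_of_isComodHom hf φ v⟩

/-- If finite comodules have invariant lines they have complete flags. -/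
theorem exists_flag
    (h : ∀ (V : Type v) [AddCommGroup V] [Module k V] [Comod k A V], Module.Finite k V → Nontrivial V →
      ∃ x : V, x ≠ 0 ∧ IsSubcomod (k := k) (A := A) (Submodule.span k {x}))
    (V : Type v) [AddCommGroup V] [Module k V] [Comod k A V] [Module.Finite k V] :
    ∃ F : ℕ → Submodule k V, Monotone F ∧ IsLineFlag k A F ∧
      ∀ i, i ≤ Module.finrank k V → Module.finrank k (F i) = i := by
  classical
  let S := {p : Submodule k V // IsSubcomod (k := k) (A := A) p}
  have hstep : ∀ p : S, ∃ q : S, p.1 ≤ q.1 ∧ (∃ x, q.1 ≤ p.1 ⊔ Submodule.span k {x}) ∧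
      (p.1 ≠ ⊤ → Module.finrank k q.1 = Module.finrank k p.1 + 1) := by
    rintro ⟨p, hp⟩
    by_cases htop : p = ⊤
    · exact ⟨⟨p, hp⟩, le_rfl, ⟨0, le_sup_left⟩, fun hne => absurd htop hne⟩
    letI := ComodSub.Comod.quot (inferInstance : Comod k A V) p hp
    haveI : Nontrivial (V ⧸ p) := Submodule.Quotient.nontrivial_iff.2 htop
    obtain ⟨x, hx0, hx⟩ := h (V ⧸ p) inferInstance inferInstance
    obtain ⟨y, rfl⟩ := p.mkQ_surjective x
    refine ⟨⟨_, isSubcomod_comap (ComodSub.isComodHom_mkQ _ _ hp) hx⟩, ?_, ⟨y, ?_⟩, fun _ => ?_⟩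
    · intro z hz
      show p.mkQ z ∈ Submodule.span k {p.mkQ y}
      rw [show p.mkQ z = 0 from (Submodule.Quotient.mk_eq_zero p).2 hz]
      exact zero_mem _
    · show (Submodule.span k {p.mkQ y}).comap p.mkQ ≤ _
      rw [← Set.image_singleton, ← Submodule.map_span, Submodule.comap_map_eq, Submodule.ker_mkQ, sup_comm]
    · show Module.finrank k ((Submodule.span k {p.mkQ y}).comap p.mkQ : Submodule k V) = _
      rw [← Set.image_singleton, ← Submodule.map_span, Submodule.comap_map_eq, Submodule.ker_mkQ]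
      have hyp : y ∉ p := fun hy => hx0 ((Submodule.Quotient.mk_eq_zero p).2 hy)
      have hdis : Submodule.span k {y} ⊓ p = ⊥ := by
        rw [Submodule.eq_bot_iff]
        rintro z ⟨hz, hzp⟩
        obtain ⟨c, rfl⟩ := Submodule.mem_span_singleton.1 hz
        by_cases hc : c = 0
        · rw [hc, zero_smul]
        · exact absurd (by simpa [smul_smul, hc] using p.smul_mem c⁻¹ hzp) hyp
      have h1 := Submodule.finrank_sup_add_finrank_inf_eq (Submodule.span k {y}) p
      rw [hdis, finrank_bot, add_zero, finrank_span_singleton (fun e => hyp (by rw [e]; exact zero_mem p))] at h1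
      rw [h1, add_comm]
  choose next hle hx hrank using hstep
  let F : ℕ → S := fun n => next^[n] ⟨⊥, isSubcomod_bot⟩
  have hF : ∀ i, F (i + 1) = next (F i) := fun i => Function.iterate_succ_apply' next i _
  refine ⟨fun i => (F i).1, monotone_nat_of_le_succ fun i => by rw [hF]; exact hle _,
    ⟨fun i => (F i).2, rfl, fun i => by rw [hF]; exact hx _⟩, fun i hi => ?_⟩
  induction i with
  | zero => exact finrank_bot k V
  | succ i ih =>
    show Module.finrank k (F (i + 1)).1 = i + 1
    rw [hF, hrank _ ?_, ih (Nat.le_of_succ_le hi)]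
    intro e
    have h2 := ih (Nat.le_of_succ_le hi)
    change Module.finrank k (F i).1 = i at h2
    rw [e, finrank_top] at h2
    omega

/-- A coalgebra covered by flags has only one-dimensional simple comodules. -/
theorem finrank_eq_one_of_flags (h : ∀ a : A, ∃ F : ℕ → Submodule k A, IsLineFlag k A F ∧ ∃ n, a ∈ F n)
    {V : Type w} [AddCommGroup V] [Module k V] [Comod k A V] (hV : IsSimpleComod k A V) :
    Module.finrank k V = 1 := by
  classical
  haveI : Nontrivial V := hV.1
  obtain ⟨v, hv⟩ := exists_ne (0 : V)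
  obtain ⟨g, hg⟩ : ∃ g : V →ₗ[k] k, g v ≠ 0 := by
    by_contra hc
    push_neg at hc
    exact hv ((Module.forall_dual_apply_eq_zero_iff k v).1 hc)
  let f : V →ₗ[k] A := coeff A g
  have hf0 : f v ≠ 0 := fun e => hg (by
    have := congrArg (CoalgebraStruct.counit (R := k)) e
    rwa [map_zero, apply_coeff, actL_counit] at this)
  have hker : LinearMap.ker f = ⊥ := (hV.2 _ (isSubcomod_ker (isComodHom_coeff g))).resolve_right
    fun e => hf0 (LinearMap.mem_ker.1 (e ▸ Submodule.mem_top))
  obtain ⟨F, hF, n, hn⟩ := h (f v)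
  have hex : ∃ m, (F m).comap f ≠ ⊥ := ⟨n, fun e => hv ((Submodule.mem_bot k).1 (e ▸ (hn : v ∈ (F n).comap f)))⟩
  obtain ⟨m, hm⟩ : ∃ m, Nat.find hex = m + 1 := Nat.exists_eq_succ_of_ne_zero fun e => by
    have := Nat.find_spec hex
    rw [e, hF.zero, Submodule.comap_bot, hker] at this
    exact this rfl
  have htop : (F (m + 1)).comap f = ⊤ := (hV.2 _ (isSubcomod_comap (isComodHom_coeff g) (hF.isSub _))).resolve_left
    (hm ▸ Nat.find_spec hex)
  have hbot : (F m).comap f = ⊥ := not_not.1 (Nat.find_min hex (by omega))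
  obtain ⟨x, hx⟩ := hF.step m
  have hinj : Function.Injective ((F m).mkQ ∘ₗ f) := by
    rw [← LinearMap.ker_eq_bot, LinearMap.ker_comp, Submodule.ker_mkQ, hbot]
  have hrange : LinearMap.range ((F m).mkQ ∘ₗ f) ≤ Submodule.span k {(F m).mkQ x} := by
    rintro _ ⟨w, rfl⟩
    have hw : f w ∈ F m ⊔ Submodule.span k {x} := hx ((htop ▸ Submodule.mem_top : w ∈ (F (m + 1)).comap f))
    obtain ⟨y, hy, z, hz, hyz⟩ := Submodule.mem_sup.1 hw
    obtain ⟨c, rfl⟩ := Submodule.mem_span_singleton.1 hz
    show (F m).mkQ (f w) ∈ _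
    rw [← hyz, map_add, show (F m).mkQ y = 0 from (Submodule.Quotient.mk_eq_zero _).2 hy, zero_add, map_smul]
    exact Submodule.smul_mem _ _ (Submodule.mem_span_singleton_self _)
  haveI := finite_of_isSimpleModule ((isSimpleComod_iff (k := k) (A := A) (V := V)).1 hV)
  refine le_antisymm ?_ (Module.finrank_pos)
  calc Module.finrank k V = Module.finrank k (LinearMap.range ((F m).mkQ ∘ₗ f)) :=
        (LinearMap.finrank_range_of_inj hinj).symm
    _ ≤ Module.finrank k (Submodule.span k {(F m).mkQ x}) := Submodule.finrank_mono hrange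
    _ ≤ 1 := by
      by_cases h0 : (F m).mkQ x = 0
      · rw [h0, Submodule.span_zero_singleton, finrank_bot]; omega
      · rw [finrank_span_singleton h0]

variable {B : Type w'} [AddCommGroup B] [Module k B] [Coalgebra k B] (q : A →ₗ[k] B)
  (hq : ∀ a, CoalgebraStruct.comul (R := k) (q a) = TensorProduct.map q q (CoalgebraStruct.comul (R := k) a))

include hq in
theorem sliceR_comul_map (φ : B →ₗ[k] k) (a : A) :
    sliceR φ (CoalgebraStruct.comul (R := k) (q a)) = q (sliceR (φ ∘ₗ q) (CoalgebraStruct.comul (R := k) a)) := by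
  rw [hq]
  generalize CoalgebraStruct.comul (R := k) a = z
  induction z using TensorProduct.induction_on with
  | zero => simp
  | tmul p r => simp
  | add u v hu hv => simp only [map_add, hu, hv]

include hq in
theorem isLineFlag_map {F : ℕ → Submodule k A} (hF : IsLineFlag k A F) :
    IsLineFlag k B (fun i => (F i).map q) := by
  refine ⟨fun i => (isSubcomod_iff_forall_actL _).2 ?_, by rw [hF.zero, Submodule.map_bot], fun i => ?_⟩
  · rintro _ ⟨a, ha, rfl⟩ φ
    exact ⟨_, actL_mem_of_isSubcomod (hF.isSub i) (φ ∘ₗ q) ha, (sliceR_comul_map q hq φ a).symm⟩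
  · obtain ⟨x, hx⟩ := hF.step i
    refine ⟨q x, (Submodule.map_mono hx).trans ?_⟩
    rw [Submodule.map_sup, Submodule.map_span, Set.image_singleton]

include hq in
theorem isLineFlag_comap (hinj : Function.Injective q) {F : ℕ → Submodule k B} (hF : IsLineFlag k B F) :
    IsLineFlag k A (fun i => (F i).comap q) := by
  refine ⟨fun i => (isSubcomod_iff_forall_actL _).2 fun a ha φ => ?_, by
    rw [hF.zero, Submodule.comap_bot, LinearMap.ker_eq_bot.2 hinj], fun i => ?_⟩
  · obtain ⟨ψ, hψ⟩ := LinearMap.exists_leftInverse_of_injective q (LinearMap.ker_eq_bot.2 hinj)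
    show q (actL φ a) ∈ F i
    have := sliceR_comul_map q hq (φ ∘ₗ ψ) a
    rw [LinearMap.comp_assoc, hψ, LinearMap.comp_id] at this
    rw [show q (actL φ a) = actL (φ ∘ₗ ψ) (q a) from this.symm]
    exact actL_mem_of_isSubcomod (hF.isSub i) _ ha
  · obtain ⟨x, hx⟩ := hF.step i
    by_cases hc : (F (i + 1)).comap q ≤ (F i).comap q
    · exact ⟨0, hc.trans le_sup_left⟩
    obtain ⟨y, hy, hy'⟩ := SetLike.not_le_iff_exists.1 hc
    refine ⟨y, fun z hz => ?_⟩
    obtain ⟨a, ha, b, hb, hab⟩ := Submodule.mem_sup.1 (hx hy)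
    obtain ⟨a', ha', b', hb', hab'⟩ := Submodule.mem_sup.1 (hx hz)
    obtain ⟨c, rfl⟩ := Submodule.mem_span_singleton.1 hb
    obtain ⟨c', rfl⟩ := Submodule.mem_span_singleton.1 hb'
    have hc0 : c ≠ 0 := fun e => hy' (by
      show q y ∈ F i
      rw [← hab, e, zero_smul, add_zero]; exact ha)
    refine Submodule.mem_sup.2 ⟨z - (c' / c) • y, ?_, (c' / c) • y,
      Submodule.smul_mem _ _ (Submodule.mem_span_singleton_self y), sub_add_cancel _ _⟩
    show q (z - (c' / c) • y) ∈ F i
    rw [map_sub, map_smul, ← hab, ← hab', smul_add, smul_smul, div_mul_cancel₀ c' hc0,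
      show a' + c' • x - ((c' / c) • a + c' • x) = a' - (c' / c) • a by abel]
    exact (F i).sub_mem ha' ((F i).smul_mem _ ha)

end Coalg

section Bialg

variable {A : Type v} [CommRing A] [Bialgebra k A]

theorem exists_line_of_isTrigonalizable (hT : IsTrigonalizable k A)
    (V : Type v) [AddCommGroup V] [Module k V] [Comod k A V] (hfin : Module.Finite k V) (hnt : Nontrivial V) :
    ∃ x : V, x ≠ 0 ∧ IsSubcomod (k := k) (A := A) (Submodule.span k {x}) := by
  obtain ⟨m, hle, hm⟩ := exists_simple_le (k := k) (A := A) (V := V) (p := ⊤) top_ne_bot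
  letI := subComod m
  obtain ⟨e, -⟩ := exists_equiv_subComod m
  haveI := hm
  have hs : IsSimpleComod k A ↥(m.restrictScalars k) :=
    (isSimpleComod_iff (k := k) (A := A)).2 (IsSimpleModule.congr e)
  obtain ⟨w, hw0, hw⟩ := finrank_eq_one_iff'.1 (hT ↥(m.restrictScalars k) inferInstance hs)
  refine ⟨w, fun e => hw0 (Subtype.ext e), ?_⟩
  have : Submodule.span k {(w : V)} = m.restrictScalars k := by
    refine le_antisymm ((Submodule.span_singleton_le_iff_mem _ _).2 w.2) fun z hz => ?_
    obtain ⟨c, hc⟩ := hw ⟨z, hz⟩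
    exact Submodule.mem_span_singleton.2 ⟨c, congrArg Subtype.val hc⟩
  rw [this]
  exact isSubcomod_restrictScalars m

theorem exists_lineFlag_of_finite (hT : IsTrigonalizable k A) {s : Set A} (hs : s.Finite) :
    ∃ F : ℕ → Submodule k A, IsLineFlag k A F ∧ ∃ n, s ⊆ F n := by
  obtain ⟨W, hWf, haW, hW⟩ := exists_finite_subcomod (k := k) (A := A) (V := A) hs
  letI := ComodSub.Comod.restr (inferInstance : Comod k A A) W hW
  obtain ⟨F, -, hF, hrank⟩ := exists_flag (exists_line_of_isTrigonalizable hT) ↥W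
  have hhom := ComodSub.isComodHom_subtype (inferInstance : Comod k A A) W hW
  refine ⟨fun i => (F i).map W.subtype, ⟨fun i => isSubcomod_map hhom (hF.isSub i), by rw [hF.zero, Submodule.map_bot],
    fun i => ?_⟩, Module.finrank k W, fun a ha => ⟨⟨a, haW ha⟩, ?_, rfl⟩⟩
  · obtain ⟨x, hx⟩ := hF.step i
    refine ⟨W.subtype x, (Submodule.map_mono hx).trans ?_⟩
    rw [Submodule.map_sup, Submodule.map_span, Set.image_singleton]
  · have : F (Module.finrank k W) = ⊤ := Submodule.eq_top_of_finrank_eq (hrank _ le_rfl)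
    rw [this]; trivial

theorem exists_lineFlag_of_isTrigonalizable (hT : IsTrigonalizable k A) (a : A) :
    ∃ F : ℕ → Submodule k A, IsLineFlag k A F ∧ ∃ n, a ∈ F n := by
  obtain ⟨F, hF, n, hn⟩ := exists_lineFlag_of_finite hT (Set.finite_singleton a)
  exact ⟨F, hF, n, hn rfl⟩

theorem isTrigonalizable_of_flags (h : ∀ a : A, ∃ F : ℕ → Submodule k A, IsLineFlag k A F ∧ ∃ n, a ∈ F n) :
    IsTrigonalizable k A :=
  fun _ _ _ _ _ hs => finrank_eq_one_of_flags h hs

end Bialg

end

end Groth.Agent.H20Comod
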