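import Mathlib.Algebra.MvPolynomial.PDeriv
import Mathlib.RingTheory.MvPolynomial.Basic
import Mathlib.Data.Nat.Factorial.Basic
import Mathlib.Algebra.CharZero.Defs
import Mathlib.Algebra.Order.BigOperators.Ring.Finset
import Mathlib.Tactic.Ring

/-!
The apolar pairing on polynomials and its behaviour under linear substitutions.
-/

set_option autoImplicit false

universe u v w

open MvPolynomial

namespace Groth.Agent.H20Comod

noncomputable section

variable {σ : Type w} {R : Type u} [CommRing R]

/-- The multifactorial of an exponent. -/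
def mfact (α : σ →₀ ℕ) : ℕ := α.prod fun _ e => e.factorial

theorem mfact_pos (α : σ →₀ ℕ) : 0 < mfact α :=
  Finset.prod_pos fun i _ => Nat.factorial_pos (α i)

theorem mfact_add_single (α : σ →₀ ℕ) (i : σ) :
    mfact (α + Finsupp.single i 1) = (α i + 1) * mfact α := by
  classical
  set s := insert i α.support
  have hs : (α + Finsupp.single i 1).support ⊆ s := by
    refine Finsupp.support_add.trans ?_
    refine Finset.union_subset (Finset.subset_insert _ _) ?_
    exact Finsupp.support_single_subset.trans (by simp [s])
  unfold mfact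
  rw [Finsupp.prod_of_support_subset _ hs _ (fun _ _ => rfl),
    Finsupp.prod_of_support_subset _ (Finset.subset_insert i _) _ (fun _ _ => rfl),
    ← Finset.mul_prod_erase s _ (Finset.mem_insert_self i _),
    ← Finset.mul_prod_erase s _ (Finset.mem_insert_self i _)]
  have h : ∀ j ∈ s.erase i, ((α + Finsupp.single i 1 : σ →₀ ℕ) j).factorial = (α j).factorial := by
    intro j hj
    rw [Finsupp.add_apply, Finsupp.single_eq_of_ne (Finset.ne_of_mem_erase hj), add_zero]
  rw [Finset.prod_congr rfl h, Finsupp.add_apply, Finsupp.single_eq_same, Nat.factorial_succ, mul_assoc]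

variable (σ R) in
/-- The apolar pairing. -/
def apolar : MvPolynomial σ R →ₗ[R] MvPolynomial σ R →ₗ[R] R :=
  (basisMonomials σ R).constr R fun α => (mfact α : R) • lcoeff R α

theorem apolar_monomial (α : σ →₀ ℕ) (c : R) (f : MvPolynomial σ R) :
    apolar σ R (monomial α c) f = c * ((mfact α : R) * f.coeff α) := by
  have h : monomial α c = c • basisMonomials σ R α := by
    rw [coe_basisMonomials, smul_monomial, smul_eq_mul, mul_one]
  rw [h, map_smul, LinearMap.smul_apply, apolar, Module.Basis.constr_basis]
  simp [lcoeff_apply]

theorem apolar_eq_sum (p f : MvPolynomial σ R) :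
    apolar σ R p f = ∑ α ∈ p.support, p.coeff α * ((mfact α : R) * f.coeff α) := by
  conv_lhs => rw [p.as_sum]
  rw [map_sum, LinearMap.sum_apply]
  exact Finset.sum_congr rfl fun α _ => apolar_monomial _ _ _

theorem apolar_C (a : R) (f : MvPolynomial σ R) : apolar σ R (C a) f = a * constantCoeff f := by
  rw [C_apply, apolar_monomial]
  simp [mfact, constantCoeff_eq]

theorem apolar_mul_X (p : MvPolynomial σ R) (i : σ) (f : MvPolynomial σ R) :
    apolar σ R (p * X i) f = apolar σ R p (pderiv i f) := by
  induction p using MvPolynomial.induction_on' with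
  | monomial α c =>
    rw [X, monomial_mul, mul_one, apolar_monomial, apolar_monomial, coeff_pderiv, mfact_add_single]
    push_cast
    ring
  | add p q hp hq => simp only [add_mul, map_add, LinearMap.add_apply, hp, hq]

theorem apolar_map {S : Type v} [CommRing S] (g : R →+* S) (p f : MvPolynomial σ R) :
    apolar σ S (map g p) (map g f) = g (apolar σ R p f) := by
  induction p using MvPolynomial.induction_on' with
  | monomial α c => simp [apolar_monomial, coeff_map]
  | add p q hp hq => simp only [map_add, LinearMap.add_apply, hp, hq]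

theorem apolar_self_pos {p : MvPolynomial σ ℤ} (hp : p ≠ 0) : 0 < apolar σ ℤ p p := by
  rw [apolar_eq_sum]
  refine Finset.sum_pos' (fun α _ => ?_) ?_
  · rw [show p.coeff α * ((mfact α : ℤ) * p.coeff α) = (mfact α : ℤ) * (p.coeff α * p.coeff α) by ring]
    exact mul_nonneg (Int.natCast_nonneg _) (mul_self_nonneg _)
  · obtain ⟨α, hα⟩ := exists_coeff_ne_zero hp
    refine ⟨α, mem_support_iff.2 hα, ?_⟩
    rw [show p.coeff α * ((mfact α : ℤ) * p.coeff α) = (mfact α : ℤ) * (p.coeff α * p.coeff α) by ring]
    exact mul_pos (by exact_mod_cast mfact_pos α) (mul_self_pos.2 hα)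

theorem apolar_map_self_ne_zero {K : Type u} [CommRing K] [CharZero K] {p : MvPolynomial σ ℤ} (hp : p ≠ 0) :
    apolar σ K (map (Int.castRingHom K) p) (map (Int.castRingHom K) p) ≠ 0 := by
  rw [apolar_map, eq_intCast, Int.cast_ne_zero]
  exact (apolar_self_pos hp).ne'

section Subst

variable [Fintype σ]

/-- The linear substitution with matrix `T`. -/
def linSubst (T : Matrix σ σ R) : σ → MvPolynomial σ R := fun j => ∑ i, C (T j i) * X i

theorem pderiv_aeval_linSubst (T : Matrix σ σ R) (i : σ) (f : MvPolynomial σ R) :
    pderiv i (aeval (linSubst T) f) = ∑ j, C (T j i) * aeval (linSubst T) (pderiv j f) := by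
  classical
  induction f using MvPolynomial.induction_on with
  | C a => simp
  | add p q hp hq => simp only [map_add, hp, hq, mul_add, Finset.sum_add_distrib]
  | mul_X p l hp =>
    have hl : pderiv i (linSubst T l) = C (T l i) := by
      simp [linSubst, pderiv_C, pderiv_X, Pi.single_apply, Finset.sum_ite_eq', mul_comm]
    have hrhs : ∀ j, C (T j i) * aeval (linSubst T) (pderiv j (p * X l)) =
        C (T j i) * aeval (linSubst T) (pderiv j p) * linSubst T l +
          aeval (linSubst T) p * (if j = l then C (T l i) else 0) := by
      intro j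
      rw [pderiv_mul, pderiv_X, map_add, map_mul, map_mul, aeval_X]
      by_cases h : j = l
      · subst h; simp; ring
      · simp [Pi.single_eq_of_ne (Ne.symm h), h]; ring
    rw [Finset.sum_congr rfl fun j _ => hrhs j, Finset.sum_add_distrib, map_mul, aeval_X, pderiv_mul, hl, hp,
      Finset.sum_mul, ← Finset.mul_sum, Finset.sum_ite_eq', if_pos (Finset.mem_univ _)]

theorem apolar_aeval_linSubst (T : Matrix σ σ R) (p f : MvPolynomial σ R) :
    apolar σ R p (aeval (linSubst T) f) = apolar σ R (aeval (linSubst T.transpose) p) f := by
  induction p using MvPolynomial.induction_on generalizing f with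
  | C a =>
    rw [aeval_C, algebraMap_eq, apolar_C, apolar_C]
    congr 1
    induction f using MvPolynomial.induction_on with
    | C b => simp
    | add p q hp hq => simp only [map_add, hp, hq]
    | mul_X q l _ => simp [linSubst]
  | add p q hp hq => simp only [map_add, LinearMap.add_apply, hp, hq]
  | mul_X p i hp =>
    rw [apolar_mul_X, pderiv_aeval_linSubst, map_mul, aeval_X, linSubst, Finset.mul_sum, map_sum, map_sum,
      LinearMap.sum_apply]
    refine Finset.sum_congr rfl fun j _ => ?_
    rw [C_mul', map_smul, hp, Matrix.transpose_apply, mul_left_comm, C_mul', map_smul, LinearMap.smul_apply,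
      apolar_mul_X]

end Subst

end

end Groth.Agent.H20Comod
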