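import Groth.Agent.H20Comod.InvRegular
import Groth.Agent.H20Comod.Graded
import Groth.Agent.H02CA.RegularKer
import Mathlib.RingTheory.MvPolynomial.Ideal

/-!
The theorem of Chevalley-Shephard-Todd for linear actions: graded invariants regular at the origin form a
polynomial ring.
-/

set_option autoImplicit false

universe u

open TensorProduct HopfRep MvPolynomial

namespace Groth.Agent.H20Comod

noncomputable section

variable {k : Type u} [Field k] {ι : Type u} [Fintype ι]

omit [Fintype ι] in
theorem mem_idealOfVars_iff_constantCoeff (f : MvPolynomial ι k) :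
    f ∈ idealOfVars ι k ↔ constantCoeff f = 0 := by
  rw [← pow_one (idealOfVars ι k), mem_pow_idealOfVars_iff, constantCoeff_eq]
  constructor
  · intro h
    by_contra hne
    have := h 0 (mem_support_iff.2 hne)
    simp at this
  · intro h e he
    by_contra hlt
    rw [mem_support_iff, (Finsupp.degree_eq_zero_iff e).1 (by omega)] at he
    exact he h

variable (k ι) in
/-- The origin, as a rational point. -/
def originPt : MvPolynomial ι k →ₐ[k] k := aeval fun _ : ι => (0 : k)

omit [Fintype ι] in
theorem originPt_apply (f : MvPolynomial ι k) : originPt k ι f = constantCoeff f := by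
  simp [originPt, aeval_zero']

omit [Fintype ι] in
theorem ker_originPt : RingHom.ker (originPt k ι) = idealOfVars ι k := by
  ext f
  rw [RingHom.mem_ker, originPt_apply, mem_idealOfVars_iff_constantCoeff]

omit [Fintype ι] in
theorem eq_zero_of_linear_of_mem_sq {f : MvPolynomial ι k} (hf : f.IsHomogeneous 1)
    (h2 : f ∈ RingHom.ker (originPt k ι) ^ 2) : f = 0 := by
  rw [ker_originPt, mem_pow_idealOfVars_iff] at h2
  ext e
  rw [coeff_zero]
  by_contra hne
  have h3 : e.degree = 1 := by rw [Finsupp.degree_eq_weight_one]; exact hf hne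
  have := h2 e (mem_support_iff.2 hne)
  omega

omit [Fintype ι] in
theorem sub_component_one_mem_sq {f : MvPolynomial ι k} (h0 : constantCoeff f = 0) :
    f - homogeneousComponent 1 f ∈ RingHom.ker (originPt k ι) ^ 2 := by
  classical
  rw [ker_originPt, mem_pow_idealOfVars_iff]
  intro e he
  rw [mem_support_iff, coeff_sub, coeff_homogeneousComponent] at he
  by_contra hlt
  by_cases h1 : e.degree = 1
  · rw [if_pos h1, sub_self] at he
    exact he rfl
  · rw [if_neg h1, sub_zero, (Finsupp.degree_eq_zero_iff e).1 (by omega), ← constantCoeff_eq] at he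
    exact he h0

section Graded

variable (R₀ : Subalgebra k (MvPolynomial ι k))

/-- A subalgebra of a polynomial ring closed under homogeneous components which is regular at the origin is a
polynomial ring. -/
theorem exists_algEquiv_of_isRegularLocalRing [IsNoetherianRing R₀]
    (hR : ∀ f ∈ R₀, ∀ n, homogeneousComponent n f ∈ R₀)
    [(RingHom.ker ((originPt k ι).comp R₀.val)).IsPrime]
    [IsRegularLocalRing (Localization.AtPrime (RingHom.ker ((originPt k ι).comp R₀.val)))] :
    ∃ m : ℕ, Nonempty (R₀ ≃ₐ[k] MvPolynomial (Fin m) k) := by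
  classical
  set p := RingHom.ker ((originPt k ι).comp R₀.val)
  have hp : ∀ f : R₀, f ∈ p ↔ constantCoeff (f : MvPolynomial ι k) = 0 := fun f => by
    rw [RingHom.mem_ker, AlgHom.comp_apply, originPt_apply]
    rfl
  have hex : ∃ n, ∃ s : Finset R₀, s.card = n ∧
      (∀ u ∈ s, ∃ d, 0 < d ∧ (u : MvPolynomial ι k).IsHomogeneous d) ∧ p ≤ Ideal.span (s : Set R₀) := by
    obtain ⟨gs, hgs⟩ := (IsNoetherian.noetherian p : p.FG)
    refine ⟨_, gs.biUnion fun g => (Finset.Icc 1 (g : MvPolynomial ι k).totalDegree).image fun j =>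
      (⟨homogeneousComponent j g, hR g g.2 j⟩ : R₀), rfl, fun u hu => ?_, ?_⟩
    · simp only [Finset.mem_biUnion, Finset.mem_image, Finset.mem_Icc] at hu
      obtain ⟨g, -, j, hj, rfl⟩ := hu
      exact ⟨j, hj.1, homogeneousComponent_isHomogeneous j _⟩
    · rw [← hgs]
      refine Ideal.span_le.2 fun g hg => ?_
      have hg0 : constantCoeff (g : MvPolynomial ι k) = 0 := (hp g).1 (hgs ▸ Ideal.subset_span hg)
      have : g = ∑ j ∈ Finset.Icc 1 (g : MvPolynomial ι k).totalDegree,
          (⟨homogeneousComponent j g, hR g g.2 j⟩ : R₀) := Subtype.ext (by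
        rw [AddSubmonoidClass.coe_finsetSum]
        conv_lhs => rw [← sum_homogeneousComponent (g : MvPolynomial ι k)]
        refine (Finset.sum_subset (fun j hj => ?_) fun j hj hj' => ?_).symm
        · simp only [Finset.mem_Icc] at hj
          exact Finset.mem_range.2 (by omega)
        · have : j = 0 := by
            simp only [Finset.mem_Icc, Finset.mem_range] at hj hj'
            omega
          rw [this, homogeneousComponent_zero, ← constantCoeff_eq, hg0, map_zero])
      rw [SetLike.mem_coe, this]
      refine sum_mem fun j hj => Ideal.subset_span ?_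
      rw [Finset.mem_coe, Finset.mem_biUnion]
      exact ⟨g, hg, Finset.mem_image.2 ⟨j, hj, rfl⟩⟩
  obtain ⟨s, hcard, hhom, hspan⟩ := Nat.find_spec hex
  choose d hd0 hd using fun u : ↥s => hhom u u.2
  have hsp : ∀ u : ↥s, (u : R₀) ∈ p := fun u => (hp _).2 (by
    rw [constantCoeff_eq]
    refine (hd u).coeff_eq_zero ?_
    have := hd0 u
    simp only [map_zero]
    omega)
  have hcomb : ∀ f ∈ p, ∃ c : ↥s → R₀, f = ∑ u, c u * (u : R₀) := by
    intro f hf
    have h := hspan hf
    rw [show ((s : Finset R₀) : Set R₀) = Set.range (fun u : ↥s => (u : R₀)) from Subtype.range_coe.symm,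
      Ideal.span, Submodule.mem_span_range_iff_exists_fun] at h
    obtain ⟨c, hc⟩ := h
    exact ⟨c, hc.symm⟩
  have hcomp : ∀ (c : ↥s → R₀) (D : ℕ), homogeneousComponent D ((∑ u, c u * (u : R₀) : R₀) : MvPolynomial ι k) =
      ∑ u, (if d u ≤ D then homogeneousComponent (D - d u) (c u : MvPolynomial ι k) * (u : R₀) else 0) := by
    intro c D
    rw [AddSubmonoidClass.coe_finsetSum, map_sum]
    exact Finset.sum_congr rfl fun u _ => homogeneousComponent_mul_of_isHomogeneous (hd u) _ D
  -- generation
  let φ : MvPolynomial ↥s k →ₐ[k] R₀ := aeval fun u => (u : R₀)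
  have hhomgen : ∀ D, ∀ f : R₀, (f : MvPolynomial ι k).IsHomogeneous D → f ∈ φ.range := by
    intro D
    induction D using Nat.strong_induction_on with
    | _ D ih =>
      intro f hf
      rcases Nat.eq_zero_or_pos D with rfl | hD
      · rw [show f = algebraMap k R₀ (constantCoeff (f : MvPolynomial ι k)) from Subtype.ext (by
          conv_lhs => rw [← homogeneousComponent_eq_self hf, homogeneousComponent_zero]
          rfl)]
        exact φ.range.algebraMap_mem _
      · obtain ⟨c, hc⟩ := hcomb f ((hp f).2 (by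
          rw [constantCoeff_eq]
          refine hf.coeff_eq_zero ?_
          simp only [map_zero]
          omega))
        rw [show f = ∑ u, (if d u ≤ D then (⟨homogeneousComponent (D - d u) (c u), hR _ (c u).2 _⟩ : R₀) * (u : R₀)
          else 0) from Subtype.ext (by
            conv_lhs => rw [← homogeneousComponent_eq_self hf, hc, hcomp]
            rw [AddSubmonoidClass.coe_finsetSum]
            exact Finset.sum_congr rfl fun u _ => by split_ifs <;> rfl)]
        refine sum_mem fun u _ => ?_
        split_ifs with hle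
        · exact mul_mem (ih (D - d u) (by have := hd0 u; omega) _ (homogeneousComponent_isHomogeneous _ _))
            ⟨X u, aeval_X _ u⟩
        · exact zero_mem _
  have hφ : Function.Surjective φ := by
    intro f
    have : f = ∑ j ∈ Finset.range ((f : MvPolynomial ι k).totalDegree + 1),
        (⟨homogeneousComponent j f, hR f f.2 j⟩ : R₀) := Subtype.ext (by
      rw [AddSubmonoidClass.coe_finsetSum]
      exact (sum_homogeneousComponent _).symm)
    show f ∈ φ.range
    rw [this]
    exact sum_mem fun j _ => hhomgen j _ (homogeneousComponent_isHomogeneous _ _)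
  -- the generators are independent modulo the square
  have hsq : ∀ f ∈ p ^ 2, ∃ b : ↥s → R₀, (∀ u, b u ∈ p) ∧ f = ∑ u, b u * (u : R₀) := by
    intro f hf
    rw [pow_two] at hf
    induction hf using Submodule.mul_induction_on' with
    | mem_mul_mem y hy z hz =>
      obtain ⟨c, rfl⟩ := hcomb z hz
      exact ⟨fun u => y * c u, fun u => Ideal.mul_mem_right _ _ hy, by simp only [Finset.mul_sum, mul_assoc]⟩
    | add y _ z _ hy hz =>
      obtain ⟨b, hb, rfl⟩ := hy
      obtain ⟨b', hb', rfl⟩ := hz
      exact ⟨b + b', fun u => add_mem (hb u) (hb' u), by simp [add_mul, Finset.sum_add_distrib]⟩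
  have hind : ∀ c : ↥s → k, ∑ u, c u • (u : R₀) ∈ p ^ 2 → ∀ u, c u = 0 := by
    intro c hc i
    by_contra hne
    obtain ⟨b, hb, hbe⟩ := hsq _ hc
    have h := congrArg (fun f : R₀ => homogeneousComponent (d i) (f : MvPolynomial ι k)) hbe
    rw [hcomp] at h
    simp only [AddSubmonoidClass.coe_finsetSum, map_sum, SetLike.val_smul, map_smul,
      homogeneousComponent_of_mem (hd _)] at h
    let g : ↥s → R₀ := fun u =>
      (if d u ≤ d i then ⟨homogeneousComponent (d i - d u) (b u), hR _ (b u).2 _⟩ else 0) -
        (if d i = d u then algebraMap k R₀ (c u) else 0)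
    have hg : c i • (i : R₀) = ∑ u ∈ Finset.univ.erase i, g u * (u : R₀) := by
      refine Subtype.ext ?_
      have hz : homogeneousComponent (d i - d i) (b i : MvPolynomial ι k) = 0 := by
        rw [Nat.sub_self, homogeneousComponent_zero, ← constantCoeff_eq, (hp _).1 (hb i), map_zero]
      rw [← Finset.add_sum_erase _ _ (Finset.mem_univ i), ← Finset.add_sum_erase _ _ (Finset.mem_univ i),
        if_pos rfl, if_pos le_rfl, hz, zero_mul, zero_add, ← eq_sub_iff_add_eq, ← Finset.sum_sub_distrib] at h
      rw [AddSubmonoidClass.coe_finsetSum, SetLike.val_smul, h]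
      refine Finset.sum_congr rfl fun u _ => ?_
      simp only [g]
      split_ifs <;> simp [sub_mul, Algebra.smul_def]
    refine Nat.find_min hex (m := (s.erase (i : R₀)).card) (hcard ▸ Finset.card_erase_lt_of_mem i.2)
      ⟨_, rfl, fun u hu => hhom u (Finset.mem_of_mem_erase hu), hspan.trans (Ideal.span_le.2 fun u hu => ?_)⟩
    by_cases hui : u = (i : R₀)
    · subst hui
      rw [SetLike.mem_coe]
      suffices h : c i • (i : R₀) ∈ Ideal.span ((s.erase (i : R₀) : Finset R₀) : Set R₀) by
        simpa [smul_smul, hne] using Submodule.smul_of_tower_mem _ (c i)⁻¹ h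
      rw [hg]
      exact sum_mem fun v hv => Ideal.mul_mem_left _ _ (Ideal.subset_span
        (Finset.mem_erase.2 ⟨fun he => (Finset.mem_erase.1 hv).1 (Subtype.ext he), v.2⟩))
    · exact Ideal.subset_span (Finset.mem_erase.2 ⟨hui, hu⟩)
  -- relations are quadratic
  set P := idealOfVars ↥s k with hP
  haveI : P.IsPrime := by rw [hP, ← ker_originPt]; exact RingHom.ker_isPrime _
  have hφ0 : ∀ f, constantCoeff (φ f : MvPolynomial ι k) = constantCoeff f := by
    intro f
    have : ((originPt k ι).comp R₀.val).comp φ = originPt k ↥s := MvPolynomial.algHom_ext fun u => by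
      rw [AlgHom.comp_apply, aeval_X, AlgHom.comp_apply, originPt_apply (X u : MvPolynomial ↥s k), constantCoeff_X]
      exact hsp u
    rw [← originPt_apply f, ← DFunLike.congr_fun this f, AlgHom.comp_apply, AlgHom.comp_apply, originPt_apply]
    rfl
  have hPp : P = p.comap φ.toRingHom := by
    ext f
    rw [hP, mem_idealOfVars_iff_constantCoeff, Ideal.mem_comap, hp]
    exact ⟨fun h => (hφ0 f).trans h, fun h => (hφ0 f).symm.trans h⟩
  have hker : ∀ f, φ f = 0 → f ∈ P ^ 2 := by
    intro f hf
    have hf0 : constantCoeff f = 0 := by rw [← hφ0, hf]; simp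
    have h2 := sub_component_one_mem_sq hf0
    rw [ker_originPt, ← hP] at h2
    obtain ⟨c, hc⟩ := (Submodule.mem_span_range_iff_exists_fun k).1
      (homogeneousSubmodule_one_eq_span_X (σ := ↥s) (R := k) ▸ homogeneousComponent_isHomogeneous 1 f :
        homogeneousComponent 1 f ∈ Submodule.span k (Set.range (X : ↥s → MvPolynomial ↥s k)))
    have hm : φ (f - homogeneousComponent 1 f) ∈ p ^ 2 := by
      have h3 := Ideal.mem_map_of_mem φ.toRingHom h2
      rw [Ideal.map_pow, hPp] at h3
      exact Ideal.pow_right_mono Ideal.map_comap_le 2 h3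
    rw [map_sub, hf, zero_sub, neg_mem_iff, ← hc, map_sum] at hm
    simp only [map_smul, φ, aeval_X] at hm
    have hzero : homogeneousComponent 1 f = 0 := by
      rw [← hc]
      exact Finset.sum_eq_zero fun u _ => by rw [hind c hm u, zero_smul]
    rw [hzero, sub_zero] at h2
    exact h2
  -- comparison at the origin
  set L := Localization.AtPrime P
  set M := Localization.AtPrime p
  haveI : IsRegularLocalRing L := IsRegularRing.isRegularLocalRing_localization P
  let ψ : L →+* M := Localization.localRingHom P p φ.toRingHom hPp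
  have hψ : Function.Surjective ψ := by
    intro z
    obtain ⟨a, ⟨b, hb⟩, rfl⟩ := IsLocalization.exists_mk'_eq p.primeCompl z
    obtain ⟨a, rfl⟩ := hφ a
    obtain ⟨b, rfl⟩ := hφ b
    exact ⟨IsLocalization.mk' L a (⟨b, fun h => hb (show φ b ∈ p by rw [hPp] at h; exact h)⟩ : P.primeCompl), Localization.localRingHom_mk' P p _ hPp a _⟩
  haveI : IsRegularLocalRing (L ⧸ RingHom.ker ψ) :=
    IsRegularLocalRing.of_ringEquiv (R := M) (RingHom.quotientKerEquivOfSurjective hψ).symm
  have hJ : RingHom.ker ψ ≤ IsLocalRing.maximalIdeal L ^ 2 := by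
    intro z hz
    obtain ⟨a, ⟨b, hb⟩, rfl⟩ := IsLocalization.exists_mk'_eq P.primeCompl z
    rw [RingHom.mem_ker, Localization.localRingHom_mk', IsLocalization.mk'_eq_zero_iff] at hz
    obtain ⟨⟨t, ht⟩, hta⟩ := hz
    obtain ⟨t, rfl⟩ := hφ t
    have h := hker (t * a) (by rw [map_mul]; exact hta)
    have htu : IsUnit (algebraMap (MvPolynomial ↥s k) L t) :=
      IsLocalization.map_units L (⟨t, fun h' => ht (show φ t ∈ p by rw [hPp] at h'; exact h')⟩ : P.primeCompl)
    rw [IsLocalization.mk'_eq_mul_mk'_one]
    refine Ideal.mul_mem_right _ _ ((Ideal.unit_mul_mem_iff_mem _ htu).1 ?_)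
    rw [← map_mul, ← Localization.AtPrime.map_eq_maximalIdeal, ← Ideal.map_pow]
    exact Ideal.mem_map_of_mem _ h
  have hbot : RingHom.ker ψ = ⊥ := by
    refine Submodule.eq_bot_of_le_smul_of_le_jacobson_bot (IsLocalRing.maximalIdeal L) _
      (IsNoetherian.noetherian _) (fun z hz => ?_) (IsLocalRing.maximalIdeal_le_jacobson _)
    rw [smul_eq_mul, mul_comm]
    exact H02CA.inf_sq_le_mul_of_isRegularLocalRing _ ⟨hz, hJ hz⟩
  have hinj : Function.Injective φ := by
    rw [injective_iff_map_eq_zero]
    intro f hf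
    have : algebraMap (MvPolynomial ↥s k) L f ∈ RingHom.ker ψ := by
      rw [RingHom.mem_ker, Localization.localRingHom_to_map]
      simp [hf]
    rw [hbot, Ideal.mem_bot] at this
    exact IsLocalization.injective L (Ideal.primeCompl_le_nonZeroDivisors P) (this.trans (map_zero _).symm)
  exact ⟨s.card, ⟨(AlgEquiv.ofBijective φ ⟨hinj, hφ⟩).symm.trans (renameEquiv k s.equivFin)⟩⟩

end Graded

section Lin

variable {A : Type u} [CommRing A] [HopfAlgebra k A]
  [Comod k A (MvPolynomial ι k)] [GLin.IsCoactAlg k A (MvPolynomial ι k)]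

theorem isFixedPt_origin (hlin : GLin.IsLinear k A ι) : GLin.IsFixedPt k A (originPt k ι) := by
  refine MvPolynomial.algHom_ext fun i => ?_
  obtain ⟨m, hm⟩ := hlin i
  rw [AlgHom.comp_apply, originPt_apply, constantCoeff_X, map_zero]
  show Algebra.TensorProduct.lid k A (Algebra.TensorProduct.map (originPt k ι) (AlgHom.id k A)
    (Comod.coact (k := k) (A := A) (X i : MvPolynomial ι k))) = 0
  rw [hm, map_sum, map_sum]
  exact Finset.sum_eq_zero fun j _ => by simp [originPt]

variable [Module.Finite k A]

theorem isPseudoReflAt_origin (hlin : GLin.IsLinear k A ι) {I : Ideal A} (hI : GLin.IsPseudoRefl k A ι I) :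
    GLin.IsPseudoReflAt k A (MvPolynomial ι k) (originPt k ι) I := by
  obtain ⟨hH, hdim⟩ := hI
  refine ⟨hH, ?_⟩
  set x := originPt k ι
  set π := (Ideal.Quotient.mkₐ k (RingHom.ker x ^ 2)).toLinearMap
  have hπ : ∀ {f}, π f = 0 ↔ f ∈ RingHom.ker x ^ 2 := Ideal.Quotient.eq_zero_iff_mem
  have hm : ∀ f ∈ GLin.linForms k ι, f ∈ RingHom.ker x := fun f hf => by
    rw [RingHom.mem_ker, originPt_apply, constantCoeff_eq]
    exact (hf : f.IsHomogeneous 1).coeff_eq_zero (by simp)
  have hinj : ∀ (W : Submodule k (MvPolynomial ι k)), W ≤ GLin.linForms k ι →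
      Module.finrank k (W.map π) = Module.finrank k W := by
    intro W hW
    refine (LinearEquiv.finrank_eq (LinearEquiv.ofBijective (π.restrict (p := W) (q := W.map π)
      fun f hf => ⟨f, hf, rfl⟩) ⟨fun a b hab => ?_, fun ⟨_, f, hf, hfe⟩ => ⟨⟨f, hf⟩, Subtype.ext hfe⟩⟩)).symm
    refine Subtype.ext (sub_eq_zero.1 (eq_zero_of_linear_of_mem_sq
      ((GLin.linForms k ι).sub_mem (hW a.2) (hW b.2)) (hπ.1 ?_)))
    rw [map_sub, sub_eq_zero]
    exact congrArg Subtype.val hab
  have hL : GLin.cotSpace k (MvPolynomial ι k) x = (GLin.linForms k ι).map π := by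
    refine le_antisymm ?_ (Submodule.map_mono hm)
    rintro _ ⟨f, hf, rfl⟩
    refine ⟨_, homogeneousComponent_isHomogeneous 1 f, ?_⟩
    rw [eq_comm, ← sub_eq_zero, ← map_sub]
    exact hπ.2 (sub_component_one_mem_sq ((originPt_apply f).symm.trans hf))
  have hW : GLin.cotFixed k A (MvPolynomial ι k) x I =
      (GLin.linForms k ι ⊓ GLin.quotInvariants k A (MvPolynomial ι k) I).map π := by
    refine le_antisymm ?_ ?_
    · rintro _ ⟨f, ⟨hf, hff⟩, rfl⟩
      have hd : f - homogeneousComponent 1 f ∈ RingHom.ker x ^ 2 :=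
        sub_component_one_mem_sq ((originPt_apply f).symm.trans hf)
      refine ⟨homogeneousComponent 1 f, ⟨homogeneousComponent_isHomogeneous 1 f, ?_⟩, ?_⟩
      · refine sub_eq_zero.1 (eq_zero_of_forall_sliceR fun φ => ?_)
        have h := congrArg (sliceR φ) (show TensorProduct.map π (Ideal.Quotient.mkₐ k I).toLinearMap
          (Comod.coact (k := k) (A := A) f) = π f ⊗ₜ[k] (1 : A ⧸ I) from hff)
        rw [sliceR_tmul, ← LinearMap.rTensor_comp_lTensor, LinearMap.comp_apply, sliceR_rTensor, sliceR_lTensor,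
          ← actL_apply, ← map_smul, ← sub_eq_zero, ← map_sub, hπ] at h
        rw [map_sub, LinearMap.comp_apply, sliceR_lTensor, LinearMap.flip_apply, TensorProduct.mk_apply, ← actL_apply, sliceR_tmul]
        set ψ := φ ∘ₗ (Ideal.Quotient.mkₐ k I).toLinearMap
        refine eq_zero_of_linear_of_mem_sq ((GLin.linForms k ι).sub_mem
          (actL_isHomogeneous hlin ψ (homogeneousComponent_isHomogeneous 1 f))
          ((GLin.linForms k ι).smul_mem _ (homogeneousComponent_isHomogeneous 1 f))) ?_
        have hst := ((isStable_ker (isFixedPt_origin hlin)).pow 2) ψ _ hd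
        rw [map_sub] at hst
        rw [show actL ψ (homogeneousComponent 1 f) - φ 1 • homogeneousComponent 1 f =
          (actL ψ f - φ 1 • f) - (actL ψ f - actL ψ (homogeneousComponent 1 f)) +
            φ 1 • (f - homogeneousComponent 1 f) by rw [smul_sub]; abel]
        exact add_mem (sub_mem h hst) (Submodule.smul_of_tower_mem _ _ hd)
      · rw [eq_comm, ← sub_eq_zero, ← map_sub]
        exact hπ.2 hd
    · refine Submodule.map_mono fun f hf => ⟨hm f hf.1, ?_⟩
      show TensorProduct.map π _ (Comod.coact (k := k) (A := A) f) = π f ⊗ₜ[k] (1 : A ⧸ I)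
      rw [← LinearMap.rTensor_comp_lTensor, LinearMap.comp_apply,
        (GLin.mem_quotInvariants_iff k A (MvPolynomial ι k) I f).1 hf.2, LinearMap.rTensor_tmul]
  rw [hL, hW, hinj _ inf_le_left, hinj _ le_rfl]
  exact hdim

theorem isGenByPseudoReflAt_origin (hlin : GLin.IsLinear k A ι) (hgen : GLin.IsGenByPseudoRefl k A ι) :
    GLin.IsGenByPseudoReflAt k A (MvPolynomial ι k) (originPt k ι) := by
  refine le_bot_iff.1 (le_trans (sSup_le_sSup ?_) (le_of_eq hgen))
  exact fun J hJ => ⟨hJ.1, fun I hI => hJ.2 I (isPseudoReflAt_origin hlin hI)⟩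

theorem exists_invariants_algEquiv (hlr : IsLinearlyReductive k A)
    (hsub : ∀ (J : Ideal A) [J.IsHopfIdeal k], IsLinearlyReductive k (A ⧸ J))
    (hlin : GLin.IsLinear k A ι) (hgen : GLin.IsGenByPseudoRefl k A ι) :
    ∃ m : ℕ, Nonempty (↥(GLin.invariants k A (MvPolynomial ι k)) ≃ₐ[k] MvPolynomial (Fin m) k) := by
  haveI : Algebra.Smooth k (MvPolynomial ι k) := ⟨inferInstance, inferInstance⟩
  obtain ⟨α, hα, h1⟩ := exists_isIntegral_of_isLinearlyReductive hlr
  haveI : IsNoetherianRing (GLin.invariants k A (MvPolynomial ι k)) := isNoetherianRing_invariants hα h1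
  haveI : (RingHom.ker ((originPt k ι).comp (GLin.invariants k A (MvPolynomial ι k)).val)).IsPrime :=
    RingHom.ker_isPrime _
  haveI := isRegularLocalRing_invariants_at hlr hsub (originPt k ι) (isFixedPt_origin hlin)
    (isGenByPseudoReflAt_origin hlin hgen)
  exact exists_algEquiv_of_isRegularLocalRing _ fun f hf n => homogeneousComponent_mem_invariants hlin hf n

end Lin

end

end Groth.Agent.H20Comod
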