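import Groth.Agent.H20Comod.Invariants
import Groth.Prelude.Def_GLin
import Mathlib.AlgebraicGeometry.AffineScheme
import Mathlib.AlgebraicGeometry.Gluing
import Mathlib.AlgebraicGeometry.Pullbacks
import Mathlib.RingTheory.Spectrum.Prime.Topology
import Mathlib.RingTheory.Localization.Away.Basic

/-!
The spectrum of the invariants of a tame action is a categorical quotient in schemes.
-/

set_option autoImplicit false

universe u

open CategoryTheory CategoryTheory.Limits AlgebraicGeometry TensorProduct HopfRep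

namespace Groth.Agent.H20Comod.CatQuot

noncomputable section

section Retraction

variable {C B : Type u} [CommRing C] [CommRing B] [Algebra C B] (E : B →ₗ[C] C) (h1 : E 1 = 1)

/-- Base change of a retraction. -/
def retr (T : Type u) [CommRing T] [Algebra C T] : T ⊗[C] B →ₗ[C] T :=
  (TensorProduct.rid C T).toLinearMap ∘ₗ E.lTensor T

include h1 in
theorem injective_includeLeft (T : Type u) [CommRing T] [Algebra C T] :
    Function.Injective (Algebra.TensorProduct.includeLeftRingHom : T →+* T ⊗[C] B) :=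
  Function.HasLeftInverse.injective ⟨retr E T, fun t => by simp [retr, h1]⟩

include h1 in
theorem surjective_specMap :
    Function.Surjective (Spec.map (CommRingCat.ofHom (algebraMap C B))).base := by
  intro p
  obtain ⟨q, hqI, hq, hqc⟩ := (Ideal.exists_ideal_comap_le_prime (S := B) (f := algebraMap C B) p.asIdeal
    (p.asIdeal.map (algebraMap C B)) (fun c hc => by
      have key : ∀ b ∈ p.asIdeal.map (algebraMap C B), E b ∈ p.asIdeal := by
        let K : Ideal B :=
          { carrier := {b | ∀ r, E (r * b) ∈ p.asIdeal}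
            add_mem' := fun hx hy r => by rw [mul_add, map_add]; exact add_mem (hx r) (hy r)
            zero_mem' := fun r => by rw [mul_zero, map_zero]; exact zero_mem _
            smul_mem' := fun d x hx r => by rw [smul_eq_mul, ← mul_assoc]; exact hx (r * d) }
        have hK : p.asIdeal.map (algebraMap C B) ≤ K := Ideal.map_le_iff_le_comap.2 fun a ha r => by
          rw [mul_comm, ← Algebra.smul_def, map_smul, smul_eq_mul]
          exact Ideal.mul_mem_right _ _ ha
        intro b hb
        simpa using hK hb 1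
      have := key _ hc
      rwa [Algebra.algebraMap_eq_smul_one, map_smul, h1, smul_eq_mul, mul_one] at this))
  refine ⟨⟨q, hq⟩, PrimeSpectrum.ext ?_⟩
  exact le_antisymm hqc (Ideal.le_comap_of_map_le hqI)

include h1 in
theorem epi_specMap : Epi (Spec.map (CommRingCat.ofHom (algebraMap C B))) := by
  refine ⟨fun {Z} χ χ' h => ?_⟩
  have hb : ∀ y, χ y = χ' y := fun y => by
    obtain ⟨x, rfl⟩ := surjective_specMap E h1 y
    exact congrArg (fun m : Spec (CommRingCat.of B) ⟶ Z => m x) h
  have hloc : ∀ y : PrimeSpectrum C, ∃ (c : C) (U : Z.Opens), IsAffineOpen U ∧ c ∉ y.asIdeal ∧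
      ∀ y' : PrimeSpectrum C, c ∉ y'.asIdeal → χ y' ∈ U := by
    intro y
    obtain ⟨U, hU, hyU, -⟩ := exists_isAffineOpen_mem_and_subset (X := Z) (x := χ y) (U := ⊤) trivial
    obtain ⟨_, ⟨c, rfl⟩, hc, hcU⟩ := PrimeSpectrum.isTopologicalBasis_basic_opens.exists_subset_of_mem_open
      (u := {z : PrimeSpectrum C | χ z ∈ U}) hyU (U.isOpen.preimage χ.continuous)
    exact ⟨c, U, hU, hc, fun y' hy' => hcU hy'⟩
  choose c U hU hc hcU using hloc
  have hspan : Ideal.span (Set.range fun y => CommRingCat.ofHom (RingHom.id C) (c y)) = ⊤ := by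
    by_contra hne
    obtain ⟨M, hM, hle⟩ := Ideal.exists_le_maximal _ hne
    exact hc ⟨M, hM.isPrime⟩ (hle (Ideal.subset_span ⟨⟨M, hM.isPrime⟩, rfl⟩))
  refine (Scheme.affineOpenCoverOfSpanRangeEqTop (R := CommRingCat.of C) (fun y => c y) hspan).openCover.hom_ext _ _
    fun y => ?_
  change Spec.map (CommRingCat.ofHom (algebraMap C (Localization.Away (c y)))) ≫ χ =
    Spec.map (CommRingCat.ofHom (algebraMap C (Localization.Away (c y)))) ≫ χ'
  set j := Spec.map (CommRingCat.ofHom (algebraMap C (Localization.Away (c y)))) with hj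
  have hr : ∀ z, (j z : PrimeSpectrum C).asIdeal = Ideal.comap (algebraMap C (Localization.Away (c y))) z.asIdeal :=
    fun z => rfl
  have hrange : ∀ (f : Spec (CommRingCat.of C) ⟶ Z), (∀ y', f y' = χ y') →
      Set.range (j ≫ f) ⊆ Set.range (hU y).fromSpec := by
    rintro f hf _ ⟨z, rfl⟩
    rw [(hU y).range_fromSpec, Scheme.Hom.comp_apply, hf]
    refine hcU y _ fun hmem => ?_
    rw [hr, Ideal.mem_comap] at hmem
    exact z.isPrime.ne_top (Ideal.eq_top_of_isUnit_mem _ hmem
      (IsLocalization.Away.algebraMap_isUnit (S := Localization.Away (c y)) (c y)))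
  let l := IsOpenImmersion.lift (hU y).fromSpec (j ≫ χ) (hrange χ fun _ => rfl)
  let l' := IsOpenImmersion.lift (hU y).fromSpec (j ≫ χ') (hrange χ' fun y' => (hb y').symm)
  suffices hll : l = l' by
    rw [← IsOpenImmersion.lift_fac (hU y).fromSpec (j ≫ χ) (hrange χ fun _ => rfl),
      ← IsOpenImmersion.lift_fac (hU y).fromSpec (j ≫ χ') (hrange χ' fun y' => (hb y').symm)]
    exact congrArg (· ≫ (hU y).fromSpec) hll
  let κ := CommRingCat.ofHom
    (Algebra.TensorProduct.includeLeftRingHom : Localization.Away (c y) →+* Localization.Away (c y) ⊗[C] B)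
  let ρ := CommRingCat.ofHom
    ((Algebra.TensorProduct.includeRight : B →ₐ[C] Localization.Away (c y) ⊗[C] B).toRingHom)
  have hsq : Spec.map κ ≫ j = Spec.map ρ ≫ Spec.map (CommRingCat.ofHom (algebraMap C B)) := by
    rw [hj, ← Spec.map_comp, ← Spec.map_comp]
    congr 1
    ext a
    exact ((Algebra.TensorProduct.includeRight : B →ₐ[C] Localization.Away (c y) ⊗[C] B).commutes a).symm
  have hκ : Spec.map κ ≫ l = Spec.map κ ≫ l' := by
    rw [← cancel_mono (hU y).fromSpec, Category.assoc, Category.assoc, IsOpenImmersion.lift_fac,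
      IsOpenImmersion.lift_fac, reassoc_of% hsq, reassoc_of% hsq, h]
  rw [← Spec.map_preimage l, ← Spec.map_preimage l'] at hκ ⊢
  rw [← Spec.map_comp, ← Spec.map_comp] at hκ
  congr 1
  ext a
  exact injective_includeLeft E h1 _ (DFunLike.congr_fun (congrArg CommRingCat.Hom.hom (Spec.map_injective hκ)) a)

include h1 in
theorem epi_specMap_baseChange (T : Type u) [CommRing T] [Algebra C T] :
    Epi (Spec.map (CommRingCat.ofHom (algebraMap T (T ⊗[C] B)))) :=
  epi_specMap (C := T) (B := T ⊗[C] B)
    ((TensorProduct.AlgebraTensorModule.rid C T T).toLinearMap ∘ₗ TensorProduct.AlgebraTensorModule.lTensor T T E)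
    (by simp [Algebra.TensorProduct.one_def, h1])

variable (B) in
/-- The map between the localisations at an element of the base. -/
def locMap (c : C) : Localization.Away c →+* Localization.Away (algebraMap C B c) :=
  IsLocalization.Away.lift (S := Localization.Away c) c
    (g := (algebraMap B (Localization.Away (algebraMap C B c))).comp (algebraMap C B))
    (IsLocalization.Away.algebraMap_isUnit (algebraMap C B c))

theorem locMap_algebraMap (c a : C) :
    locMap B c (algebraMap C (Localization.Away c) a) =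
      algebraMap B (Localization.Away (algebraMap C B c)) (algebraMap C B a) :=
  IsLocalization.Away.lift_eq c _ a

theorem exists_lift_comp (T : Type u) [CommRing T] [Algebra C T] (c : C) (i : Localization.Away c →+* T)
    (hi : i.comp (algebraMap C _) = algebraMap C T) :
    ∃ w : Localization.Away (algebraMap C B c) →+* T ⊗[C] B, w.comp (locMap B c) = (algebraMap T (T ⊗[C] B)).comp i ∧
      w.comp (algebraMap B _) = (Algebra.TensorProduct.includeRight : B →ₐ[C] T ⊗[C] B).toRingHom := by
  set r := (Algebra.TensorProduct.includeRight : B →ₐ[C] T ⊗[C] B).toRingHom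
  have hr : ∀ z, r (algebraMap C B z) = algebraMap T (T ⊗[C] B) (i (algebraMap C _ z)) := fun z => by
    rw [← RingHom.comp_apply i, hi]
    exact ((Algebra.TensorProduct.includeRight : B →ₐ[C] T ⊗[C] B).commutes z).trans
      (IsScalarTower.algebraMap_apply C T (T ⊗[C] B) z)
  have hunit : IsUnit (r (algebraMap C B c)) := by
    rw [hr]
    exact ((IsLocalization.Away.algebraMap_isUnit (S := Localization.Away c) c).map i).map _
  refine ⟨IsLocalization.Away.lift (S := Localization.Away (algebraMap C B c)) (algebraMap C B c) hunit, ?_,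
    IsLocalization.Away.lift_comp _ hunit⟩
  refine IsLocalization.ringHom_ext (Submonoid.powers c) (RingHom.ext fun z => ?_)
  simp only [RingHom.comp_apply, locMap_algebraMap, IsLocalization.Away.lift_eq, hr]

theorem comp_locMap (c : C) :
    CommRingCat.ofHom (algebraMap C B) ≫ CommRingCat.ofHom (algebraMap B (Localization.Away (algebraMap C B c))) =
      CommRingCat.ofHom (algebraMap C (Localization.Away c)) ≫ CommRingCat.ofHom (locMap B c) := by
  ext z
  exact (locMap_algebraMap c z).symm

include h1 in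
theorem existsUnique_glue {Z : Scheme.{u}} (ψ : Spec (CommRingCat.of B) ⟶ Z) (S : Set C) (hspan : Ideal.span S = ⊤)
    (hloc : ∀ c ∈ S, ∃ ξ : Spec (CommRingCat.of (Localization.Away c)) ⟶ Z,
      Spec.map (CommRingCat.ofHom (locMap B c)) ≫ ξ =
        Spec.map (CommRingCat.ofHom (algebraMap B (Localization.Away (algebraMap C B c)))) ≫ ψ) :
    ∃! χ : Spec (CommRingCat.of C) ⟶ Z, Spec.map (CommRingCat.ofHom (algebraMap C B)) ≫ χ = ψ := by
  haveI := epi_specMap E h1
  have hspan' : Ideal.span (Set.range fun s : S => (s : C)) = ⊤ := by rw [Subtype.range_coe]; exact hspan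
  choose ξ hξ using fun s : S => hloc s.1 s.2
  let 𝒰 := (Scheme.affineOpenCoverOfSpanRangeEqTop (R := CommRingCat.of C) (fun s : S => (s : C)) hspan').openCover
  have hf : ∀ a b : S, pullback.fst (𝒰.f a) (𝒰.f b) ≫ ξ a = pullback.snd _ _ ≫ ξ b := by
    intro a b
    change pullback.fst (Spec.map (CommRingCat.ofHom (algebraMap _ (Localization.Away a.1))))
        (Spec.map (CommRingCat.ofHom (algebraMap _ (Localization.Away b.1)))) ≫ ξ a = pullback.snd _ _ ≫ ξ b
    rw [← cancel_epi (pullbackSpecIso _ _ _).inv, pullbackSpecIso_inv_fst_assoc, pullbackSpecIso_inv_snd_assoc]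
    haveI := epi_specMap_baseChange E h1 (Localization.Away a.1 ⊗[C] Localization.Away b.1)
    rw [← cancel_epi (Spec.map (CommRingCat.ofHom (algebraMap (Localization.Away a.1 ⊗[C] Localization.Away b.1)
      ((Localization.Away a.1 ⊗[C] Localization.Away b.1) ⊗[C] B))))]
    have key : ∀ (s : S) (i : Localization.Away s.1 →+* Localization.Away a.1 ⊗[C] Localization.Away b.1),
        i.comp (algebraMap C _) = algebraMap C _ →
          Spec.map (CommRingCat.ofHom (algebraMap _ ((Localization.Away a.1 ⊗[C] Localization.Away b.1) ⊗[C] B))) ≫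
            Spec.map (CommRingCat.ofHom i) ≫ ξ s =
          Spec.map (CommRingCat.ofHom (Algebra.TensorProduct.includeRight :
            B →ₐ[C] (Localization.Away a.1 ⊗[C] Localization.Away b.1) ⊗[C] B).toRingHom) ≫ ψ := by
      intro s i hi
      obtain ⟨w, hw, hw'⟩ := exists_lift_comp (B := B) _ s.1 i hi
      rw [← Spec.map_comp_assoc, ← CommRingCat.ofHom_comp, ← hw, CommRingCat.ofHom_comp, Spec.map_comp,
        Category.assoc, hξ, ← Spec.map_comp_assoc, ← CommRingCat.ofHom_comp, hw']
    rw [key a _ (RingHom.ext fun z => rfl),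
      key b _ (RingHom.ext fun z => (Algebra.TensorProduct.includeRight :
        Localization.Away b.1 →ₐ[C] Localization.Away a.1 ⊗[C] Localization.Away b.1).commutes z)]
  have hspanB : Ideal.span (Set.range fun s : S => algebraMap C B (s : C)) = ⊤ := by
    have := congrArg (Ideal.map (algebraMap C B)) hspan'
    rw [Ideal.map_span, Ideal.map_top, ← Set.range_comp] at this
    exact this
  have hglue : Spec.map (CommRingCat.ofHom (algebraMap C B)) ≫ 𝒰.glueMorphisms ξ hf = ψ := by
    refine (Scheme.affineOpenCoverOfSpanRangeEqTop (R := CommRingCat.of B)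
      (fun s : S => algebraMap C B (s : C)) hspanB).openCover.hom_ext _ _ fun (s : ↥S) => ?_
    change Spec.map (CommRingCat.ofHom (algebraMap B (Localization.Away (algebraMap C B s.1)))) ≫ _ =
      Spec.map (CommRingCat.ofHom (algebraMap B (Localization.Away (algebraMap C B s.1)))) ≫ _
    rw [← Spec.map_comp_assoc, comp_locMap, Spec.map_comp_assoc]
    exact (congrArg _ (𝒰.ι_glueMorphisms ξ hf s)).trans (hξ s)
  exact ⟨_, hglue, fun χ hχ => by
    rw [← cancel_epi (Spec.map (CommRingCat.ofHom (algebraMap C B))), hχ, hglue]⟩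

end Retraction

section Tame

variable {k : Type u} [CommRing k] {A : Type u} [CommRing A] [HopfAlgebra k A]
  {B : Type u} [CommRing B] [Algebra k B] [Comod k A B] [GLin.IsCoactAlg k A B]

local notation "C₀" => GLin.invariants k A B

/-- The Reynolds operator valued in the invariants. -/
def retraction {α : A →ₗ[k] B} (hα : Hoch.IsComodHom A α) : B →ₗ[GLin.invariants k A B] GLin.invariants k A B :=
  haveI := isHopfMod_self (k := k) (A := A) (B := B)
  { toFun := fun b => ⟨TameAct.reynolds k A B B α b, reynolds_mem_fixedPts hα b⟩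
    map_add' := fun x y => Subtype.ext (map_add _ x y)
    map_smul' := fun c x => Subtype.ext (reynolds_smul_of_fixed (M := B) α c.2 x) }

theorem retraction_one {α : A →ₗ[k] B} (hα : Hoch.IsComodHom A α) (h1 : α 1 = 1) :
    retraction hα (1 : B) = 1 :=
  haveI := isHopfMod_self (k := k) (A := A) (B := B)
  Subtype.ext (reynolds_eq_self (M := B) h1 (one_mem (GLin.invariants k A B)))

variable {Z : Scheme.{u}} (ψ : Spec (CommRingCat.of B) ⟶ Z)
  (hψ : Spec.map (CommRingCat.ofHom (GLin.coactAlgHom k A B).toRingHom) ≫ ψ =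
    Spec.map (CommRingCat.ofHom
      (Algebra.TensorProduct.includeLeftRingHom : B →+* TensorProduct k B A)) ≫ ψ)

include hψ in
theorem exists_invariant_cover {α : A →ₗ[k] B} (hα : Hoch.IsComodHom A α) (h1 : α 1 = 1) :
    Ideal.span {c : GLin.invariants k A B | ∃ U : Z.Opens, IsAffineOpen U ∧
      ∀ q : PrimeSpectrum B, (c : B) ∉ q.asIdeal → ψ q ∈ U} = ⊤ := by
  set S := {c : GLin.invariants k A B | ∃ U : Z.Opens, IsAffineOpen U ∧
    ∀ q : PrimeSpectrum B, (c : B) ∉ q.asIdeal → ψ q ∈ U}
  set E := retraction hα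
  let I : {U : Z.Opens // IsAffineOpen U} → Ideal B := fun U =>
    PrimeSpectrum.vanishingIdeal {q : PrimeSpectrum B | ψ q ∉ U.1}
  let π := fun U => Ideal.Quotient.mkₐ k (I U)
  let J : {U : Z.Opens // IsAffineOpen U} → Ideal B := fun U =>
    RingHom.ker ((Algebra.TensorProduct.map (π U) (AlgHom.id k A)).comp (GLin.coactAlgHom k A B))
  have hEJ : ∀ U, ∀ a ∈ J U, E a ∈ Ideal.span S := by
    intro U a ha
    refine Ideal.subset_span ⟨U.1, U.2, fun q hq => ?_⟩
    by_contra hqU
    refine hq ?_
    suffices h : (E a : B) ∈ I U from (PrimeSpectrum.mem_vanishingIdeal _ _).1 h q hqU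
    rw [← Ideal.Quotient.eq_zero_iff_mem]
    show π U (TameAct.reynolds k A B B α a) = 0
    haveI := isHopfMod_self (k := k) (A := A) (B := B)
    rw [reynolds_tmul_eq]
    have hz : ∀ z : B ⊗[k] A, π U (TensorProduct.lift
        (LinearMap.mk₂ k (fun x c => α (HopfAlgebra.antipode k c) • x)
          (fun x x' c => smul_add _ x x') (fun r x c => smul_comm _ r x)
          (fun x c c' => by rw [map_add, map_add, add_smul]) (fun r x c => by rw [map_smul, map_smul, smul_assoc])) z) =
        LinearMap.mul' k (B ⧸ I U) (TensorProduct.map LinearMap.id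
          ((π U).toLinearMap ∘ₗ α ∘ₗ HopfAlgebra.antipode k) (Algebra.TensorProduct.map (π U) (AlgHom.id k A) z)) := by
      intro z
      induction z using TensorProduct.induction_on with
      | zero => simp
      | tmul x c => simp [mul_comm]
      | add u v hu hv => simp only [map_add, hu, hv]
    rw [hz]
    rw [RingHom.mem_ker, AlgHom.comp_apply, GLin.coactAlgHom_apply] at ha
    rw [ha, map_zero, map_zero]
  have hsup : (⨆ U, J U) = ⊤ := by
    by_contra hne
    obtain ⟨M, hM, hle⟩ := Ideal.exists_le_maximal _ hne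
    obtain ⟨U, hU, hxU, -⟩ := exists_isAffineOpen_mem_and_subset (X := Z)
      (x := ψ (⟨M, hM.isPrime⟩ : PrimeSpectrum B)) (U := ⊤) trivial
    have hcl : IsClosed {q : PrimeSpectrum B | ψ q ∉ U} :=
      (U.isOpen.preimage ψ.continuous).isClosed_compl
    obtain ⟨f, hfI, hfM⟩ : ∃ f ∈ I ⟨U, hU⟩, f ∉ M := by
      by_contra h
      push Not at h
      have hmem : (⟨M, hM.isPrime⟩ : PrimeSpectrum B) ∈ closure {q : PrimeSpectrum B | ψ q ∉ U} := by
        rw [← PrimeSpectrum.zeroLocus_vanishingIdeal_eq_closure]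
        exact h
      rw [hcl.closure_eq] at hmem
      exact hmem hxU
    have hnil : IsNilpotent ((Algebra.TensorProduct.map (π ⟨U, hU⟩) (AlgHom.id k A)) (GLin.coactAlgHom k A B f)) := by
      rw [nilpotent_iff_mem_prime]
      intro P hP
      let P' : Ideal (B ⊗[k] A) := P.comap (Algebra.TensorProduct.map (π ⟨U, hU⟩) (AlgHom.id k A)).toRingHom
      haveI : P'.IsPrime := Ideal.IsPrime.comap _
      have h0 : ψ (Spec.map (CommRingCat.ofHom (Algebra.TensorProduct.includeLeftRingHom : B →+* B ⊗[k] A))
          (⟨P', inferInstance⟩ : PrimeSpectrum (B ⊗[k] A))) ∉ U := by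
        have hm : (Spec.map (CommRingCat.ofHom (Algebra.TensorProduct.includeLeftRingHom : B →+* B ⊗[k] A))
            (⟨P', inferInstance⟩ : PrimeSpectrum (B ⊗[k] A)) : PrimeSpectrum B) ∈
              closure {q : PrimeSpectrum B | ψ q ∉ U} := by
          rw [← PrimeSpectrum.zeroLocus_vanishingIdeal_eq_closure]
          intro b hb
          show Algebra.TensorProduct.map (π ⟨U, hU⟩) (AlgHom.id k A) (b ⊗ₜ[k] (1 : A)) ∈ P
          rw [Algebra.TensorProduct.map_tmul,
            show π ⟨U, hU⟩ b = 0 from Ideal.Quotient.eq_zero_iff_mem.2 hb, TensorProduct.zero_tmul]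
          exact zero_mem _
        rw [hcl.closure_eq] at hm
        exact hm
      rw [← Scheme.Hom.comp_apply, ← hψ, Scheme.Hom.comp_apply] at h0
      exact (PrimeSpectrum.mem_vanishingIdeal _ _).1 hfI _ h0
    obtain ⟨N, hN⟩ := hnil
    refine hfM (hM.isPrime.mem_of_pow_mem N (hle (Submodule.mem_iSup_of_mem (⟨U, hU⟩ : {U : Z.Opens // IsAffineOpen U}) ?_)))
    rw [RingHom.mem_ker, AlgHom.comp_apply, map_pow, map_pow]
    exact hN
  rw [Ideal.eq_top_iff_one, ← retraction_one hα h1]
  suffices key : ∀ z ∈ ⨆ U, J U, E z ∈ Ideal.span S from key 1 (hsup ▸ Submodule.mem_top)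
  intro z hz
  induction hz using Submodule.iSup_induction' with
  | mem U a ha => exact hEJ U a ha
  | zero => rw [map_zero]; exact zero_mem _
  | add a b _ _ ha hb => rw [map_add]; exact add_mem ha hb

include hψ in
theorem exists_local_desc (c : GLin.invariants k A B) (U : Z.Opens) (hU : IsAffineOpen U)
    (hcU : ∀ q : PrimeSpectrum B, (c : B) ∉ q.asIdeal → ψ q ∈ U) :
    ∃ ξ : Spec (CommRingCat.of (Localization.Away c)) ⟶ Z,
      Spec.map (CommRingCat.ofHom (locMap B c)) ≫ ξ =
        Spec.map (CommRingCat.ofHom (algebraMap B (Localization.Away (c : B)))) ≫ ψ := by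
  set Bc := Localization.Away (c : B)
  set j := Spec.map (CommRingCat.ofHom (algebraMap B Bc)) with hj
  have hrange : Set.range (j ≫ ψ) ⊆ Set.range hU.fromSpec := by
    rintro _ ⟨z, rfl⟩
    rw [hU.range_fromSpec, Scheme.Hom.comp_apply]
    refine hcU _ fun hmem => ?_
    exact z.isPrime.ne_top (Ideal.eq_top_of_isUnit_mem _ hmem (IsLocalization.Away.algebraMap_isUnit (S := Bc) (c : B)))
  set l := IsOpenImmersion.lift hU.fromSpec (j ≫ ψ) hrange
  let g := (Spec.preimage l).hom
  set ρ := (GLin.coactAlgHom k A B).toRingHom with hρ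
  set ι₀ := (Algebra.TensorProduct.includeLeftRingHom : B →+* B ⊗[k] A) with hι
  have hρc : ρ (c : B) = ι₀ (c : B) := c.2
  set T := Localization.Away (ι₀ (c : B))
  let fρ : Bc →+* T := IsLocalization.Away.lift (c : B) (g := (algebraMap _ T).comp ρ)
    (by rw [RingHom.comp_apply, hρc]; exact IsLocalization.Away.algebraMap_isUnit _)
  let fι : Bc →+* T := IsLocalization.Away.lift (c : B) (g := (algebraMap _ T).comp ι₀)
    (IsLocalization.Away.algebraMap_isUnit (S := T) (ι₀ (c : B)))
  have hsq : ∀ (f : Bc →+* T) (r : B →+* B ⊗[k] A), f.comp (algebraMap B Bc) = (algebraMap _ T).comp r →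
      Spec.map (CommRingCat.ofHom f) ≫ j ≫ ψ =
        Spec.map (CommRingCat.ofHom (algebraMap _ T)) ≫ Spec.map (CommRingCat.ofHom r) ≫ ψ := by
    intro f r h
    rw [hj, ← Spec.map_comp_assoc, ← Spec.map_comp_assoc, ← CommRingCat.ofHom_comp, ← CommRingCat.ofHom_comp, h]
  have hfeq : fρ.comp g = fι.comp g := by
    have h2 : Spec.map (CommRingCat.ofHom fρ) ≫ l = Spec.map (CommRingCat.ofHom fι) ≫ l := by
      rw [← cancel_mono hU.fromSpec, Category.assoc, Category.assoc, IsOpenImmersion.lift_fac,
        hsq fρ ρ (IsLocalization.Away.lift_comp (c : B) _), hsq fι ι₀ (IsLocalization.Away.lift_comp (c : B) _), hψ]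
    rw [← Spec.map_preimage l, ← Spec.map_comp, ← Spec.map_comp] at h2
    exact congrArg CommRingCat.Hom.hom (Spec.map_injective h2)
  have hlb : ∀ a : GLin.invariants k A B, locMap B c (algebraMap _ _ a) = algebraMap B Bc (a : B) :=
    IsLocalization.Away.lift_eq c _
  have hmem : ∀ u, g u ∈ (locMap B c).range := by
    intro u
    obtain ⟨b, ⟨_, n, rfl⟩, hbn⟩ := IsLocalization.exists_mk'_eq (Submonoid.powers (c : B)) (g u)
    have hspec : g u * algebraMap B Bc ((c : B) ^ n) = algebraMap B Bc b := by
      rw [← hbn]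
      exact IsLocalization.mk'_spec _ _ _
    have h3 : algebraMap (B ⊗[k] A) T (ρ b) = algebraMap (B ⊗[k] A) T (ι₀ b) := by
      have e1 : fρ (algebraMap B Bc b) = algebraMap _ T (ρ b) := IsLocalization.Away.lift_eq _ _ _
      have e2 : fι (algebraMap B Bc b) = algebraMap _ T (ι₀ b) := IsLocalization.Away.lift_eq _ _ _
      rw [← e1, ← e2, ← hspec, map_mul, map_mul, show fρ (g u) = fι (g u) from DFunLike.congr_fun hfeq u]
      congr 1
      rw [IsLocalization.Away.lift_eq, IsLocalization.Away.lift_eq]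
      simp only [RingHom.comp_apply, map_pow, hρc]
    obtain ⟨⟨_, m, rfl⟩, hm⟩ := IsLocalization.exists_of_eq (M := Submonoid.powers (ι₀ (c : B))) h3
    have hfix : (c : B) ^ m * b ∈ GLin.invariants k A B := by
      show ρ ((c : B) ^ m * b) = ι₀ ((c : B) ^ m * b)
      rw [map_mul, map_mul, map_pow, map_pow, hρc]
      exact hm
    refine ⟨IsLocalization.mk' _ (⟨_, hfix⟩ : GLin.invariants k A B)
      (⟨c ^ (n + m), n + m, rfl⟩ : Submonoid.powers c), ?_⟩
    have hu : IsUnit (algebraMap B Bc ((c : B) ^ (n + m))) := by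
      rw [map_pow]
      exact (IsLocalization.Away.algebraMap_isUnit (S := Bc) (c : B)).pow _
    apply hu.mul_right_cancel
    have e1 := congrArg (locMap B c) (IsLocalization.mk'_spec (Localization.Away c)
      (⟨_, hfix⟩ : GLin.invariants k A B) (⟨c ^ (n + m), n + m, rfl⟩ : Submonoid.powers c))
    rw [map_mul, hlb, hlb] at e1
    refine e1.trans ?_
    rw [map_mul, ← hspec, pow_add, map_mul]
    exact (mul_left_comm _ _ _).trans (congrArg _ (mul_comm _ _))
  let κ : Localization.Away c →+* Bc := locMap B c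
  have hκ : Function.Injective κ := by
    rw [injective_iff_map_eq_zero]
    intro z hz
    obtain ⟨a, ⟨_, n, rfl⟩, rfl⟩ := IsLocalization.exists_mk'_eq (Submonoid.powers c) z
    rw [IsLocalization.mk'_eq_zero_iff]
    have h0 : algebraMap B Bc (a : B) = algebraMap B Bc 0 := by
      rw [map_zero, ← hlb, ← IsLocalization.mk'_spec (Localization.Away c) a (⟨_, n, rfl⟩ : Submonoid.powers c),
        map_mul, show locMap B c _ = 0 from hz, zero_mul]
      try rfl
    obtain ⟨⟨_, m, rfl⟩, hm⟩ := IsLocalization.exists_of_eq (M := Submonoid.powers (c : B)) h0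
    rw [mul_zero] at hm
    exact ⟨⟨_, m, rfl⟩, Subtype.ext (by push_cast; exact hm)⟩
  let e : κ.range ≃+* Localization.Away c := (RingEquiv.ofBijective κ.rangeRestrict
    ⟨fun a b h => hκ (congrArg Subtype.val h), κ.rangeRestrict_surjective⟩).symm
  let g' : Γ(Z, U) →+* Localization.Away c := e.toRingHom.comp (g.codRestrict κ.range hmem)
  refine ⟨Spec.map (CommRingCat.ofHom g') ≫ hU.fromSpec, ?_⟩
  have hg' : κ.comp g' = g := RingHom.ext fun u =>
    congrArg Subtype.val ((RingEquiv.ofBijective κ.rangeRestrict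
      ⟨fun a b h => hκ (congrArg Subtype.val h), κ.rangeRestrict_surjective⟩).apply_symm_apply
        (g.codRestrict κ.range hmem u))
  rw [← Spec.map_comp_assoc, ← CommRingCat.ofHom_comp, show (locMap B c).comp g' = g from hg']
  exact (congrArg (· ≫ hU.fromSpec) (Spec.map_preimage l)).trans (IsOpenImmersion.lift_fac _ _ _)

include hψ in
theorem existsUnique_desc (htame : ∃ α : A →ₗ[k] B, Hoch.IsComodHom A α ∧ α 1 = 1) :
    ∃! χ : Spec (CommRingCat.of (GLin.invariants k A B)) ⟶ Z,
      Spec.map (CommRingCat.ofHom (algebraMap (GLin.invariants k A B) B)) ≫ χ = ψ := by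
  obtain ⟨α, hα, h1⟩ := htame
  exact existsUnique_glue (retraction hα) (retraction_one hα h1) ψ
    {c : GLin.invariants k A B | ∃ U : Z.Opens, IsAffineOpen U ∧ ∀ q : PrimeSpectrum B, (c : B) ∉ q.asIdeal → ψ q ∈ U}
    (exists_invariant_cover ψ hψ hα h1)
    fun c hc => exists_local_desc ψ hψ c hc.choose hc.choose_spec.1 hc.choose_spec.2

end Tame

end

end Groth.Agent.H20Comod.CatQuot
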