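import Groth.Agent.H20Comod.Reynolds
import Groth.Prelude.Def_ComodSub
import Mathlib.LinearAlgebra.Eigenspace.Triangularizable

/-!
Matrix coefficients: orthogonality relations under an invariant integral and characters.
-/

set_option autoImplicit false

universe u v w w' w₂ w₃

open TensorProduct HopfRep

namespace Groth.Agent.H20Comod

noncomputable section

section Mat

variable {k : Type u} [CommRing k] {A : Type v} [CommRing A] [HopfAlgebra k A]

/-- A multiplicative matrix. -/
structure IsMat {ι : Type w} [Fintype ι] [DecidableEq ι] (a : ι → ι → A) : Prop where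
  comul : ∀ i j, CoalgebraStruct.comul (R := k) (a i j) = ∑ l, a i l ⊗ₜ[k] a l j
  counit : ∀ i j, CoalgebraStruct.counit (R := k) (a i j) = if i = j then 1 else 0

variable {ι : Type w} [Fintype ι] [DecidableEq ι] {a : ι → ι → A}

theorem IsMat.mul_antipode (ha : IsMat (k := k) a) (r p : ι) :
    ∑ m, a r m * HopfAlgebra.antipode k (a m p) = if r = p then 1 else 0 := by
  have h := HopfAlgebra.mul_antipode_lTensor_comul_apply (R := k) (a r p)
  simpa [ha.comul, ha.counit] using h

theorem IsMat.antipode_mul (ha : IsMat (k := k) a) (r p : ι) :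
    ∑ m, HopfAlgebra.antipode k (a r m) * a m p = if r = p then 1 else 0 := by
  have h := HopfAlgebra.mul_antipode_rTensor_comul_apply (R := k) (a r p)
  simpa [ha.comul, ha.counit] using h

/-- Averaging matrix units gives intertwiners. -/
theorem inter {κ : Type w'} [Fintype κ] [DecidableEq κ] {b : κ → κ → A} {α : A →ₗ[k] k} (hα : IsIntegral α)
    (ha : IsMat (k := k) a) (hb : IsMat (k := k) b) (l r : ι) (i n : κ) :
    ∑ q, α (HopfAlgebra.antipode k (a r l) * b i q) • b q n =
      ∑ m, α (HopfAlgebra.antipode k (a m l) * b i n) • a r m := by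
  have hE : ∀ m, ∑ p, ∑ q, α (HopfAlgebra.antipode k (a p l) * b i q) • (HopfAlgebra.antipode k (a m p) * b q n) =
      α (HopfAlgebra.antipode k (a m l) * b i n) • (1 : A) := by
    intro m
    rw [← hα, Bialgebra.comul_mul, comul_antipode, ha.comul, hb.comul]
    simp only [map_sum, TensorProduct.comm_tmul, TensorProduct.map_tmul, Finset.sum_mul, Finset.mul_sum,
      Algebra.TensorProduct.tmul_mul_tmul, sliceL_tmul]
    first | rfl | exact Finset.sum_comm
  calc ∑ q, α (HopfAlgebra.antipode k (a r l) * b i q) • b q n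
      = ∑ p, ∑ q, α (HopfAlgebra.antipode k (a p l) * b i q) •
          ((∑ m, a r m * HopfAlgebra.antipode k (a m p)) * b q n) := by
        simp_rw [ha.mul_antipode]
        simp
    _ = ∑ m, a r m * ∑ p, ∑ q, α (HopfAlgebra.antipode k (a p l) * b i q) •
          (HopfAlgebra.antipode k (a m p) * b q n) := by
        simp only [Finset.mul_sum, Finset.sum_mul, Finset.smul_sum, mul_smul_comm, mul_assoc]
        conv_rhs => rw [Finset.sum_comm]
        exact Finset.sum_congr rfl fun _ _ => Finset.sum_comm
    _ = _ := by simp_rw [hE, mul_smul_comm, mul_one]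

variable {V : Type w'} [AddCommGroup V] [Module k V] [Comod k A V]

variable (A) in
/-- The coefficient matrix of a comodule in a basis. -/
def matB (e : Module.Basis ι k V) (i j : ι) : A :=
  sliceL (e.coord i) (Comod.coact (k := k) (A := A) (e j))

theorem isMat_matB (e : Module.Basis ι k V) : IsMat (k := k) (matB A e) :=
  ⟨fun i j => comul_coeff_basis e i j, fun i j => counit_coeff_basis e i j⟩

theorem coact_eq_matB (e : Module.Basis ι k V) (j : ι) :
    Comod.coact (k := k) (A := A) (e j) = ∑ i, e i ⊗ₜ[k] matB A e i j := coact_basis e j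

/-- The intertwiner attached to a pair of matrix units. -/
theorem exists_comodHom {κ : Type w₂} [Fintype κ] [DecidableEq κ] {W : Type w₃} [AddCommGroup W] [Module k W]
    [Comod k A W] (e : Module.Basis ι k V) (e' : Module.Basis κ k W) {α : A →ₗ[k] k} (hα : IsIntegral α)
    (l : ι) (i : κ) :
    ∃ f : W →ₗ[k] V, Hoch.IsComodHom A f ∧
      ∀ r q, e.coord r (f (e' q)) = α (HopfAlgebra.antipode k (matB A e r l) * matB A e' i q) := by
  let M : ι → κ → k := fun r q => α (HopfAlgebra.antipode k (matB A e r l) * matB A e' i q)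
  let f := e'.constr k fun q => ∑ r, M r q • e r
  have hf : ∀ q, f (e' q) = ∑ r, M r q • e r := fun q => e'.constr_basis k _ q
  refine ⟨f, e'.ext fun n => ?_, fun r q => ?_⟩
  · simp only [LinearMap.coe_comp, Function.comp_apply, hf, map_sum, map_smul, coact_eq_matB,
      LinearMap.rTensor_tmul, TensorProduct.sum_tmul, Finset.smul_sum, ← TensorProduct.smul_tmul',
      ← TensorProduct.tmul_smul]
    rw [Finset.sum_comm, Finset.sum_comm (s := Finset.univ (α := κ))]
    refine Finset.sum_congr rfl fun r _ => ?_
    rw [← TensorProduct.tmul_sum, ← TensorProduct.tmul_sum]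
    exact congrArg _ (inter hα (isMat_matB e) (isMat_matB e') l r i n).symm
  · show e.coord r (f (e' q)) = M r q
    simp [hf, Finsupp.single_apply]

end Mat

section Simple

variable {k : Type u} [Field k] {A : Type v} [CommRing A] [HopfAlgebra k A] {α : A →ₗ[k] k}
  {V : Type w'} {W : Type w₃} [AddCommGroup V] [Module k V] [Comod k A V] [AddCommGroup W] [Module k W] [Comod k A W]
  {ι : Type w} {κ : Type w₂} [Fintype ι] [DecidableEq ι] [Fintype κ] [DecidableEq κ]

/-- Coefficients of non-isomorphic simple comodules are orthogonal. -/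
theorem orth_zero (hα : IsIntegral α) (hV : IsSimpleComod k A V) (hW : IsSimpleComod k A W)
    (hne : ∀ P : W ≃ₗ[k] V, ¬ Hoch.IsComodHom A P.toLinearMap)
    (e : Module.Basis ι k V) (e' : Module.Basis κ k W) (r l : ι) (i q : κ) :
    α (HopfAlgebra.antipode k (matB A e r l) * matB A e' i q) = 0 := by
  obtain ⟨f, hf, hfc⟩ := exists_comodHom e e' hα l i
  rw [← hfc]
  rcases hW.2 _ (isSubcomod_ker hf) with h1 | h1
  · rcases hV.2 _ (isSubcomod_range hf) with h2 | h2
    · rw [LinearMap.range_eq_bot.1 h2]; simp
    · exact absurd (show Hoch.IsComodHom A (LinearEquiv.ofBijective f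
        ⟨LinearMap.ker_eq_bot.1 h1, LinearMap.range_eq_top.1 h2⟩).toLinearMap from hf) (hne _)
  · rw [LinearMap.ker_eq_top.1 h1]; simp

/-- Coefficients of a simple comodule over an algebraically closed field. -/
theorem orth_scalar [IsAlgClosed k] (hα : IsIntegral α) (h1 : α 1 = 1) (hV : IsSimpleComod k A V)
    (e : Module.Basis ι k V) (l i : ι) :
    ∃ c : k, (∀ r q, α (HopfAlgebra.antipode k (matB A e r l) * matB A e i q) = if r = q then c else 0) ∧
      (Fintype.card ι : k) * c = if i = l then 1 else 0 := by
  obtain ⟨f, hf, hfc⟩ := exists_comodHom e e hα l i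
  haveI := hV.1
  haveI : Module.Finite k V := Module.Finite.of_basis e
  obtain ⟨c, hc⟩ := Module.End.exists_eigenvalue f
  have hg : Hoch.IsComodHom A (f - c • LinearMap.id) := by
    apply LinearMap.ext
    intro v
    have h := LinearMap.congr_fun hf v
    simp only [LinearMap.coe_comp, Function.comp_apply] at h ⊢
    simp [LinearMap.rTensor_sub, LinearMap.rTensor_smul, h]
  have hker : LinearMap.ker (f - c • LinearMap.id) = ⊤ := by
    refine (hV.2 _ (isSubcomod_ker hg)).resolve_left fun h0 => ?_
    obtain ⟨v, hv⟩ := hc.exists_hasEigenvector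
    exact hv.2 ((Submodule.mem_bot k).1 (h0 ▸ LinearMap.mem_ker.2 (by simp [hv.apply_eq_smul])))
  have hfe : f = c • LinearMap.id := sub_eq_zero.1 (LinearMap.ker_eq_top.1 hker)
  have key : ∀ r q, α (HopfAlgebra.antipode k (matB A e r l) * matB A e i q) = if r = q then c else 0 := by
    intro r q
    rw [← hfc, hfe]
    simp [Finsupp.single_apply, eq_comm]
  refine ⟨c, key, ?_⟩
  have h2 : α (∑ r, matB A e i r * HopfAlgebra.antipode k (matB A e r l)) = (Fintype.card ι : k) * c := by
    rw [map_sum]
    simp only [mul_comm (matB A e i _), key, if_true]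
    simp
  rw [← h2, (isMat_matB e).mul_antipode]
  split_ifs <;> simp [h1]

end Simple

section Transport

variable {k : Type u} [CommRing k] {A : Type v} [CommRing A] [HopfAlgebra k A]

/-- A multiplicative matrix is a comodule structure on coordinate space. -/
theorem exists_comod_of_isMat {d : ℕ} {a : Fin d → Fin d → A} (ha : IsMat (k := k) a) :
    ∃ c : Comod k A (Fin d → k), ∀ j, c.coact (Pi.single j 1) = ∑ i, (Pi.single i (1 : k)) ⊗ₜ[k] a i j := by
  let ρ := (Pi.basisFun k (Fin d)).constr k fun j => ∑ i, (Pi.single i (1 : k) : Fin d → k) ⊗ₜ[k] a i j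
  have hρ : ∀ j, ρ (Pi.single j 1) = ∑ i, (Pi.single i (1 : k) : Fin d → k) ⊗ₜ[k] a i j := fun j => by
    have := (Pi.basisFun k (Fin d)).constr_basis k
      (fun j => ∑ i, (Pi.single i (1 : k) : Fin d → k) ⊗ₜ[k] a i j) j
    rwa [Pi.basisFun_apply] at this
  refine ⟨{ coact := ρ
            coassoc := (Pi.basisFun k (Fin d)).ext fun j => ?_
            counit_comp := (Pi.basisFun k (Fin d)).ext fun j => ?_ }, hρ⟩
  · simp only [Pi.basisFun_apply, LinearMap.coe_comp, Function.comp_apply, hρ, map_sum, LinearMap.rTensor_tmul,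
      LinearMap.lTensor_tmul, ha.comul, TensorProduct.tmul_sum, TensorProduct.sum_tmul, LinearEquiv.coe_coe,
      TensorProduct.assoc_tmul]
    exact Finset.sum_comm
  · simp only [Pi.basisFun_apply, LinearMap.coe_comp, Function.comp_apply, hρ, map_sum, LinearMap.lTensor_tmul,
      ha.counit]
    rw [Finset.sum_eq_single j (fun x _ hx => by simp [hx]) (fun h => absurd (Finset.mem_univ j) h)]
    simp

end Transport

end

end Groth.Agent.H20Comod
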