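import Groth.Agent.H20Comod.Characters
import Groth.Agent.H20Comod.Diag
import Groth.Agent.H20LRQ.Bridge
import Groth.Prelude.Def_CoactBr

/-!
Class functions on a linearly reductive group are combinations of characters.
-/

set_option autoImplicit false
set_option backward.isDefEq.respectTransparency false

universe u v w

open CategoryTheory MonoidalCategory CartesianMonoidalCategory MonObj AlgebraicGeometry TensorProduct HopfRep

namespace Groth.Agent.H20Comod

noncomputable section

section Alg

variable (k : Type u) [Field k] (A : Type v) [CommRing A] [HopfAlgebra k A]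

/-- The character of a comodule structure on coordinate space. -/
def charOf {d : ℕ} (c : Comod k A (Fin d → k)) : A :=
  ∑ i : Fin d, TensorProduct.lid k A (LinearMap.rTensor A (LinearMap.proj i) (c.coact (Pi.single i 1)))

/-- All characters. -/
def charSet : Set A := Set.range fun p : (Σ d : ℕ, Comod k A (Fin d → k)) => charOf k A p.2

/-- `f ↦ f (x g x⁻¹)` on the universal pair. -/
def conjHom : A →ₐ[k] A ⊗[k] A :=
  (Algebra.TensorProduct.lift
    ((Algebra.TensorProduct.lift (Algebra.TensorProduct.includeLeft : A →ₐ[k] A ⊗[k] A)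
      Algebra.TensorProduct.includeRight fun _ _ => .all _ _).comp (Bialgebra.comulAlgHom k A))
    ((Algebra.TensorProduct.includeLeft : A →ₐ[k] A ⊗[k] A).comp (HopfAlgebra.antipodeAlgHom k A))
    fun _ _ => .all _ _).comp (Bialgebra.comulAlgHom k A)

variable {k A}

theorem conjHom_apply_mat {J : Type w} [Fintype J] [DecidableEq J] {a : J → J → A} (ha : IsMat (k := k) a) (i j : J) :
    conjHom k A (a i j) = ∑ q, ∑ p, (a i p * HopfAlgebra.antipode k (a q j)) ⊗ₜ[k] a p q := by
  simp [conjHom, ha.comul, Finset.sum_mul, Algebra.TensorProduct.tmul_mul_tmul]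

theorem charOf_eq {d : ℕ} (c : Comod k A (Fin d → k)) :
    letI := c
    charOf k A c = ∑ i, matB A (Pi.basisFun k (Fin d)) i i := by
  letI := c
  refine Finset.sum_congr rfl fun i _ => ?_
  have h : (Pi.basisFun k (Fin d)).coord i = LinearMap.proj i := LinearMap.ext fun x => rfl
  rw [matB, h, Pi.basisFun_apply]
  rfl

/-- Characters are class functions. -/
theorem conjHom_chi {J : Type w} [Fintype J] [DecidableEq J] {a : J → J → A} (ha : IsMat (k := k) a) :
    conjHom k A (∑ i, a i i) = 1 ⊗ₜ[k] ∑ i, a i i := by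
  have h : ∀ q p, (∑ i, a i p * HopfAlgebra.antipode k (a q i)) = if q = p then 1 else 0 := fun q p => by
    rw [← ha.antipode_mul q p]
    exact Finset.sum_congr rfl fun i _ => mul_comm _ _
  simp only [map_sum, conjHom_apply_mat ha]
  rw [Finset.sum_comm, TensorProduct.tmul_sum]
  refine Finset.sum_congr rfl fun q _ => ?_
  rw [Finset.sum_comm]
  simp only [← TensorProduct.sum_tmul, h]
  rw [Finset.sum_eq_single q (fun x _ hx => by simp [hx.symm]) (fun h => absurd (Finset.mem_univ q) h)]
  simp

theorem conjHom_charOf {d : ℕ} (c : Comod k A (Fin d → k)) :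
    conjHom k A (charOf k A c) = 1 ⊗ₜ[k] charOf k A c := by
  letI := c
  rw [charOf_eq]
  exact conjHom_chi (isMat_matB _)

theorem conjHom_of_mem_span {f : A} (hf : f ∈ Submodule.span k (charSet k A)) :
    conjHom k A f = 1 ⊗ₜ[k] f := by
  induction hf using Submodule.span_induction with
  | mem x hx => obtain ⟨p, rfl⟩ := hx; exact conjHom_charOf p.2
  | zero => simp
  | add x y _ _ hx hy => rw [map_add, hx, hy, TensorProduct.tmul_add]
  | smul c x _ hx => rw [map_smul, hx, TensorProduct.tmul_smul]

/-- The projection to class functions. -/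
def classProj (α : A →ₗ[k] k) : A →ₗ[k] A := sliceL α ∘ₗ (conjHom k A).toLinearMap

theorem classProj_eq_self {α : A →ₗ[k] k} (h1 : α 1 = 1) {f : A} (hf : conjHom k A f = 1 ⊗ₜ[k] f) :
    classProj α f = f := by
  show sliceL α (conjHom k A f) = f
  rw [hf, sliceL_tmul, h1, one_smul]

theorem classProj_mat_mem [IsAlgClosed k] {α : A →ₗ[k] k} (hα : IsIntegral α) (h1 : α 1 = 1)
    {V : Type w} [AddCommGroup V] [Module k V] [Comod k A V] (hV : IsSimpleComod k A V) {d : ℕ}
    (e : Module.Basis (Fin d) k V) (i j : Fin d) :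
    classProj α (matB A e i j) ∈ Submodule.span k (charSet k A) := by
  obtain ⟨c, hc, -⟩ := orth_scalar hα h1 hV e j i
  obtain ⟨C, hC⟩ := exists_comod_of_isMat (isMat_matB (A := A) e)
  have hch : charOf k A C = ∑ p, matB A e p p := by
    refine Finset.sum_congr rfl fun p _ => ?_
    rw [hC, map_sum, map_sum]
    rw [Finset.sum_eq_single p (fun x _ hx => by simp [hx.symm]) (fun h => absurd (Finset.mem_univ p) h)]
    simp
  have h : classProj α (matB A e i j) = c • ∑ p, matB A e p p := by
    show sliceL α (conjHom k A (matB A e i j)) = _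
    rw [conjHom_apply_mat (isMat_matB e), Finset.smul_sum]
    simp only [map_sum, sliceL_tmul, mul_comm (matB A e i _), hc]
    refine Finset.sum_congr rfl fun q _ => ?_
    simp [Finset.sum_ite_eq, ite_smul, zero_smul]
  rw [h, ← hch]
  exact Submodule.smul_mem _ _ (Submodule.subset_span ⟨⟨d, C⟩, rfl⟩)

/-- Matrix coefficients of the regular comodule. -/
theorem classProj_mem_of_finite [IsAlgClosed k] (hlr : IsLinearlyReductive k A) {α : A →ₗ[k] k}
    (hα : IsIntegral α) (h1 : α 1 = 1) : ∀ (n : ℕ) (W : Submodule k A), IsSubcomod (k := k) (A := A) W →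
      Module.Finite k W → Module.finrank k W ≤ n → ∀ x ∈ W, classProj α x ∈ Submodule.span k (charSet k A) := by
  intro n
  induction n with
  | zero =>
    intro W _ hfin hle x hx
    haveI := hfin
    rw [Submodule.finrank_eq_zero.1 (Nat.le_zero.1 hle)] at hx
    rw [(Submodule.mem_bot k).1 hx, map_zero]
    exact zero_mem _
  | succ n ih =>
    intro W hW hfin hle x hx
    haveI := hfin
    letI := ComodSub.Comod.restr inferInstance W hW
    by_cases hs : ∀ U : Submodule k W, IsSubcomod (k := k) (A := A) U → U = ⊥ ∨ U = ⊤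
    · rcases subsingleton_or_nontrivial W with h0 | h0
      · rw [show x = 0 from congrArg Subtype.val (Subsingleton.elim (⟨x, hx⟩ : W) 0), map_zero]
        exact zero_mem _
      let e := Module.finBasis k W
      have hx' : ∀ j, (e j : A) = ∑ i, CoalgebraStruct.counit (R := k) (e i : A) • matB A e i j := fun j => by
        have h := congrArg (sliceL (CoalgebraStruct.counit (R := k) (A := A)))
          (ComodSub.restr_coact_coe (inferInstance : Comod k A A) W hW (e j))
        rw [coact_eq_matB] at h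
        simp only [map_sum, LinearMap.rTensor_tmul, sliceL_tmul] at h
        refine Eq.trans ?_ h.symm
        show (e j : A) = TensorProduct.lid k A ((CoalgebraStruct.counit (R := k)).rTensor A
          (CoalgebraStruct.comul (R := k) (e j : A)))
        rw [Coalgebra.rTensor_counit_comul]
        simp
      have hmem : ∀ y : W, classProj α (y : A) ∈ Submodule.span k (charSet k A) := by
        intro y
        rw [← e.sum_repr y]
        rw [AddSubmonoidClass.coe_finset_sum, map_sum]
        refine Submodule.sum_mem _ fun j _ => ?_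
        rw [Submodule.coe_smul, map_smul, hx' j, map_sum]
        refine Submodule.smul_mem _ _ (Submodule.sum_mem _ fun i _ => ?_)
        rw [map_smul]
        exact Submodule.smul_mem _ _ (classProj_mat_mem hα h1 ⟨h0, hs⟩ e i j)
      exact hmem ⟨x, hx⟩
    · push Not at hs
      obtain ⟨U, hU, hb, ht⟩ := hs
      obtain ⟨U', hU', hc⟩ := hlr W hfin U hU
      have hsub : ∀ U₁ : Submodule k W, IsSubcomod (k := k) (A := A) U₁ →
          IsSubcomod (k := k) (A := A) (U₁.map W.subtype) := by
        intro U₁ h₁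
        rw [isSubcomod_iff_forall_actL] at h₁ ⊢
        rintro _ ⟨y, hy, rfl⟩ φ
        exact ⟨_, h₁ y hy φ, coe_actL_restr (inferInstance : Comod k A A) W hW φ y⟩
      have hlt : ∀ U₁ : Submodule k W, U₁ ≠ ⊤ → Module.finrank k (U₁.map W.subtype) ≤ n := by
        intro U₁ h₁
        rw [Submodule.finrank_map_subtype_eq]
        have := Submodule.finrank_lt h₁
        omega
      have ht' : U' ≠ ⊤ := fun h => hb (by
        have := hc.1.eq_bot; rwa [h, inf_top_eq] at this)
      obtain ⟨p, hp, q, hq, hpq⟩ := Submodule.mem_sup.1 (hc.2.eq_top.ge (Submodule.mem_top (x := (⟨x, hx⟩ : W))))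
      rw [show x = (p : A) + q from (congrArg Subtype.val hpq).symm, map_add]
      exact add_mem (ih _ (hsub U hU) inferInstance (hlt U ht) _ ⟨p, hp, rfl⟩)
        (ih _ (hsub U' hU') inferInstance (hlt U' ht') _ ⟨q, hq, rfl⟩)

theorem mem_span_of_conjHom [IsAlgClosed k] (hlr : IsLinearlyReductive k A) {α : A →ₗ[k] k}
    (hα : IsIntegral α) (h1 : α 1 = 1) {f : A} (hf : conjHom k A f = 1 ⊗ₜ[k] f) :
    f ∈ Submodule.span k (charSet k A) := by
  obtain ⟨W, hfin, hsub, hW⟩ := exists_finite_subcomod (k := k) (A := A) (V := A) (Set.finite_singleton f)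
  rw [← classProj_eq_self h1 hf]
  exact classProj_mem_of_finite hlr hα h1 _ W hW hfin le_rfl f (hsub rfl)

/-- Orthogonality of simple characters. -/
theorem char_orth [IsAlgClosed k] {α : A →ₗ[k] k} (hα : IsIntegral α) (h1 : α 1 = 1) {d d' : ℕ}
    (c : Comod k A (Fin d → k)) (c' : Comod k A (Fin d' → k))
    (hs : @IsSimpleComod k A _ _ _ _ (Fin d → k) _ _ c) (hs' : @IsSimpleComod k A _ _ _ _ (Fin d' → k) _ _ c') :
    (∀ P : (Fin d' → k) ≃ₗ[k] (Fin d → k),
        c.coact ∘ₗ P.toLinearMap ≠ P.toLinearMap.rTensor A ∘ₗ c'.coact) →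
      α (HopfAlgebra.antipode k (charOf k A c) * charOf k A c') = 0 := by
  intro hne
  letI := c
  letI := c'
  rw [charOf_eq, charOf_eq, map_sum, Finset.sum_mul_sum, map_sum]
  refine Finset.sum_eq_zero fun r _ => ?_
  rw [map_sum]
  exact Finset.sum_eq_zero fun s _ => orth_zero hα hs hs' hne _ _ r r s s

theorem char_norm [IsAlgClosed k] {α : A →ₗ[k] k} (hα : IsIntegral α) (h1 : α 1 = 1) {d : ℕ}
    (c : Comod k A (Fin d → k)) (hs : @IsSimpleComod k A _ _ _ _ (Fin d → k) _ _ c) :
    α (HopfAlgebra.antipode k (charOf k A c) * charOf k A c) = 1 := by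
  letI := c
  rw [charOf_eq, map_sum, Finset.sum_mul_sum, map_sum]
  simp only [map_sum]
  obtain ⟨c₀, hc₀⟩ : ∃ c₀ : k, (Fintype.card (Fin d) : k) * c₀ = 1 := by
    haveI := hs.1
    obtain ⟨r⟩ : Nonempty (Fin d) := by
      by_contra h
      haveI := not_nonempty_iff.1 h
      exact not_subsingleton (Fin d → k) inferInstance
    obtain ⟨c₁, -, hc₁⟩ := orth_scalar hα h1 hs (Pi.basisFun k (Fin d)) r r
    exact ⟨c₁, by simpa using hc₁⟩
  have hd : (Fintype.card (Fin d) : k) ≠ 0 := left_ne_zero_of_mul_eq_one hc₀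
  have hrs : ∀ r s, α (HopfAlgebra.antipode k (matB A (Pi.basisFun k (Fin d)) r r) *
      matB A (Pi.basisFun k (Fin d)) s s) = if r = s then c₀ else 0 := by
    intro r s
    obtain ⟨c₁, h₁, h₂⟩ := orth_scalar hα h1 hs (Pi.basisFun k (Fin d)) r s
    rw [h₁]
    split_ifs with h
    · subst h
      exact mul_left_cancel₀ hd (h₂.trans (by rw [if_pos rfl, hc₀]))
    · rfl
  simpa [hrs] using hc₀

end Alg

section Points

variable {k : Type u} [Field k] {A : Type u} [CommRing A] [HopfAlgebra k A]

theorem pt_conjHom :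
    CoactBr.pt (Algebra.TensorProduct.includeLeft : A →ₐ[k] A ⊗[k] A) *
        CoactBr.pt Algebra.TensorProduct.includeRight *
      (CoactBr.pt (Algebra.TensorProduct.includeLeft : A →ₐ[k] A ⊗[k] A))⁻¹ = CoactBr.pt (conjHom k A) := by
  rw [CoactBr.pt_mul_pt, CoactBr.pt_inv, CoactBr.pt_mul_pt]
  rfl

/-- Invariance under conjugation at all points. -/
theorem forall_conj_iff (f : A) :
    (∀ (T : Over (Spec (CommRingCat.of k))) (x g : T ⟶ CoactBr.sp k A),
        (x * g * x⁻¹).left.appTop ((Scheme.ΓSpecIso (CommRingCat.of A)).inv f) =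
          g.left.appTop ((Scheme.ΓSpecIso (CommRingCat.of A)).inv f)) ↔
      conjHom k A f = 1 ⊗ₜ[k] f := by
  have hnat : ∀ {C : Type u} [CommRing C] [Algebra k C] (φ : A →ₐ[k] C) (a : A),
      (CoactBr.pt φ).left.appTop ((Scheme.ΓSpecIso (CommRingCat.of A)).inv a) =
        (Scheme.ΓSpecIso (CommRingCat.of C)).inv (φ a) := fun φ a =>
    (ConcreteCategory.congr_hom (Scheme.ΓSpecIso_inv_naturality (CommRingCat.ofHom φ.toRingHom)) a).symm
  constructor
  · intro h
    have := h _ (CoactBr.pt (Algebra.TensorProduct.includeLeft : A →ₐ[k] A ⊗[k] A))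
      (CoactBr.pt Algebra.TensorProduct.includeRight)
    rw [pt_conjHom, hnat, hnat] at this
    exact (ConcreteCategory.bijective_of_isIso (Scheme.ΓSpecIso (CommRingCat.of (A ⊗[k] A))).inv).1 this
  · intro h T x g
    haveI := H20LRQ.isIso_univPair (k := k) (A := A) (B := A)
    let w := lift x g ≫ inv (H20LRQ.univPair k A A)
    have hw : w ≫ H20LRQ.univPair k A A = lift x g := by simp [w]
    have hx : x = w ≫ CoactBr.pt (Algebra.TensorProduct.includeLeft : A →ₐ[k] A ⊗[k] A) := by
      rw [show CoactBr.pt (Algebra.TensorProduct.includeLeft : A →ₐ[k] A ⊗[k] A) =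
        H20LRQ.univPair k A A ≫ fst _ _ from (lift_fst _ _).symm, reassoc_of% hw, lift_fst]
    have hg : g = w ≫ CoactBr.pt (Algebra.TensorProduct.includeRight : A →ₐ[k] A ⊗[k] A) := by
      rw [show CoactBr.pt (Algebra.TensorProduct.includeRight : A →ₐ[k] A ⊗[k] A) =
        H20LRQ.univPair k A A ≫ snd _ _ from (lift_snd _ _).symm, reassoc_of% hw, lift_snd]
    have he : x * g * x⁻¹ = w ≫ CoactBr.pt (conjHom k A) := by
      rw [hx, hg, ← GrpObj.comp_inv, ← MonObj.comp_mul, ← MonObj.comp_mul, pt_conjHom]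
    rw [he, hg, Over.comp_left, Over.comp_left, Scheme.Hom.comp_appTop, Scheme.Hom.comp_appTop]
    show w.left.appTop ((CoactBr.pt (conjHom k A)).left.appTop _) =
      w.left.appTop ((CoactBr.pt Algebra.TensorProduct.includeRight).left.appTop _)
    rw [hnat, hnat, h]
    rfl

end Points

end

end Groth.Agent.H20Comod
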