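import Groth.Agent.H20Comod.Basic
import Groth.Prelude.Def_Hoch

/-!
Functoriality of the cochain complex of a comodule and the contracting homotopy of an induced comodule.
-/

set_option autoImplicit false

universe u v w

open TensorProduct HopfRep

namespace Groth.Agent.H20Comod

noncomputable section

variable {k : Type u} [CommRing k] {A : Type v} [Ring A] [Bialgebra k A]

theorem tail_naturality {M N : Type v} [AddCommGroup M] [Module k M] [AddCommGroup N] [Module k N]
    (f : M →ₗ[k] N) (x : M ⊗[k] A) :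
    Hoch.tail k A N (f.rTensor A x) = (f.rTensor A).rTensor A (Hoch.tail k A M x) := by
  induction x using TensorProduct.induction_on with
  | zero => simp
  | tmul m a =>
    rw [LinearMap.rTensor_tmul, Hoch.tail_tmul, Hoch.tail_tmul]
    generalize Coalgebra.comul (R := k) a - a ⊗ₜ[k] (1 : A) - (1 : A) ⊗ₜ[k] a = z
    induction z using TensorProduct.induction_on with
    | zero => simp
    | tmul p q => simp
    | add u v hu hv => simp only [TensorProduct.tmul_add, map_add, hu, hv]
  | add x y hx hy => simp only [map_add, hx, hy]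

section Map

variable {V W : Type v} [AddCommGroup V] [Module k V] [Comod k A V] [AddCommGroup W] [Module k W] [Comod k A W]

/-- The map of cochains induced by a linear map. -/
def cochainMap (f : V →ₗ[k] W) : (n : ℕ) → ((Hoch.cochain k A V n : Type v) →ₗ[k] (Hoch.cochain k A W n : Type v))
  | 0 => f
  | n + 1 => (cochainMap f n).rTensor A

theorem d_cochainMap {f : V →ₗ[k] W} (hf : Hoch.IsComodHom A f) : ∀ (n : ℕ) (x : (Hoch.cochain k A V n : Type v)),
    Hoch.d k A W n (cochainMap f n x) = cochainMap f (n + 1) (Hoch.d k A V n x)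
  | 0, x => by
    show Comod.coact (k := k) (A := A) (f x) - f x ⊗ₜ[k] (1 : A) =
      f.rTensor A (Comod.coact (k := k) (A := A) x - x ⊗ₜ[k] (1 : A))
    rw [map_sub, LinearMap.rTensor_tmul,
      show Comod.coact (k := k) (A := A) (f x) = f.rTensor A (Comod.coact (k := k) (A := A) x) from
        LinearMap.congr_fun hf x]
  | n + 1, x => by
    have ih : Hoch.d k A W n ∘ₗ cochainMap f n = (cochainMap f n).rTensor A ∘ₗ Hoch.d k A V n :=
      LinearMap.ext fun y => d_cochainMap hf n y
    show (Hoch.d k A W n).rTensor A ((cochainMap f n).rTensor A x) +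
        ((-1 : k) ^ (n + 1)) • Hoch.tail k A _ ((cochainMap f n).rTensor A x) =
      ((cochainMap f n).rTensor A).rTensor A
        ((Hoch.d k A V n).rTensor A x + ((-1 : k) ^ (n + 1)) • Hoch.tail k A _ x)
    rw [map_add, map_smul, ← tail_naturality, ← LinearMap.rTensor_comp_apply, ih, LinearMap.rTensor_comp_apply]

theorem cochainMap_comp_of_retraction {f : V →ₗ[k] W} {g : W →ₗ[k] V} (h : ∀ x, g (f x) = x) :
    ∀ (n : ℕ) (x : (Hoch.cochain k A V n : Type v)), cochainMap g n (cochainMap f n x) = x
  | 0, x => h x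
  | n + 1, x => by
    show (cochainMap g n).rTensor A ((cochainMap f n).rTensor A x) = x
    rw [← LinearMap.rTensor_comp_apply,
      show cochainMap g n ∘ₗ cochainMap f n = LinearMap.id from
        LinearMap.ext (cochainMap_comp_of_retraction h n), LinearMap.rTensor_id, LinearMap.id_apply]

theorem cochainMap_injective [Module.Flat k A] {f : V →ₗ[k] W} (h : Function.Injective f) :
    ∀ n : ℕ, Function.Injective (cochainMap (A := A) f n)
  | 0 => h
  | n + 1 => Module.Flat.rTensor_preserves_injective_linearMap _ (cochainMap_injective h n)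

theorem cocycles_le_coboundaries_of_retract (f : V →ₗ[k] W) (g : W →ₗ[k] V) (hf : Hoch.IsComodHom A f)
    (hg : Hoch.IsComodHom A g) (h : ∀ x, g (f x) = x) (n : ℕ)
    (hW : Hoch.cocycles k A W (n + 1) ≤ Hoch.coboundaries k A W (n + 1)) :
    Hoch.cocycles k A V (n + 1) ≤ Hoch.coboundaries k A V (n + 1) := by
  intro z hz
  have hz' : cochainMap f (n + 1) z ∈ Hoch.cocycles k A W (n + 1) := by
    show Hoch.d k A W (n + 1) _ = 0
    rw [d_cochainMap hf, show Hoch.d k A V (n + 1) z = 0 from hz, map_zero]
  obtain ⟨y, hy⟩ := hW hz'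
  refine ⟨cochainMap g n y, ?_⟩
  rw [d_cochainMap hg, hy, cochainMap_comp_of_retraction h]

end Map

section Low

variable {V : Type v} [AddCommGroup V] [Module k V] [Comod k A V]

theorem d_one_d_zero (v : V) : Hoch.d k A V 1 (Hoch.d k A V 0 v) = 0 := by
  show (Hoch.d k A V 0).rTensor A (Comod.coact (k := k) (A := A) v - v ⊗ₜ[k] (1 : A)) +
    ((-1 : k) ^ (0 + 1)) • Hoch.tail k A V (Comod.coact (k := k) (A := A) v - v ⊗ₜ[k] (1 : A)) = 0
  have hco := LinearMap.congr_fun (Comod.coassoc (k := k) (A := A) (V := V)) v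
  simp only [LinearMap.coe_comp, Function.comp_apply, LinearEquiv.coe_coe] at hco
  have e1 : ∀ y : (V ⊗[k] A) ⊗[k] A, ((-1 : k) ^ (0 + 1)) • y = -y := fun y => by
        rw [zero_add, pow_one]
        exact neg_one_smul k y
  refine Eq.trans (congrArg (_ + ·) (e1 _)) ?_
  have h1 : ∀ z : V ⊗[k] A, (Hoch.d k A V 0).rTensor A z + -Hoch.tail k A V z =
      (Comod.coact (k := k) (A := A) (V := V)).rTensor A z -
        (TensorProduct.assoc k V A A).symm ((CoalgebraStruct.comul (R := k)).lTensor V z) + z ⊗ₜ[k] (1 : A) := by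
    intro z
    induction z using TensorProduct.induction_on with
    | zero => simp
    | tmul x a =>
      rw [LinearMap.rTensor_tmul, show Hoch.d k A V 0 x = Comod.coact (k := k) (A := A) x - x ⊗ₜ[k] (1 : A) from rfl]
      simp only [LinearMap.rTensor_tmul, Hoch.tail_tmul, LinearMap.lTensor_tmul,
        TensorProduct.tmul_sub, map_sub, TensorProduct.assoc_symm_tmul, TensorProduct.sub_tmul]
      abel
    | add x y hx hy =>
      simp only [map_add, neg_add, TensorProduct.add_tmul]
      rw [add_add_add_comm, hx, hy]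
      abel
  rw [h1, map_sub, map_sub, map_sub, ← hco, LinearEquiv.symm_apply_apply, LinearMap.rTensor_tmul,
    LinearMap.lTensor_tmul, Bialgebra.comul_one, Algebra.TensorProduct.one_def, TensorProduct.assoc_symm_tmul,
    TensorProduct.sub_tmul]
  abel

end Low

section Ind

variable {P : Type v} [AddCommGroup P] [Module k P]

theorem rTensor_counit_coactAux {P : Type w} [AddCommGroup P] [Module k P] (w : P ⊗[k] A) :
    ((TensorProduct.rid k P).toLinearMap ∘ₗ (Coalgebra.counit (R := k) (A := A)).lTensor P).rTensor A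
      (Hoch.Ind.coactAux k A P w) = w := by
  induction w using TensorProduct.induction_on with
  | zero => simp
  | tmul p a =>
    rw [Hoch.Ind.coactAux_tmul]
    refine Eq.trans ?_ (congrArg (fun t => p ⊗ₜ[k] t) ((congrArg (TensorProduct.lid k A)
      (Coalgebra.rTensor_counit_comul (R := k) a)).trans (by simp)))
    generalize CoalgebraStruct.comul (R := k) a = t
    induction t using TensorProduct.induction_on with
    | zero => simp
    | tmul r q => simp [TensorProduct.smul_tmul]
    | add u v hu hv => simp only [TensorProduct.tmul_add, map_add, hu, hv]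
  | add u v hu hv => simp only [map_add, hu, hv]

/-- The contracting homotopy of the cochain complex of an induced comodule. -/
def indHtpy : (n : ℕ) → ((Hoch.cochain k A (Hoch.Ind k A P) (n + 1) : Type v) →ₗ[k]
    (Hoch.cochain k A (Hoch.Ind k A P) n : Type v))
  | 0 => (Hoch.Ind.equiv k A P).toLinearMap ∘ₗ (Hoch.Ind.counit k A P).rTensor A
  | n + 1 => (indHtpy n).rTensor A

theorem indHtpy_spec : ∀ (n : ℕ) (x : (Hoch.cochain k A (Hoch.Ind k A P) (n + 1) : Type v)),
    indHtpy (n + 1) (Hoch.d k A (Hoch.Ind k A P) (n + 1) x) +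
      Hoch.d k A (Hoch.Ind k A P) n (indHtpy n x) = x
  | 0, x => by
    induction x using TensorProduct.induction_on with
    | zero => simp
    | add u v hu hv =>
      simp only [map_add]
      rw [add_add_add_comm, hu, hv]
    | tmul y b =>
      obtain ⟨w, rfl⟩ := (Hoch.Ind.equiv k A P).surjective y
      let c : Hoch.Ind k A P →ₗ[k] P := Hoch.Ind.counit k A P
      let e : P ⊗[k] A →ₗ[k] Hoch.Ind k A P := (Hoch.Ind.equiv k A P).toLinearMap
      have h0 : indHtpy 0 (Hoch.d k A (Hoch.Ind k A P) 0 (e w)) = e w - e (c (e w) ⊗ₜ[k] (1 : A)) := by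
        show e (c.rTensor A (Comod.coact (k := k) (A := A) (e w) - e w ⊗ₜ[k] (1 : A))) = _
        refine (congrArg e (map_sub (c.rTensor A) _ _)).trans ((map_sub e _ _).trans ?_)
        congr 1
        exact congrArg e (rTensor_counit_coactAux w)
      show (indHtpy 0).rTensor A (Hoch.d k A (Hoch.Ind k A P) 0 (e w) ⊗ₜ[k] b +
          ((-1 : k) ^ (0 + 1)) • Hoch.tail k A (Hoch.Ind k A P) (e w ⊗ₜ[k] b)) +
        (Comod.coact (k := k) (A := A) (e (c (e w) ⊗ₜ[k] b)) - e (c (e w) ⊗ₜ[k] b) ⊗ₜ[k] (1 : A)) = e w ⊗ₜ[k] b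
      have ht : ∀ t : A ⊗[k] A, (indHtpy 0).rTensor A ((TensorProduct.assoc k (Hoch.Ind k A P) A A).symm
          (e w ⊗ₜ[k] t)) = e.rTensor A ((TensorProduct.assoc k P A A).symm (c (e w) ⊗ₜ[k] t)) := by
        intro t
        induction t using TensorProduct.induction_on with
        | zero => simp
        | tmul r q => rfl
        | add u v hu hv => simp only [TensorProduct.tmul_add, map_add, hu, hv]
      have e1 : ∀ y : Hoch.Ind k A P ⊗[k] A, ((-1 : k) ^ (0 + 1)) • y = -y := fun y => by
        rw [zero_add, pow_one]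
        exact neg_one_smul k y
      rw [map_add, map_smul, Hoch.tail_tmul, ht, LinearMap.rTensor_tmul, h0,
        TensorProduct.sub_tmul, TensorProduct.tmul_sub, TensorProduct.tmul_sub,
        map_sub, map_sub, map_sub, map_sub, e1,
        show Comod.coact (k := k) (A := A) (e (c (e w) ⊗ₜ[k] b)) =
          e.rTensor A ((TensorProduct.assoc k P A A).symm (c (e w) ⊗ₜ[k] CoalgebraStruct.comul (R := k) b)) from
          (LinearMap.congr_fun (show e.rTensor A = LinearMap.id from LinearMap.rTensor_id _ _) _).symm]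
      simp only [TensorProduct.assoc_symm_tmul, LinearMap.rTensor_tmul]
      abel
  | n + 1, x => by
    have ih : indHtpy (n + 1) ∘ₗ Hoch.d k A (Hoch.Ind k A P) (n + 1) +
        Hoch.d k A (Hoch.Ind k A P) n ∘ₗ indHtpy n = LinearMap.id :=
      LinearMap.ext fun y => indHtpy_spec n y
    show ((indHtpy (n + 1)).rTensor A) ((Hoch.d k A (Hoch.Ind k A P) (n + 1)).rTensor A x +
          ((-1 : k) ^ (n + 1 + 1)) • Hoch.tail k A _ x) +
        ((Hoch.d k A (Hoch.Ind k A P) n).rTensor A ((indHtpy n).rTensor A x) +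
          ((-1 : k) ^ (n + 1)) • Hoch.tail k A _ ((indHtpy n).rTensor A x)) = x
    have h2 := congrArg (fun F => F.rTensor A x) ih
    simp only [LinearMap.rTensor_add, LinearMap.add_apply, LinearMap.rTensor_comp_apply, LinearMap.rTensor_id,
      LinearMap.id_apply] at h2
    rw [map_add, map_smul, tail_naturality, pow_succ (-1 : k) (n + 1), mul_neg_one, neg_smul]
    simp only [indHtpy] at h2 ⊢
    refine Eq.trans ?_ h2
    abel

theorem cocycles_ind_le_coboundaries (n : ℕ) :
    Hoch.cocycles k A (Hoch.Ind k A P) (n + 1) ≤ Hoch.coboundaries k A (Hoch.Ind k A P) (n + 1) := by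
  intro z hz
  refine ⟨indHtpy n z, ?_⟩
  have h := indHtpy_spec n z
  rwa [show Hoch.d k A (Hoch.Ind k A P) (n + 1) z = 0 from hz, map_zero, zero_add] at h

end Ind

end

end Groth.Agent.H20Comod
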