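import Groth.Agent.H20Comod.Tame
import Groth.Agent.H20Comod.Invariants
import Groth.Prelude.Def_GLin
import Mathlib.LinearAlgebra.Charpoly.ToMatrix
import Mathlib.RingTheory.LocalRing.ResidueField.Basic
import Mathlib.LinearAlgebra.FreeModule.Finite.Basic
import Mathlib.LinearAlgebra.TensorProduct.Basis
import Mathlib.RingTheory.TensorProduct.Free
import Mathlib.RingTheory.Adjoin.Tower
import Mathlib.RingTheory.FiniteType
import Mathlib.RingTheory.Ideal.GoingUp
import Mathlib.RingTheory.Ideal.GoingDown
import Mathlib.RingTheory.Ideal.KrullsHeightTheorem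
import Mathlib.RingTheory.Flat.Basic
import Mathlib.RingTheory.TensorProduct.Finite
import Mathlib.RingTheory.Noetherian.Basic
import Mathlib.RingTheory.IntegralClosure.IsIntegralClosure.Basic

/-!
Quotients of affine schemes by finite group schemes over a field: integrality, finiteness, heights
along the fibres.
-/

set_option autoImplicit false

universe u v w w'

open TensorProduct HopfRep

namespace Groth.Agent.H20Comod

noncomputable section

variable {k : Type u} [Field k] {A : Type v} [CommRing A] [HopfAlgebra k A]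
  {R : Type w} [CommRing R] [Algebra k R] [Comod k A R] [GLin.IsCoactAlg k A R]

section Shear

variable (k A R) in
/-- The translation automorphism `r ⊗ a ↦ ρ(r) (1 ⊗ a)`. -/
def shearAlg : R ⊗[k] A →ₐ[k] R ⊗[k] A :=
  Algebra.TensorProduct.lift (GLin.coactAlgHom k A R) Algebra.TensorProduct.includeRight fun _ _ => Commute.all _ _

theorem shearAlg_eq_shear (z : R ⊗[k] A) : shearAlg k A R z = shear R LinearMap.id z := by
  induction z using TensorProduct.induction_on with
  | zero => simp
  | tmul r a =>
    rw [shearAlg, Algebra.TensorProduct.lift_tmul, GLin.coactAlgHom_apply, Algebra.TensorProduct.includeRight_apply,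
      shear_tmul]
    generalize Comod.coact (k := k) (A := A) r = w
    induction w using TensorProduct.induction_on with
    | zero => simp
    | tmul p q => simp
    | add u v hu hv => simp only [map_add, add_mul, hu, hv]
  | add u v hu hv => simp only [map_add, hu, hv]

theorem shearAlg_bijective : Function.Bijective (shearAlg k A R) := by
  refine ⟨fun x y h => ?_, fun y => ⟨shear R (HopfAlgebra.antipode k) y, ?_⟩⟩
  · rw [shearAlg_eq_shear, shearAlg_eq_shear] at h
    rw [← shear_antipode_shear_id x, ← shear_antipode_shear_id y, h]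
  · rw [shearAlg_eq_shear, shear_id_shear_antipode]

theorem coactAlgHom_eq_shearAlg_comp :
    GLin.coactAlgHom k A R = (shearAlg k A R).comp Algebra.TensorProduct.includeLeft := by
  rw [shearAlg, Algebra.TensorProduct.lift_comp_includeLeft]

theorem finite_coactAlgHom [Module.Finite k A] : (GLin.coactAlgHom k A R).Finite := by
  rw [coactAlgHom_eq_shearAlg_comp]
  refine AlgHom.Finite.comp (AlgHom.Finite.of_surjective _ shearAlg_bijective.2) ?_
  show (algebraMap R (R ⊗[k] A)).Finite
  exact RingHom.finite_algebraMap.2 inferInstance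

end Shear

section Charpoly

variable [Module.Finite k A]

variable (k A R) in
/-- The characteristic polynomial of the coaction of `f`. -/
def coactCharpoly (f : R) : Polynomial R :=
  (Algebra.lmul R (R ⊗[k] A) (GLin.coactAlgHom k A R f)).charpoly

theorem eval_coactCharpoly (f : R) : (coactCharpoly k A R f).eval f = 0 := by
  let x := GLin.coactAlgHom k A R f
  have h := LinearMap.aeval_self_charpoly (Algebra.lmul R (R ⊗[k] A) x)
  rw [Polynomial.aeval_algHom_apply] at h
  have h1 : Polynomial.aeval x (coactCharpoly k A R f) = 0 :=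
    Algebra.lmul_injective (h.trans (map_zero _).symm)
  let e : R ⊗[k] A →ₐ[R] R :=
    (Algebra.TensorProduct.rid k R R).toAlgHom.comp
      (Algebra.TensorProduct.map (AlgHom.id R R) (Bialgebra.counitAlgHom k A))
  have he : e x = f := by
    have hc := LinearMap.congr_fun (Comod.counit_comp (k := k) (A := A) (V := R)) f
    simp only [LinearMap.coe_comp, Function.comp_apply, LinearMap.flip_apply, TensorProduct.mk_apply] at hc
    show Algebra.TensorProduct.rid k R R (Algebra.TensorProduct.map (AlgHom.id R R) (Bialgebra.counitAlgHom k A)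
      (Comod.coact (k := k) (A := A) f)) = f
    rw [show ∀ z : R ⊗[k] A, Algebra.TensorProduct.map (AlgHom.id R R) (Bialgebra.counitAlgHom k A) z =
      (CoalgebraStruct.counit (R := k) (A := A)).lTensor R z from fun z => rfl, hc]
    simp
  have h2 := congrArg e h1
  rw [← Polynomial.aeval_algHom_apply, he, map_zero] at h2
  simpa using h2

variable (k A) in
/-- Extension of a ring map `R → B` along `- ⊗ A`. -/
def extendA {B : Type w'} [CommRing B] [Algebra k B] (φ : R →ₐ[k] B) : R ⊗[k] A →ₐ[k] B ⊗[k] A :=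
  Algebra.TensorProduct.map φ (AlgHom.id k A)

omit [Comod k A R] [GLin.IsCoactAlg k A R] in
theorem charpoly_map_eq {B : Type w'} [CommRing B] [Algebra k B] (φ : R →ₐ[k] B) (x : R ⊗[k] A) :
    (Algebra.lmul R (R ⊗[k] A) x).charpoly.map φ.toRingHom =
      (Algebra.lmul B (B ⊗[k] A) (extendA k A φ x)).charpoly := by
  classical
  let bA := Module.Free.chooseBasis k A
  let b := Algebra.TensorProduct.basis R bA
  let c := Algebra.TensorProduct.basis B bA
  rw [← LinearMap.charpoly_toMatrix (Algebra.lmul R (R ⊗[k] A) x) b,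
    ← LinearMap.charpoly_toMatrix (Algebra.lmul B (B ⊗[k] A) (extendA k A φ x)) c, ← Matrix.charpoly_map]
  congr 1
  refine Matrix.ext fun i j => ?_
  rw [Matrix.map_apply, LinearMap.toMatrix_apply, LinearMap.toMatrix_apply]
  show φ (b.repr (x * b j) i) = c.repr (extendA k A φ x * c j) i
  have hcj : c j = extendA k A φ (b j) := by simp [b, c, extendA]
  rw [hcj, ← map_mul]
  generalize x * b j = z
  induction z using TensorProduct.induction_on with
  | zero => simp
  | tmul p a =>
    show φ (b.repr (p ⊗ₜ[k] a) i) = c.repr (φ p ⊗ₜ[k] a) i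
    rw [Algebra.TensorProduct.basis_repr_tmul, Algebra.TensorProduct.basis_repr_tmul]
    simp
  | add u v hu hv => simp only [map_add, Finsupp.add_apply, hu, hv]

omit [Comod k A R] [GLin.IsCoactAlg k A R] in
theorem charpoly_lmul_algEquiv {B : Type w'} [CommRing B] {C : Type w'} [CommRing C] [Algebra B C]
    [Module.Free B C] [Module.Finite B C] (e : C ≃ₐ[B] C) (y : C) :
    (Algebra.lmul B C (e y)).charpoly = (Algebra.lmul B C y).charpoly := by
  rw [← LinearEquiv.charpoly_conj e.toLinearEquiv (Algebra.lmul B C y)]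
  congr 1
  refine LinearMap.ext fun z => ?_
  simp [LinearEquiv.conj_apply, map_mul]

end Charpoly

section Twist

variable [Module.Finite k A] {B : Type w'} [CommRing B] [Algebra k B]

/-- The `B`-algebra endomorphism of `B ⊗ A` given by an `A`-point of it. -/
def ptEnd (g : WithConv (A →ₐ[k] B ⊗[k] A)) : B ⊗[k] A →ₐ[B] B ⊗[k] A :=
  Algebra.TensorProduct.lift (Algebra.ofId B (B ⊗[k] A)) g.ofConv fun _ _ => Commute.all _ _

omit [Module.Finite k A] in
theorem ptEnd_tmul (g : WithConv (A →ₐ[k] B ⊗[k] A)) (b : B) (a : A) :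
    ptEnd g (b ⊗ₜ[k] a) = (b ⊗ₜ[k] (1 : A)) * g.ofConv a := by
  simp [ptEnd]

omit [Module.Finite k A] in
theorem ptEnd_bijective (m : WithConv (A →ₐ[k] B)) :
    Function.Bijective (ptEnd (WithConv.toConv (Algebra.TensorProduct.includeLeft.comp m.ofConv) *
      WithConv.toConv (Algebra.TensorProduct.includeRight : A →ₐ[k] B ⊗[k] A))) := by
  let P : WithConv (A →ₐ[k] B) → WithConv (A →ₐ[k] B ⊗[k] A) := fun m =>
    WithConv.toConv ((Algebra.TensorProduct.includeLeft : B →ₐ[k] B ⊗[k] A).comp m.ofConv)
  let i : WithConv (A →ₐ[k] B ⊗[k] A) := WithConv.toConv Algebra.TensorProduct.includeRight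
  have hfix : ∀ (g : WithConv (A →ₐ[k] B ⊗[k] A)) (m' : WithConv (A →ₐ[k] B)),
      ((ptEnd g).restrictScalars k).comp (P m').ofConv = (P m').ofConv := by
    intro g m'
    refine AlgHom.ext fun a => ?_
    show ptEnd g (m'.ofConv a ⊗ₜ[k] (1 : A)) = _
    rw [ptEnd_tmul, map_one, mul_one]
    rfl
  have hi : ∀ g : WithConv (A →ₐ[k] B ⊗[k] A), ((ptEnd g).restrictScalars k).comp i.ofConv = g.ofConv := by
    intro g
    refine AlgHom.ext fun a => ?_
    show ptEnd g ((1 : B) ⊗ₜ[k] a) = _
    rw [ptEnd_tmul, ← Algebra.TensorProduct.one_def, one_mul]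
  have hcomp : ∀ m₁ m₂ : WithConv (A →ₐ[k] B),
      (ptEnd (P m₁ * i)).comp (ptEnd (P m₂ * i)) = ptEnd (P m₂ * (P m₁ * i)) := by
    intro m₁ m₂
    refine Algebra.TensorProduct.ext' fun b a => ?_
    rw [AlgHom.comp_apply, ptEnd_tmul, map_mul, ptEnd_tmul, map_one, mul_one, ptEnd_tmul]
    congr 1
    have := AlgHom.comp_convMul_distrib ((ptEnd (P m₁ * i)).restrictScalars k) (P m₂) i
    have h2 := congrArg (fun f : A →ₐ[k] B ⊗[k] A => f a) this
    rw [hfix, hi] at h2
    exact h2
  have hid : ∀ m₁ m₂ : WithConv (A →ₐ[k] B), m₂ * m₁ = 1 →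
      (ptEnd (P m₁ * i)).comp (ptEnd (P m₂ * i)) = AlgHom.id B _ := by
    intro m₁ m₂ h
    rw [hcomp, ← mul_assoc]
    have hP : P m₂ * P m₁ = 1 := by
      apply WithConv.ofConv_injective
      have := (AlgHom.comp_convMul_distrib (Algebra.TensorProduct.includeLeft : B →ₐ[k] B ⊗[k] A) m₂ m₁).symm
      rw [h] at this
      refine this.trans ?_
      refine AlgHom.ext fun a => ?_
      simp [AlgHom.convOne_def, Algebra.algebraMap_eq_smul_one, Algebra.TensorProduct.one_def]
    rw [hP, one_mul]
    refine Algebra.TensorProduct.ext' fun b a => ?_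
    rw [ptEnd_tmul]
    simp [i]
  let S : WithConv (A →ₐ[k] A) := WithConv.toConv (HopfAlgebra.antipodeAlgHom k A)
  let e : WithConv (A →ₐ[k] A) := WithConv.toConv (AlgHom.id k A)
  let m' : WithConv (A →ₐ[k] B) := WithConv.toConv (m.ofConv.comp S.ofConv)
  have hinv : e⁻¹ = S := WithConv.ofConv_injective (AlgHom.id_comp _)
  have h1 : m' * m = 1 ∧ m * m' = 1 := by
    constructor <;> apply WithConv.ofConv_injective
    · refine ((congrArg (fun x : WithConv (A →ₐ[k] A) => m.ofConv.comp x.ofConv) (inv_mul_cancel e)).symm.trans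
        (AlgHom.comp_convMul_distrib m.ofConv e⁻¹ e)).symm.trans ?_
      · exact AlgHom.ext fun a => by simp [AlgHom.convOne_def]
    · refine ((congrArg (fun x : WithConv (A →ₐ[k] A) => m.ofConv.comp x.ofConv) (mul_inv_cancel e)).symm.trans
        (AlgHom.comp_convMul_distrib m.ofConv e e⁻¹)).symm.trans ?_
      · exact AlgHom.ext fun a => by simp [AlgHom.convOne_def]
  refine Function.bijective_iff_has_inverse.2 ⟨ptEnd (P m' * i), fun z => ?_, fun z => ?_⟩
  · exact DFunLike.congr_fun (hid m' m h1.2) z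
  · exact DFunLike.congr_fun (hid m m' h1.1) z

theorem coactCharpoly_map_coact (f : R) :
    (coactCharpoly k A R f).map (GLin.coactAlgHom k A R).toRingHom =
      (coactCharpoly k A R f).map (Algebra.TensorProduct.includeLeft : R →ₐ[k] R ⊗[k] A).toRingHom := by
  unfold coactCharpoly
  rw [charpoly_map_eq (GLin.coactAlgHom k A R), charpoly_map_eq (Algebra.TensorProduct.includeLeft : R →ₐ[k] R ⊗[k] A)]
  let m : WithConv (A →ₐ[k] R ⊗[k] A) := WithConv.toConv Algebra.TensorProduct.includeRight
  let Θ : (R ⊗[k] A) ⊗[k] A ≃ₐ[R ⊗[k] A] (R ⊗[k] A) ⊗[k] A := AlgEquiv.ofBijective _ (ptEnd_bijective m)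
  rw [← charpoly_lmul_algEquiv Θ (extendA k A (Algebra.TensorProduct.includeLeft : R →ₐ[k] R ⊗[k] A) _)]
  congr 2
  have hco := LinearMap.congr_fun (Comod.coassoc (k := k) (A := A) (V := R)) f
  simp only [LinearMap.coe_comp, Function.comp_apply, LinearEquiv.coe_coe] at hco
  have h1 : extendA k A (GLin.coactAlgHom k A R) (GLin.coactAlgHom k A R f) =
      (TensorProduct.assoc k R A A).symm ((CoalgebraStruct.comul (R := k)).lTensor R (Comod.coact (k := k) (A := A) f)) := by
    rw [← hco, LinearEquiv.symm_apply_apply]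
    rfl
  rw [h1]
  show _ = Θ (extendA k A _ (Comod.coact (k := k) (A := A) f))
  generalize Comod.coact (k := k) (A := A) f = z
  induction z using TensorProduct.induction_on with
  | zero => simp
  | add u v hu hv => simp only [map_add, hu, hv]
  | tmul r a =>
    show (TensorProduct.assoc k R A A).symm (r ⊗ₜ[k] CoalgebraStruct.comul (R := k) a) =
      ptEnd _ ((r ⊗ₜ[k] (1 : A)) ⊗ₜ[k] a)
    rw [ptEnd_tmul, AlgHom.convMul_apply]
    generalize CoalgebraStruct.comul (R := k) a = w
    induction w using TensorProduct.induction_on with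
    | zero => simp
    | tmul p q => simp [m, Algebra.TensorProduct.tmul_mul_tmul]
    | add u v hu hv => simp only [map_add, mul_add, TensorProduct.tmul_add, hu, hv]

theorem isIntegral_invariants (f : R) : _root_.IsIntegral ↥(GLin.invariants k A R) f := by
  have hcoef : ↑(coactCharpoly k A R f).coeffs ⊆ ((GLin.invariants k A R).toSubring : Set R) := by
    intro a ha
    obtain ⟨i, -, rfl⟩ := Polynomial.mem_coeffs_iff.1 ha
    have := congrArg (Polynomial.coeff · i) (coactCharpoly_map_coact (k := k) (A := A) f)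
    simp only [Polynomial.coeff_map] at this
    exact this
  refine ⟨(coactCharpoly k A R f).toSubring (GLin.invariants k A R).toSubring hcoef,
    (Polynomial.monic_toSubring _ _ hcoef).2 (LinearMap.charpoly_monic _), ?_⟩
  rw [Polynomial.eval₂_eq_eval_map]
  rw [show algebraMap ↥(GLin.invariants k A R) R = (GLin.invariants k A R).toSubring.subtype from rfl,
    Polynomial.map_toSubring]
  exact eval_coactCharpoly f

theorem isIntegral_algebra_invariants : Algebra.IsIntegral ↥(GLin.invariants k A R) R :=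
  ⟨isIntegral_invariants⟩

theorem finite_over_invariants [Algebra.FiniteType k R] : Module.Finite ↥(GLin.invariants k A R) R := by
  haveI := isIntegral_algebra_invariants (k := k) (A := A) (R := R)
  haveI : Algebra.FiniteType ↥(GLin.invariants k A R) R :=
    Algebra.FiniteType.of_restrictScalars_finiteType k ↥(GLin.invariants k A R) R
  exact Algebra.IsIntegral.finite

theorem finiteType_invariants [Algebra.FiniteType k R] : Algebra.FiniteType k ↥(GLin.invariants k A R) := by
  haveI := finite_over_invariants (k := k) (A := A) (R := R)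
  exact ⟨fg_of_fg_of_fg k ↥(GLin.invariants k A R) R Algebra.FiniteType.out Module.Finite.fg_top
    Subtype.val_injective⟩

end Twist

section Fibres

variable [Module.Finite k A]

/-- The ideal of functions vanishing on the orbit of the prime `q`. -/
def orbitIdeal (q : Ideal R) : Ideal R :=
  RingHom.ker ((Algebra.TensorProduct.map (Ideal.Quotient.mkₐ k q) (AlgHom.id k A)).comp (GLin.coactAlgHom k A R))

omit [Module.Finite k A] in
theorem mem_orbitIdeal {q : Ideal R} {f : R} :
    f ∈ orbitIdeal (k := k) (A := A) q ↔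
      (Ideal.Quotient.mkₐ k q).toLinearMap.rTensor A (Comod.coact (k := k) (A := A) f) = 0 := Iff.rfl

omit [Module.Finite k A] in
theorem actL_mem_orbitIdeal {q : Ideal R} {f : R} (hf : f ∈ orbitIdeal (k := k) (A := A) q) (φ : A →ₗ[k] k) :
    actL φ f ∈ orbitIdeal (k := k) (A := A) q := by
  rw [mem_orbitIdeal] at hf ⊢
  rw [coact_actL, ← LinearMap.comp_apply, LinearMap.rTensor_comp_lTensor, ← LinearMap.lTensor_comp_rTensor,
    LinearMap.comp_apply, hf, map_zero]

omit [Module.Finite k A] in
theorem orbitIdeal_le (q : Ideal R) : orbitIdeal (k := k) (A := A) q ≤ q := by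
  intro f hf
  rw [mem_orbitIdeal] at hf
  rw [← Ideal.Quotient.eq_zero_iff_mem, ← actL_counit (k := k) (A := A) f, actL_apply]
  show (Ideal.Quotient.mkₐ k q).toLinearMap (sliceR _ _) = 0
  rw [← sliceR_rTensor, hf, map_zero]

theorem exists_prime_over_orbitIdeal {q Q : Ideal R} [Q.IsPrime] (hQ : orbitIdeal (k := k) (A := A) q ≤ Q) :
    ∃ P : Ideal (R ⊗[k] A), P.IsPrime ∧ P.comap (GLin.coactAlgHom k A R).toRingHom = Q ∧
      q ≤ P.comap (Algebra.TensorProduct.includeLeft : R →ₐ[k] R ⊗[k] A).toRingHom := by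
  let π := Algebra.TensorProduct.map (Ideal.Quotient.mkₐ k q) (AlgHom.id k A)
  have hπ : Function.Surjective π := fun z => by
    induction z using TensorProduct.induction_on with
    | zero => exact ⟨0, map_zero _⟩
    | tmul p a =>
      obtain ⟨p, rfl⟩ := Ideal.Quotient.mk_surjective p
      exact ⟨p ⊗ₜ[k] a, rfl⟩
    | add u v hu hv =>
      obtain ⟨u, rfl⟩ := hu
      obtain ⟨v, rfl⟩ := hv
      exact ⟨u + v, map_add _ _ _⟩
  let Ψ := π.comp (GLin.coactAlgHom k A R)
  have hΨ : Ψ.Finite := AlgHom.Finite.comp (AlgHom.Finite.of_surjective π hπ) finite_coactAlgHom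
  letI : Algebra R ((R ⧸ q) ⊗[k] A) := Ψ.toRingHom.toAlgebra
  haveI : Algebra.IsIntegral R ((R ⧸ q) ⊗[k] A) := ⟨(RingHom.Finite.to_isIntegral hΨ :)⟩
  obtain ⟨P', -, hP', hPQ⟩ := Ideal.exists_ideal_over_prime_of_isIntegral Q (⊥ : Ideal ((R ⧸ q) ⊗[k] A)) hQ
  haveI := hP'
  refine ⟨P'.comap π.toRingHom, inferInstance, by rw [Ideal.comap_comap]; exact hPQ, fun a ha => ?_⟩
  show π (a ⊗ₜ[k] (1 : A)) ∈ P'
  rw [Algebra.TensorProduct.map_tmul, show Ideal.Quotient.mkₐ k q a = 0 from Ideal.Quotient.eq_zero_iff_mem.2 ha,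
    TensorProduct.zero_tmul]
  exact zero_mem _

theorem height_comap_includeLeft [IsNoetherianRing R] (P : Ideal (R ⊗[k] A)) [P.IsPrime] :
    P.height = (P.comap (algebraMap R (R ⊗[k] A))).height := by
  haveI : IsNoetherianRing (R ⊗[k] A) := isNoetherian_of_tower R (inferInstance : IsNoetherian R (R ⊗[k] A))
  set p := P.comap (algebraMap R (R ⊗[k] A))
  haveI : P.LiesOver p := ⟨rfl⟩
  rw [Ideal.height_eq_height_add_of_liesOver_of_hasGoingDown p P]
  have hle : p.map (algebraMap R (R ⊗[k] A)) ≤ P := Ideal.map_comap_le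
  haveI := Ideal.isPrime_map_quotientMk_of_isPrime hle
  have hz : (P.map (Ideal.Quotient.mk (p.map (algebraMap R (R ⊗[k] A))))).height = 0 := by
    rw [Ideal.height_eq_zero_iff]
    refine ⟨⟨inferInstance, bot_le⟩, fun J hJ hJq => ?_⟩
    haveI := hJ.1
    set J' := J.comap (Ideal.Quotient.mk (p.map (algebraMap R (R ⊗[k] A))))
    have hJP : J' ≤ P := by
      refine (Ideal.comap_mono hJq).trans ?_
      rw [Ideal.comap_map_of_surjective' _ Ideal.Quotient.mk_surjective, Ideal.mk_ker, sup_eq_left.2 hle]
    rcases eq_or_lt_of_le hJP with h | h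
    · rw [← Ideal.map_comap_of_surjective _ Ideal.Quotient.mk_surjective J, ← h]
    · exfalso
      refine (Ideal.IsIntegral.comap_lt_comap (R := R) h).ne (le_antisymm (Ideal.comap_mono hJP) fun a ha => ?_)
      show Ideal.Quotient.mk _ (algebraMap R (R ⊗[k] A) a) ∈ J
      rw [Ideal.Quotient.eq_zero_iff_mem.2 (Ideal.mem_map_of_mem _ ha)]
      exact zero_mem _
  rw [hz, add_zero]

theorem height_comap_coact [IsNoetherianRing R] (P : Ideal (R ⊗[k] A)) [P.IsPrime] :
    (P.comap (GLin.coactAlgHom k A R).toRingHom).height = P.height := by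
  let e : R ⊗[k] A ≃+* R ⊗[k] A := (AlgEquiv.ofBijective (shearAlg k A R) shearAlg_bijective).toRingEquiv
  have h : P.comap (GLin.coactAlgHom k A R).toRingHom = (P.comap e).comap (algebraMap R (R ⊗[k] A)) := by
    rw [coactAlgHom_eq_shearAlg_comp]
    rfl
  rw [h, ← height_comap_includeLeft (P.comap e), RingEquiv.height_comap]

/-- The primes over a prime of the invariants all have the same height (linearly reductive case). -/
theorem height_eq_of_under_eq [IsNoetherianRing R] {α : A →ₗ[k] k} (hα : IsIntegral α) (h1 : α 1 = 1)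
    (q q' : Ideal R) [q.IsPrime] [q'.IsPrime]
    (h : q.comap (algebraMap ↥(GLin.invariants k A R) R) = q'.comap (algebraMap ↥(GLin.invariants k A R) R)) :
    q.height = q'.height := by
  haveI := isIntegral_algebra_invariants (k := k) (A := A) (R := R)
  set p := q.comap (algebraMap ↥(GLin.invariants k A R) R) with hp
  have hsub : ∀ q₀ : Ideal R, ∀ a ∈ q₀.comap (algebraMap ↥(GLin.invariants k A R) R),
      (a : R) ∈ orbitIdeal (k := k) (A := A) q₀ := by
    intro q₀ a ha
    rw [mem_orbitIdeal, show Comod.coact (k := k) (A := A) (a : R) = (a : R) ⊗ₜ[k] (1 : A) from a.2,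
      LinearMap.rTensor_tmul, show (Ideal.Quotient.mkₐ k q₀).toLinearMap (a : R) = 0 from
        Ideal.Quotient.eq_zero_iff_mem.2 ha, TensorProduct.zero_tmul]
  have hdisj : Disjoint ((orbitIdeal (k := k) (A := A) q ⊔ orbitIdeal (k := k) (A := A) q' : Ideal R) : Set R)
      ((p.primeCompl.map (algebraMap ↥(GLin.invariants k A R) R)) : Submonoid R) := by
    rw [Set.disjoint_left]
    rintro _ hx ⟨s, hs, rfl⟩
    obtain ⟨a, ha, b, hb, hab⟩ := Submodule.mem_sup.1 hx
    apply hs
    have e : (algebraMap ↥(GLin.invariants k A R) R s : R) = actL α a + actL α b := by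
      rw [← map_add, hab]
      exact (actL_eq_self_of_fixed h1 s.2).symm
    show algebraMap ↥(GLin.invariants k A R) R s ∈ q
    rw [e]
    refine add_mem (orbitIdeal_le q (actL_mem_orbitIdeal ha α)) ?_
    have hb' : (⟨actL α b, actL_mem_fixedPts hα h1 b⟩ : GLin.invariants k A R) ∈
        q'.comap (algebraMap ↥(GLin.invariants k A R) R) := orbitIdeal_le q' (actL_mem_orbitIdeal hb α)
    rw [← h] at hb'
    exact hb'
  obtain ⟨Q, hQp, hQ, hQd⟩ := Ideal.exists_le_prime_disjoint _ _ hdisj
  haveI := hQp
  have hQc : Q.comap (algebraMap ↥(GLin.invariants k A R) R) = p := by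
    refine le_antisymm (fun a ha => ?_) (fun a ha => hQ (Ideal.mem_sup_left (hsub q a ha)))
    by_contra hap
    exact Set.disjoint_left.1 hQd ha ⟨a, hap, rfl⟩
  have key : ∀ q₀ : Ideal R, q₀.IsPrime → orbitIdeal (k := k) (A := A) q₀ ≤ Q →
      q₀.comap (algebraMap ↥(GLin.invariants k A R) R) = p → q₀.height = Q.height := by
    intro q₀ _ hle hc
    obtain ⟨P, hP, hPc, hPl⟩ := exists_prime_over_orbitIdeal hle
    haveI := hP
    have heq : q₀ = P.comap (Algebra.TensorProduct.includeLeft : R →ₐ[k] R ⊗[k] A).toRingHom := by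
      by_contra hne
      refine (Ideal.IsIntegral.comap_lt_comap (R := ↥(GLin.invariants k A R)) (lt_of_le_of_ne hPl hne)).ne ?_
      rw [hc, ← hQc, ← hPc, Ideal.comap_comap, Ideal.comap_comap]
      congr 1
      exact RingHom.ext fun a => a.2
    calc q₀.height = (P.comap (algebraMap R (R ⊗[k] A))).height := by rw [heq]; rfl
      _ = P.height := (height_comap_includeLeft P).symm
      _ = Q.height := by rw [← hPc, height_comap_coact]
  rw [key q inferInstance (le_sup_left.trans hQ) hp.symm, key q' inferInstance (le_sup_right.trans hQ) (h.symm)]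

end Fibres

end

end Groth.Agent.H20Comod
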