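import Groth.Agent.H20Comod.FiniteQuot
import Groth.Agent.S2669
import Groth.Agent.H4Depth.SkFree
import Groth.Agent.H4Depth.Regular
import Groth.Agent.H8Props.FlatDepth
import Groth.Agent.H02CA.SkDescent
import Mathlib.RingTheory.Regular.RegularSequence

/-!
Serre's condition on quotients by finite linearly reductive group schemes.
-/

set_option autoImplicit false

universe u

open TensorProduct HopfRep

namespace Groth.Agent.H20Comod

noncomputable section

section Retract

variable {S : Type u} [CommRing S]

theorem isWeaklyRegular_of_retract : ∀ (rs : List S) {M N : Type u} [AddCommGroup M] [Module S M] [AddCommGroup N]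
    [Module S N] (i : N →ₗ[S] M) (r : M →ₗ[S] N), r ∘ₗ i = LinearMap.id →
      RingTheory.Sequence.IsWeaklyRegular M rs → RingTheory.Sequence.IsWeaklyRegular N rs := by
  intro rs
  induction rs with
  | nil => intros; exact RingTheory.Sequence.IsWeaklyRegular.nil S _
  | cons x xs ih =>
    intro M N _ _ _ _ i r h hM
    rw [RingTheory.Sequence.isWeaklyRegular_cons_iff] at hM ⊢
    refine ⟨fun a b hab => ?_, ih (QuotSMulTop.map x i) (QuotSMulTop.map x r) ?_ hM.2⟩
    · have h1 : i a = i b := hM.1 (show x • i a = x • i b by rw [← map_smul, ← map_smul]; exact congrArg i hab)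
      simpa [show ∀ y, r (i y) = y from LinearMap.congr_fun h] using congrArg r h1
    · rw [← QuotSMulTop.map_comp, h, QuotSMulTop.map_id]

theorem idealDepth_le_of_retract (I : Ideal S) {M N : Type u} [AddCommGroup M] [Module S M] [AddCommGroup N]
    [Module S N] (i : N →ₗ[S] M) (r : M →ₗ[S] N) (h : r ∘ₗ i = LinearMap.id) :
    LocCoh.idealDepth I M ≤ LocCoh.idealDepth I N := by
  by_cases hN : I • (⊤ : Submodule S N) = ⊤
  · rw [H4Depth.idealDepth_eq_top hN]; exact le_top
  by_cases hM : I • (⊤ : Submodule S M) = ⊤
  · refine absurd (eq_top_iff.2 fun y _ => ?_) hN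
    have hy : i y ∈ I • (⊤ : Submodule S M) := by rw [hM]; trivial
    have := Submodule.mem_map_of_mem (f := r) hy
    rw [Submodule.map_smul'', show r (i y) = y from LinearMap.congr_fun h y] at this
    exact Submodule.smul_mono le_rfl le_top this
  rw [LocCoh.idealDepth, if_neg hM, LocCoh.idealDepth, if_neg hN]
  refine iSup₂_le fun rs hrs => ?_
  exact le_iSup₂_of_le rs ⟨isWeaklyRegular_of_retract rs i r h hrs.1, hrs.2⟩ le_rfl

end Retract

section Main

variable {k : Type u} [Field k] {H : Type u} [CommRing H] [HopfAlgebra k H] [Module.Finite k H]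
  {R : Type u} [CommRing R] [Algebra k R] [Algebra.FiniteType k R] [Comod k H R] [GLin.IsCoactAlg k H R]

theorem supportDim_self [IsNoetherianRing R] (q : Ideal R) [q.IsPrime] :
    Module.supportDim (Localization.AtPrime q) (LocalizedModule q.primeCompl R) = q.height := by
  obtain ⟨e⟩ := H4Depth.exists_localizedModule_self_equiv q
  rw [Module.supportDim_eq_of_equiv e, Module.supportDim_self_eq_ringKrullDim,
    IsLocalization.AtPrime.ringKrullDim_eq_height q]

/-- The data at a prime of the invariants. -/
theorem quot_prime_data {α : H →ₗ[k] k} (hα : IsIntegral α) (h1 : α 1 = 1)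
    (p : Ideal ↥(GLin.invariants k H R)) [p.IsPrime] :
    ∃ q : PrimeSpectrum R, q.asIdeal.comap (algebraMap ↥(GLin.invariants k H R) R) = p ∧
      Module.supportDim (Localization.AtPrime p) (LocalizedModule p.primeCompl R) = q.asIdeal.height ∧
      (∀ q' : PrimeSpectrum R, q'.asIdeal.comap (algebraMap ↥(GLin.invariants k H R) R) = p →
        q'.asIdeal.height = q.asIdeal.height) ∧
      LocCoh.depth (Localization.AtPrime p) (LocalizedModule p.primeCompl R) =
        ⨅ q' ∈ {q' : PrimeSpectrum R | q'.asIdeal.comap (algebraMap ↥(GLin.invariants k H R) R) = p},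
          LocCoh.depth (Localization.AtPrime q'.asIdeal) (LocalizedModule q'.asIdeal.primeCompl R) ∧
      Module.supportDim (Localization.AtPrime p) (LocalizedModule p.primeCompl R) =
        ringKrullDim (Localization.AtPrime p) ∧
      LocCoh.depth (Localization.AtPrime p) (LocalizedModule p.primeCompl R) ≤
        LocCoh.depth (Localization.AtPrime p) (Localization.AtPrime p) := by
  haveI : IsNoetherianRing R := Algebra.FiniteType.isNoetherianRing k R
  haveI := isIntegral_algebra_invariants (k := k) (A := H) (R := R)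
  haveI := finite_over_invariants (k := k) (A := H) (R := R)
  haveI : IsNoetherianRing ↥(GLin.invariants k H R) := isNoetherianRing_invariants hα h1
  obtain ⟨q₀, -, hq₀, hc₀⟩ := Ideal.exists_ideal_over_prime_of_isIntegral p (⊥ : Ideal R)
    (fun a ha => by
      rw [Ideal.mem_comap, Ideal.mem_bot] at ha
      rw [show a = 0 from Subtype.ext ha]
      exact zero_mem _)
  obtain ⟨hdim, hdepth⟩ := S2669.result ↥(GLin.invariants k H R) R R p
  have hsupp : ∀ q : PrimeSpectrum R, q ∈ Module.support R R := fun q => by
    rw [Module.mem_support_iff_of_finite]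
    intro a ha
    rw [Module.mem_annihilator] at ha
    have h := ha 1
    rw [smul_eq_mul, mul_one] at h
    rw [h]
    exact q.asIdeal.zero_mem
  have hset : {q : PrimeSpectrum R | q.asIdeal.comap (algebraMap ↥(GLin.invariants k H R) R) = p ∧ q ∈ Module.support R R}
      = {q : PrimeSpectrum R | q.asIdeal.comap (algebraMap ↥(GLin.invariants k H R) R) = p} :=
    Set.ext fun q => ⟨fun h => h.1, fun h => ⟨h, hsupp q⟩⟩
  rw [hset] at hdim hdepth
  have hht : ∀ q' : PrimeSpectrum R, q'.asIdeal.comap (algebraMap ↥(GLin.invariants k H R) R) = p →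
      q'.asIdeal.height = q₀.height := fun q' h' =>
    haveI := hq₀
    height_eq_of_under_eq hα h1 q'.asIdeal q₀ (h'.trans hc₀.symm)
  -- the retraction onto the invariants
  let i := Algebra.linearMap ↥(GLin.invariants k H R) R
  let r := reynoldsInv (k := k) (A := H) (R := R) hα h1
  have hri : r ∘ₗ i = LinearMap.id := LinearMap.ext fun a => reynoldsInv_coe hα h1 a
  let iL := LocalizedModule.map p.primeCompl i
  let rL := LocalizedModule.map p.primeCompl r
  have hriL : rL ∘ₗ iL = LinearMap.id := by
    refine LinearMap.ext fun z => ?_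
    induction z using LocalizedModule.induction_on with
    | _ a s =>
      simp only [LinearMap.comp_apply, iL, rL, LocalizedModule.map_mk, LinearMap.id_apply]
      rw [show r (i a) = a from LinearMap.congr_fun hri a]
  obtain ⟨e⟩ := H4Depth.exists_localizedModule_self_equiv p
  refine ⟨⟨q₀, hq₀⟩, hc₀, ?_, hht, hdepth, ?_, ?_⟩
  · rw [hdim]
    refine le_antisymm (iSup₂_le fun q' hq' => le_of_eq (by rw [supportDim_self, hht q' hq'])) ?_
    refine le_iSup₂_of_le (⟨q₀, hq₀⟩ : PrimeSpectrum R) hc₀ ?_
    exact (supportDim_self (R := R) q₀).ge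
  · refine le_antisymm (Module.supportDim_le_ringKrullDim _ _) ?_
    rw [← Module.supportDim_self_eq_ringKrullDim, ← Module.supportDim_eq_of_equiv e]
    exact Module.supportDim_le_of_injective iL fun a b hab => by
      simpa [show ∀ y, rL (iL y) = y from LinearMap.congr_fun hriL] using congrArg rL hab
  · rw [← H4Depth.depth_congr e]
    exact idealDepth_le_of_retract _ iL rL hriL

theorem hasSk_quot {α : H →ₗ[k] k} (hα : IsIntegral α) (h1 : α 1 = 1) (r : ℕ) (hR : LocCoh.HasSk r R R) :
    LocCoh.HasSk r ↥(GLin.invariants k H R) R ∧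
      LocCoh.HasSk r ↥(GLin.invariants k H R) ↥(GLin.invariants k H R) := by
  haveI : IsNoetherianRing R := Algebra.FiniteType.isNoetherianRing k R
  haveI : IsNoetherianRing ↥(GLin.invariants k H R) := isNoetherianRing_invariants hα h1
  have h : LocCoh.HasSk r ↥(GLin.invariants k H R) R := by
    intro p _
    obtain ⟨q, hq, hdim, hht, hdepth, -, -⟩ := quot_prime_data hα h1 p
    rw [hdim, hdepth]
    have hinf : ∀ q' : PrimeSpectrum R, q'.asIdeal.comap (algebraMap ↥(GLin.invariants k H R) R) = p →
        min (r : WithBot ℕ∞) (q.asIdeal.height : WithBot ℕ∞) ≤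
          ((LocCoh.depth (Localization.AtPrime q'.asIdeal) (LocalizedModule q'.asIdeal.primeCompl R) : ℕ∞) : WithBot ℕ∞) :=
      fun q' hq' => by
        have := hR q'.asIdeal
        rwa [supportDim_self, hht q' hq'] at this
    rw [show (r : WithBot ℕ∞) = ((r : ℕ∞) : WithBot ℕ∞) from rfl, ← WithBot.coe_min, WithBot.coe_le_coe]
    refine le_iInf₂ fun q' hq' => ?_
    exact WithBot.coe_le_coe.1 ((WithBot.coe_min _ _).le.trans (hinf q' hq'))
  refine ⟨h, (H02CA.SkDescent.hasSk_self_iff r).2 fun p _ => ?_⟩
  obtain ⟨q, -, hdim, -, -, hdimeq, hle⟩ := quot_prime_data hα h1 p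
  have := h p
  rw [hdimeq] at this
  exact this.trans (WithBot.coe_le_coe.2 hle)

theorem isCM_quot {α : H →ₗ[k] k} (hα : IsIntegral α) (h1 : α 1 = 1) (hR : LocCoh.IsCohenMacaulayRing R) :
    LocCoh.IsCohenMacaulayRing ↥(GLin.invariants k H R) ∧
      ∀ (p : Ideal ↥(GLin.invariants k H R)) [p.IsPrime],
        LocCoh.IsCohenMacaulayModule (Localization.AtPrime p) (LocalizedModule p.primeCompl R) ∧
          Module.supportDim (Localization.AtPrime p) (LocalizedModule p.primeCompl R) =
            ringKrullDim (Localization.AtPrime p) := by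
  haveI : IsNoetherianRing R := Algebra.FiniteType.isNoetherianRing k R
  haveI : IsNoetherianRing ↥(GLin.invariants k H R) := isNoetherianRing_invariants hα h1
  have key : ∀ (p : Ideal ↥(GLin.invariants k H R)) [p.IsPrime],
      LocCoh.IsCohenMacaulayModule (Localization.AtPrime p) (LocalizedModule p.primeCompl R) ∧
        Module.supportDim (Localization.AtPrime p) (LocalizedModule p.primeCompl R) =
          ringKrullDim (Localization.AtPrime p) := by
    intro p _
    obtain ⟨q, hq, hdim, hht, hdepth, hdimeq, -⟩ := quot_prime_data hα h1 p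
    refine ⟨?_, hdimeq⟩
    show _ = _
    rw [hdim, hdepth, WithBot.coe_inj]
    have hd : ∀ q' : PrimeSpectrum R, q'.asIdeal.comap (algebraMap ↥(GLin.invariants k H R) R) = p →
        LocCoh.depth (Localization.AtPrime q'.asIdeal) (LocalizedModule q'.asIdeal.primeCompl R) = q.asIdeal.height :=
      fun q' hq' => by
        obtain ⟨e⟩ := H4Depth.exists_localizedModule_self_equiv q'.asIdeal
        have hcm := (hR.isCohenMacaulayLocalRing_localization q'.asIdeal).supportDim_eq_depth
        rw [Module.supportDim_self_eq_ringKrullDim, IsLocalization.AtPrime.ringKrullDim_eq_height q'.asIdeal,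
          hht q' hq', WithBot.coe_inj] at hcm
        rw [H4Depth.depth_congr e, ← hcm]
    exact le_antisymm (le_iInf₂ fun q' hq' => (hd q' hq').ge) (iInf₂_le_of_le q hq (hd q hq).le)
  refine ⟨⟨fun p _ => ?_⟩, key⟩
  obtain ⟨q, -, -, -, -, hdimeq, hle⟩ := quot_prime_data hα h1 p
  haveI : IsNoetherianRing (Localization.AtPrime p) := IsLocalization.isNoetherianRing p.primeCompl _ inferInstance
  rw [H8Props.FlatDepth.isCM_iff_dim]
  refine le_antisymm ?_ (H8Props.FlatDepth.depth_le_dim _)
  rw [← (key p).2, show Module.supportDim _ _ = _ from (key p).1]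
  exact WithBot.coe_le_coe.2 hle

end Main

end

end Groth.Agent.H20Comod
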