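import Groth.Agent.H20Comod.Invariants
import Groth.Prelude.Def_GLin
import Mathlib.LinearAlgebra.Charpoly.ToMatrix
import Mathlib.LinearAlgebra.FreeModule.Finite.Basic
import Mathlib.LinearAlgebra.TensorProduct.Basis
import Mathlib.RingTheory.TensorProduct.Free
import Mathlib.RingTheory.TensorProduct.Finite

/-!
Characteristic polynomials of coactions of finite free Hopf algebras over any base ring.
-/

set_option autoImplicit false

universe u v w w'

open TensorProduct HopfRep

namespace Groth.Agent.H20Comod.FreeCharpoly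

noncomputable section

variable {k : Type u} [CommRing k] {A : Type v} [CommRing A] [HopfAlgebra k A] [Module.Free k A]
  {R : Type w} [CommRing R] [Algebra k R] [Comod k A R] [GLin.IsCoactAlg k A R]


section Charpoly

variable [Module.Finite k A]

variable (k A R) in
/-- The characteristic polynomial of the coaction of `f`. -/
def coactCharpoly (f : R) : Polynomial R :=
  (Algebra.lmul R (R ⊗[k] A) (GLin.coactAlgHom k A R f)).charpoly

theorem eval_coactCharpoly (f : R) : (coactCharpoly k A R f).eval f = 0 := by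
  let x := GLin.coactAlgHom k A R f
  have h := LinearMap.aeval_self_charpoly (Algebra.lmul R (R ⊗[k] A) x)
  rw [Polynomial.aeval_algHom_apply] at h
  have h1 : Polynomial.aeval x (coactCharpoly k A R f) = 0 :=
    Algebra.lmul_injective (h.trans (map_zero _).symm)
  let e : R ⊗[k] A →ₐ[R] R :=
    (Algebra.TensorProduct.rid k R R).toAlgHom.comp
      (Algebra.TensorProduct.map (AlgHom.id R R) (Bialgebra.counitAlgHom k A))
  have he : e x = f := by
    have hc := LinearMap.congr_fun (Comod.counit_comp (k := k) (A := A) (V := R)) f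
    simp only [LinearMap.coe_comp, Function.comp_apply, LinearMap.flip_apply, TensorProduct.mk_apply] at hc
    show Algebra.TensorProduct.rid k R R (Algebra.TensorProduct.map (AlgHom.id R R) (Bialgebra.counitAlgHom k A)
      (Comod.coact (k := k) (A := A) f)) = f
    rw [show ∀ z : R ⊗[k] A, Algebra.TensorProduct.map (AlgHom.id R R) (Bialgebra.counitAlgHom k A) z =
      (CoalgebraStruct.counit (R := k) (A := A)).lTensor R z from fun z => rfl, hc]
    simp
  have h2 := congrArg e h1
  rw [← Polynomial.aeval_algHom_apply, he, map_zero] at h2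
  simpa using h2

variable (k A) in
/-- Extension of a ring map `R → B` along `- ⊗ A`. -/
def extendA {B : Type w'} [CommRing B] [Algebra k B] (φ : R →ₐ[k] B) : R ⊗[k] A →ₐ[k] B ⊗[k] A :=
  Algebra.TensorProduct.map φ (AlgHom.id k A)

omit [Comod k A R] [GLin.IsCoactAlg k A R] in
theorem charpoly_map_eq {B : Type w'} [CommRing B] [Algebra k B] (φ : R →ₐ[k] B) (x : R ⊗[k] A) :
    (Algebra.lmul R (R ⊗[k] A) x).charpoly.map φ.toRingHom =
      (Algebra.lmul B (B ⊗[k] A) (extendA k A φ x)).charpoly := by
  classical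
  let bA := Module.Free.chooseBasis k A
  let b := Algebra.TensorProduct.basis R bA
  let c := Algebra.TensorProduct.basis B bA
  rw [← LinearMap.charpoly_toMatrix (Algebra.lmul R (R ⊗[k] A) x) b,
    ← LinearMap.charpoly_toMatrix (Algebra.lmul B (B ⊗[k] A) (extendA k A φ x)) c, ← Matrix.charpoly_map]
  congr 1
  refine Matrix.ext fun i j => ?_
  rw [Matrix.map_apply, LinearMap.toMatrix_apply, LinearMap.toMatrix_apply]
  show φ (b.repr (x * b j) i) = c.repr (extendA k A φ x * c j) i
  have hcj : c j = extendA k A φ (b j) := by simp [b, c, extendA]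
  rw [hcj, ← map_mul]
  generalize x * b j = z
  induction z using TensorProduct.induction_on with
  | zero => simp
  | tmul p a =>
    show φ (b.repr (p ⊗ₜ[k] a) i) = c.repr (φ p ⊗ₜ[k] a) i
    rw [Algebra.TensorProduct.basis_repr_tmul, Algebra.TensorProduct.basis_repr_tmul]
    simp
  | add u v hu hv => simp only [map_add, Finsupp.add_apply, hu, hv]

omit [Comod k A R] [GLin.IsCoactAlg k A R] in
theorem charpoly_lmul_algEquiv {B : Type w'} [CommRing B] {C : Type w'} [CommRing C] [Algebra B C]
    [Module.Free B C] [Module.Finite B C] (e : C ≃ₐ[B] C) (y : C) :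
    (Algebra.lmul B C (e y)).charpoly = (Algebra.lmul B C y).charpoly := by
  rw [← LinearEquiv.charpoly_conj e.toLinearEquiv (Algebra.lmul B C y)]
  congr 1
  refine LinearMap.ext fun z => ?_
  simp [LinearEquiv.conj_apply, map_mul]

end Charpoly

section Twist

variable [Module.Finite k A] {B : Type w'} [CommRing B] [Algebra k B]

/-- The `B`-algebra endomorphism of `B ⊗ A` given by an `A`-point of it. -/
def ptEnd (g : WithConv (A →ₐ[k] B ⊗[k] A)) : B ⊗[k] A →ₐ[B] B ⊗[k] A :=
  Algebra.TensorProduct.lift (Algebra.ofId B (B ⊗[k] A)) g.ofConv fun _ _ => Commute.all _ _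

omit [Module.Finite k A] in
theorem ptEnd_tmul (g : WithConv (A →ₐ[k] B ⊗[k] A)) (b : B) (a : A) :
    ptEnd g (b ⊗ₜ[k] a) = (b ⊗ₜ[k] (1 : A)) * g.ofConv a := by
  simp [ptEnd]

omit [Module.Finite k A] in
theorem ptEnd_bijective (m : WithConv (A →ₐ[k] B)) :
    Function.Bijective (ptEnd (WithConv.toConv (Algebra.TensorProduct.includeLeft.comp m.ofConv) *
      WithConv.toConv (Algebra.TensorProduct.includeRight : A →ₐ[k] B ⊗[k] A))) := by
  let P : WithConv (A →ₐ[k] B) → WithConv (A →ₐ[k] B ⊗[k] A) := fun m =>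
    WithConv.toConv ((Algebra.TensorProduct.includeLeft : B →ₐ[k] B ⊗[k] A).comp m.ofConv)
  let i : WithConv (A →ₐ[k] B ⊗[k] A) := WithConv.toConv Algebra.TensorProduct.includeRight
  have hfix : ∀ (g : WithConv (A →ₐ[k] B ⊗[k] A)) (m' : WithConv (A →ₐ[k] B)),
      ((ptEnd g).restrictScalars k).comp (P m').ofConv = (P m').ofConv := by
    intro g m'
    refine AlgHom.ext fun a => ?_
    show ptEnd g (m'.ofConv a ⊗ₜ[k] (1 : A)) = _
    rw [ptEnd_tmul, map_one, mul_one]
    rfl
  have hi : ∀ g : WithConv (A →ₐ[k] B ⊗[k] A), ((ptEnd g).restrictScalars k).comp i.ofConv = g.ofConv := by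
    intro g
    refine AlgHom.ext fun a => ?_
    show ptEnd g ((1 : B) ⊗ₜ[k] a) = _
    rw [ptEnd_tmul, ← Algebra.TensorProduct.one_def, one_mul]
  have hcomp : ∀ m₁ m₂ : WithConv (A →ₐ[k] B),
      (ptEnd (P m₁ * i)).comp (ptEnd (P m₂ * i)) = ptEnd (P m₂ * (P m₁ * i)) := by
    intro m₁ m₂
    refine Algebra.TensorProduct.ext' fun b a => ?_
    rw [AlgHom.comp_apply, ptEnd_tmul, map_mul, ptEnd_tmul, map_one, mul_one, ptEnd_tmul]
    congr 1
    have := AlgHom.comp_convMul_distrib ((ptEnd (P m₁ * i)).restrictScalars k) (P m₂) i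
    have h2 := congrArg (fun f : A →ₐ[k] B ⊗[k] A => f a) this
    rw [hfix, hi] at h2
    exact h2
  have hid : ∀ m₁ m₂ : WithConv (A →ₐ[k] B), m₂ * m₁ = 1 →
      (ptEnd (P m₁ * i)).comp (ptEnd (P m₂ * i)) = AlgHom.id B _ := by
    intro m₁ m₂ h
    rw [hcomp, ← mul_assoc]
    have hP : P m₂ * P m₁ = 1 := by
      apply WithConv.ofConv_injective
      have := (AlgHom.comp_convMul_distrib (Algebra.TensorProduct.includeLeft : B →ₐ[k] B ⊗[k] A) m₂ m₁).symm
      rw [h] at this
      refine this.trans ?_
      refine AlgHom.ext fun a => ?_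
      simp [AlgHom.convOne_def, Algebra.algebraMap_eq_smul_one, Algebra.TensorProduct.one_def]
    rw [hP, one_mul]
    refine Algebra.TensorProduct.ext' fun b a => ?_
    rw [ptEnd_tmul]
    simp [i]
  let S : WithConv (A →ₐ[k] A) := WithConv.toConv (HopfAlgebra.antipodeAlgHom k A)
  let e : WithConv (A →ₐ[k] A) := WithConv.toConv (AlgHom.id k A)
  let m' : WithConv (A →ₐ[k] B) := WithConv.toConv (m.ofConv.comp S.ofConv)
  have hinv : e⁻¹ = S := WithConv.ofConv_injective (AlgHom.id_comp _)
  have h1 : m' * m = 1 ∧ m * m' = 1 := by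
    constructor <;> apply WithConv.ofConv_injective
    · refine ((congrArg (fun x : WithConv (A →ₐ[k] A) => m.ofConv.comp x.ofConv) (inv_mul_cancel e)).symm.trans
        (AlgHom.comp_convMul_distrib m.ofConv e⁻¹ e)).symm.trans ?_
      · exact AlgHom.ext fun a => by simp [AlgHom.convOne_def]
    · refine ((congrArg (fun x : WithConv (A →ₐ[k] A) => m.ofConv.comp x.ofConv) (mul_inv_cancel e)).symm.trans
        (AlgHom.comp_convMul_distrib m.ofConv e e⁻¹)).symm.trans ?_
      · exact AlgHom.ext fun a => by simp [AlgHom.convOne_def]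
  refine Function.bijective_iff_has_inverse.2 ⟨ptEnd (P m' * i), fun z => ?_, fun z => ?_⟩
  · exact DFunLike.congr_fun (hid m' m h1.2) z
  · exact DFunLike.congr_fun (hid m m' h1.1) z

theorem coactCharpoly_map_coact (f : R) :
    (coactCharpoly k A R f).map (GLin.coactAlgHom k A R).toRingHom =
      (coactCharpoly k A R f).map (Algebra.TensorProduct.includeLeft : R →ₐ[k] R ⊗[k] A).toRingHom := by
  unfold coactCharpoly
  rw [charpoly_map_eq (GLin.coactAlgHom k A R), charpoly_map_eq (Algebra.TensorProduct.includeLeft : R →ₐ[k] R ⊗[k] A)]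
  let m : WithConv (A →ₐ[k] R ⊗[k] A) := WithConv.toConv Algebra.TensorProduct.includeRight
  let Θ : (R ⊗[k] A) ⊗[k] A ≃ₐ[R ⊗[k] A] (R ⊗[k] A) ⊗[k] A := AlgEquiv.ofBijective _ (ptEnd_bijective m)
  rw [← charpoly_lmul_algEquiv Θ (extendA k A (Algebra.TensorProduct.includeLeft : R →ₐ[k] R ⊗[k] A) _)]
  congr 2
  have hco := LinearMap.congr_fun (Comod.coassoc (k := k) (A := A) (V := R)) f
  simp only [LinearMap.coe_comp, Function.comp_apply, LinearEquiv.coe_coe] at hco
  have h1 : extendA k A (GLin.coactAlgHom k A R) (GLin.coactAlgHom k A R f) =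
      (TensorProduct.assoc k R A A).symm ((CoalgebraStruct.comul (R := k)).lTensor R (Comod.coact (k := k) (A := A) f)) := by
    rw [← hco, LinearEquiv.symm_apply_apply]
    rfl
  rw [h1]
  show _ = Θ (extendA k A _ (Comod.coact (k := k) (A := A) f))
  generalize Comod.coact (k := k) (A := A) f = z
  induction z using TensorProduct.induction_on with
  | zero => simp
  | add u v hu hv => simp only [map_add, hu, hv]
  | tmul r a =>
    show (TensorProduct.assoc k R A A).symm (r ⊗ₜ[k] CoalgebraStruct.comul (R := k) a) =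
      ptEnd _ ((r ⊗ₜ[k] (1 : A)) ⊗ₜ[k] a)
    rw [ptEnd_tmul, AlgHom.convMul_apply]
    generalize CoalgebraStruct.comul (R := k) a = w
    induction w using TensorProduct.induction_on with
    | zero => simp
    | tmul p q => simp [m, Algebra.TensorProduct.tmul_mul_tmul]
    | add u v hu hv => simp only [map_add, mul_add, TensorProduct.tmul_add, hu, hv]

end Twist

end

end Groth.Agent.H20Comod.FreeCharpoly
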