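import Groth.Agent.H20Comod.Invariants
import Groth.Agent.H20Comod.Cochain
import Groth.Prelude.Def_ComodSub

/-!
Criteria for linear reductivity: lifting of fixed vectors and vanishing of cohomology.
-/

set_option autoImplicit false

universe u v w w'

open TensorProduct HopfRep

namespace Groth.Agent.H20Comod

noncomputable section

section Retract

variable {k : Type u} [CommRing k] {A : Type v} [CommRing A] [HopfAlgebra k A]

theorem cocycles_le_coboundaries_of_isIntegral {α : A →ₗ[k] k} (hα : IsIntegral α) (h1 : α 1 = 1)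
    (V : Type v) [AddCommGroup V] [Module k V] [Comod k A V] (n : ℕ) :
    Hoch.cocycles k A V (n + 1) ≤ Hoch.coboundaries k A V (n + 1) := by
  letI := Comod.trivial k A k
  have := isHopfMod_trivial (k := k) (A := A) (V := V)
  have hαh : Hoch.IsComodHom A α := LinearMap.ext fun a => (rTensor_comul_eq_of_isIntegral hα a).symm
  refine cocycles_le_coboundaries_of_retract (Hoch.toInd k A V)
    (lam V α ∘ₗ (Hoch.Ind.equiv k A V).symm.toLinearMap) ?_ ?_ (fun x => lam_coact h1 x) n
    (cocycles_ind_le_coboundaries n)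
  · apply LinearMap.ext
    intro v
    have hco := LinearMap.congr_fun (Comod.coassoc (k := k) (A := A) (V := V)) v
    simp only [LinearMap.coe_comp, Function.comp_apply, LinearEquiv.coe_coe] at hco
    exact ((TensorProduct.assoc k V A A).eq_symm_apply.2 hco).symm
  · exact LinearMap.ext fun z => coact_lam hαh z

end Retract

section Crit

variable {k : Type u} [Field k] {A : Type v} [CommRing A] [HopfAlgebra k A]

/-- Right integrals defined on finite subcomodules glue. -/
theorem exists_isIntegral_of_local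
    (h : ∀ U : Submodule k A, Module.Finite k U → IsSubcomod (k := k) (A := A) U → (1 : A) ∈ U →
      ∃ φ : A →ₗ[k] k, φ 1 = 1 ∧ ∀ a ∈ U, sliceL φ (CoalgebraStruct.comul (R := k) a) = φ a • (1 : A)) :
    ∃ α : A →ₗ[k] k, IsIntegral α ∧ α 1 = 1 := by
  classical
  let Q : Submodule k A → (A →ₗ[k] k) → Prop := fun U φ =>
    φ 1 = 1 ∧ ∀ a ∈ U, sliceL φ (CoalgebraStruct.comul (R := k) a) = φ a • (1 : A)
  let S : Set (Submodule k A) := {C | Module.Finite k C ∧ IsSubcomod (k := k) (A := A) C ∧ (1 : A) ∈ C ∧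
    ∀ a ∈ C, HopfAlgebra.antipode k a ∈ C}
  have huniq : ∀ C ∈ S, ∀ φ ψ, Q C φ → Q C ψ → ∀ a ∈ C, φ a = ψ a := by
    intro C hC φ ψ hφ hψ a ha
    have h1 : ∀ χ, Q C χ → χ a = ψ (HopfAlgebra.antipode k a) := by
      intro χ hχ
      have hS : sliceR (ψ ∘ₗ HopfAlgebra.antipode k) (CoalgebraStruct.comul (R := k) a) =
          ψ (HopfAlgebra.antipode k a) • (1 : A) := by
        have h := congrArg (HopfAlgebra.antipode k) (hψ.2 _ (hC.2.2.2 a ha))
        rw [map_smul, HopfAlgebra.antipode_one, comul_antipode] at h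
        refine Eq.trans ?_ h
        generalize CoalgebraStruct.comul (R := k) a = z
        induction z using TensorProduct.induction_on with
        | zero => simp
        | tmul p q =>
          simp only [sliceR_tmul, LinearMap.coe_comp, Function.comp_apply, TensorProduct.comm_tmul,
            TensorProduct.map_tmul, sliceL_tmul, map_smul, antipode_antipode]
        | add u v hu hv => simp only [map_add, hu, hv]
      have h := apply_sliceL_eq_apply_sliceR χ (ψ ∘ₗ HopfAlgebra.antipode k) (CoalgebraStruct.comul (R := k) a)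
      rw [hχ.2 a ha, hS] at h
      simpa [hψ.1, hχ.1] using h
    rw [h1 φ hφ, ← h1 ψ hψ]
  have hex : ∀ s : Set A, s.Finite → ∃ C ∈ S, s ⊆ C := by
    intro s hs
    obtain ⟨C, hCf, hsC, hC⟩ := exists_finite_subcoalg k (hs.insert 1)
    let σ := HopfAlgebra.antipode k (A := A)
    have hσC : IsSubcomod (k := k) (A := A) (C.map σ) := by
      rintro _ ⟨c, hc, rfl⟩
      show CoalgebraStruct.comul (R := k) (σ c) ∈ _
      rw [comul_antipode]
      obtain ⟨z, hz⟩ := hC c hc
      rw [← hz]
      clear hz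
      induction z using TensorProduct.induction_on with
      | zero => simp
      | tmul p q =>
        exact ⟨(⟨σ q, Submodule.mem_map_of_mem q.2⟩ : C.map σ) ⊗ₜ[k] σ p, by simp [σ]⟩
      | add u v hu hv => simp only [map_add]; exact add_mem hu hv
    refine ⟨C ⊔ C.map σ, ⟨?_, isSubcomod_sup (IsSubcoalg.isSubcomod hC) hσC,
      Submodule.mem_sup_left (hsC (Set.mem_insert _ _)), ?_⟩,
      fun x hx => Submodule.mem_sup_left (hsC (Set.mem_insert_of_mem _ hx))⟩
    · haveI : Module.Finite k (C.map σ) := Module.Finite.map C σ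
      exact Submodule.finite_sup _ _
    · intro a ha
      obtain ⟨y, hy, z, hz, rfl⟩ := Submodule.mem_sup.1 ha
      obtain ⟨c, hc, rfl⟩ := hz
      rw [map_add, show HopfAlgebra.antipode k (σ c) = c from antipode_antipode c]
      exact add_mem (Submodule.mem_sup_right (Submodule.mem_map_of_mem hy)) (Submodule.mem_sup_left hc)
  choose φ hφ using fun C : S => h C.1 C.2.1 C.2.2.1 C.2.2.2.1
  choose C hC hmem using fun a : A => hex {a} (Set.finite_singleton a)
  let f : A → k := fun a => φ ⟨C a, hC a⟩ a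
  have hf : ∀ (D : S) (a : A), a ∈ D.1 → f a = φ D a := by
    intro D a ha
    obtain ⟨E, hE, hEs⟩ := hex (Set.range (Subtype.val : ({a} : Set A) → A)) (Set.finite_range _)
    have haE : a ∈ E := hEs ⟨⟨a, rfl⟩, rfl⟩
    let M : Submodule k A := C a ⊔ D.1
    have key : ∀ (B : S), a ∈ B.1 → ∀ (B' : S), B.1 ≤ B'.1 → φ B a = φ B' a := fun B hB B' hle =>
      huniq B.1 B.2 _ _ (hφ B) ⟨(hφ B').1, fun x hx => (hφ B').2 x (hle hx)⟩ a hB
    have hM : M ∈ S := ⟨by haveI := (hC a).1; haveI := D.2.1; exact Submodule.finite_sup _ _,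
      isSubcomod_sup (hC a).2.1 D.2.2.1, Submodule.mem_sup_left (hC a).2.2.1, fun x hx => by
        obtain ⟨y, hy, z, hz, rfl⟩ := Submodule.mem_sup.1 hx
        rw [map_add]
        exact add_mem (Submodule.mem_sup_left ((hC a).2.2.2 y hy)) (Submodule.mem_sup_right (D.2.2.2.2 z hz))⟩
    exact (key ⟨C a, hC a⟩ (hmem a rfl) ⟨M, hM⟩ le_sup_left).trans (key D ha ⟨M, hM⟩ le_sup_right).symm
  have hadd : ∀ a b, f (a + b) = f a + f b := by
    intro a b
    obtain ⟨D, hD, hs⟩ := hex {a, b} (by simp)
    have ha : a ∈ D := hs (by simp)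
    have hb : b ∈ D := hs (by simp)
    rw [hf ⟨D, hD⟩ _ (add_mem ha hb), hf ⟨D, hD⟩ _ ha, hf ⟨D, hD⟩ _ hb, map_add]
  have hsmul : ∀ (c : k) a, f (c • a) = c * f a := by
    intro c a
    rw [hf ⟨C a, hC a⟩ _ ((C a).smul_mem c (hmem a rfl)), map_smul, smul_eq_mul]
  let α : A →ₗ[k] k := ⟨⟨f, hadd⟩, hsmul⟩
  refine ⟨α, fun a => ?_, ?_⟩
  · obtain ⟨z, hz⟩ := (hC a).2.1 a (hmem a rfl)
    have h2 := (hφ ⟨C a, hC a⟩).2 a (hmem a rfl)
    rw [show Comod.coact (k := k) (A := A) a = CoalgebraStruct.comul (R := k) a from rfl] at hz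
    rw [← hz] at h2 ⊢
    rw [sliceL_rTensor] at h2 ⊢
    rw [show α ∘ₗ (C a).subtype = φ ⟨C a, hC a⟩ ∘ₗ (C a).subtype from
      LinearMap.ext fun x => hf ⟨C a, hC a⟩ x x.2]
    exact h2
  · exact (hf ⟨C 1, hC 1⟩ 1 (hmem 1 rfl)).trans (hφ _).1

variable (k) in
/-- The transpose-inverse structure attached to a basis of a finite subcomodule of the regular comodule. -/
theorem exists_dual_data {U : Submodule k A} [Module.Finite k U] (hU : IsSubcomod (k := k) (A := A) U)
    (h1 : (1 : A) ∈ U) : ∃ (d : Comod k A U) (π : U →ₗ[k] k), Function.Surjective π ∧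
      (π.rTensor A ∘ₗ d.coact = (TensorProduct.mk k k A).flip (1 : A) ∘ₗ π) ∧
      ∀ v : U, d.coact v = v ⊗ₜ[k] (1 : A) → π v = 1 →
        ∃ φ : A →ₗ[k] k, φ 1 = 1 ∧ ∀ a ∈ U, sliceL φ (CoalgebraStruct.comul (R := k) a) = φ a • (1 : A) := by
  classical
  let b := Module.Free.chooseBasis k U
  obtain ⟨m, hm, hcm, hem⟩ := exists_matCoeff_of_isSubcomod hU b
  let c : U →ₗ[k] U ⊗[k] A := b.constr k fun i => ∑ j, b j ⊗ₜ[k] HopfAlgebra.antipode k (m i j)
  have hc : ∀ i, c (b i) = ∑ j, b j ⊗ₜ[k] HopfAlgebra.antipode k (m i j) := fun i => b.constr_basis k _ i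
  let d : Comod k A U :=
    { coact := c
      coassoc := by
        refine b.ext fun i => ?_
        simp only [LinearMap.coe_comp, Function.comp_apply, LinearEquiv.coe_coe, hc, map_sum, LinearMap.rTensor_tmul,
          TensorProduct.sum_tmul, TensorProduct.assoc_tmul, LinearMap.lTensor_tmul, comul_antipode, hcm,
          TensorProduct.comm_tmul, TensorProduct.map_tmul, TensorProduct.tmul_sum]
        exact Finset.sum_comm
      counit_comp := by
        refine b.ext fun i => ?_
        simp only [LinearMap.coe_comp, Function.comp_apply, hc, map_sum, LinearMap.lTensor_tmul,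
          HopfAlgebra.counit_antipode, hem, LinearMap.flip_apply, TensorProduct.mk_apply]
        simp [TensorProduct.tmul_ite] }
  let r : _ → k := fun i => b.repr ⟨1, h1⟩ i
  let π : U →ₗ[k] k := b.constr k r
  have hπ : ∀ i, π (b i) = r i := fun i => b.constr_basis k _ i
  have hone : (∑ i, r i • (b i : A)) = 1 := by
    have := congrArg U.subtype (b.sum_repr ⟨1, h1⟩)
    rw [map_sum] at this
    simpa only [map_smul, Submodule.coe_subtype] using this
  choose g hg using fun i => LinearMap.exists_extend (p := U) (b.coord i)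
  have hgb : ∀ i j, g i (b j : A) = if i = j then 1 else 0 := by
    intro i j
    rw [show g i (b j : A) = b.coord i (b j) from LinearMap.congr_fun (hg i) (b j)]
    simp [Finsupp.single_apply, eq_comm]
  have hrow : ∀ i, (∑ j, r j • m i j) = r i • (1 : A) := by
    intro i
    have e : (CoalgebraStruct.comul (R := k) (1 : A)) = ∑ j, r j • ∑ l, (b l : A) ⊗ₜ[k] m l j := by
      conv_lhs => rw [← hone]
      rw [map_sum]
      refine Finset.sum_congr rfl fun j _ => ?_
      rw [map_smul]
      exact congrArg _ (hm j)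
    have h3 := congrArg (sliceL (g i)) e
    rw [Bialgebra.comul_one, Algebra.TensorProduct.one_def, sliceL_tmul] at h3
    simp only [map_sum, map_smul, sliceL_tmul, hgb, ite_smul, one_smul, zero_smul, Finset.sum_ite_eq,
      Finset.mem_univ, if_true] at h3
    rw [← h3]
    congr 1
    conv_lhs => rw [← hone]
    simp [map_sum, hgb]
  refine ⟨d, π, ?_, ?_, ?_⟩
  · refine LinearMap.surjective_iff_ne_zero.2 fun h0 => one_ne_zero (α := k) ?_
    have h2 : (1 : A) = 0 := by
      rw [← hone]
      refine Finset.sum_eq_zero fun i _ => ?_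
      rw [← hπ, h0, LinearMap.zero_apply, zero_smul]
    simpa using congrArg (Coalgebra.counit (R := k)) h2
  · refine b.ext fun i => ?_
    show π.rTensor A (c (b i)) = π (b i) ⊗ₜ[k] (1 : A)
    simp only [hc, map_sum, LinearMap.rTensor_tmul, hπ]
    have e := congrArg (fun a => (1 : k) ⊗ₜ[k] HopfAlgebra.antipode k a) (hrow i)
    simp only [map_sum, map_smul, HopfAlgebra.antipode_one, TensorProduct.tmul_sum, TensorProduct.tmul_smul,
      TensorProduct.smul_tmul', smul_eq_mul, mul_one] at e
    exact e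
  · intro v hv hv1
    refine ⟨∑ i, b.repr v i • g i, ?_, ?_⟩
    · have hv2 : π v = ∑ i, b.repr v i * r i := by
        conv_lhs => rw [← b.sum_repr v]
        simp only [map_sum, map_smul, hπ, smul_eq_mul]
      rw [← hv1, hv2]
      conv_lhs => rw [← hone]
      simp [map_sum, hgb, mul_comm]
    · have hcol : ∀ j, (∑ i, b.repr v i • m i j) = b.repr v j • (1 : A) := by
        intro j
        have e := congrArg (sliceL (b.coord j)) hv
        have hcv : c v = ∑ i, b.repr v i • c (b i) := by
          conv_lhs => rw [← b.sum_repr v]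
          simp only [map_sum, map_smul]
        rw [show d.coact v = c v from rfl, hcv] at e
        simp only [map_sum, map_smul, hc, sliceL_tmul, Module.Basis.coord_apply, b.repr_self,
          Finsupp.single_apply, ite_smul, one_smul, zero_smul, Finset.sum_ite_eq', Finset.mem_univ, if_true] at e
        have e' := congrArg (HopfAlgebra.antipode k) e
        simp only [map_sum, map_smul, HopfAlgebra.antipode_one, antipode_antipode] at e'
        exact e'
      intro a ha
      have key : ∀ u : U, sliceL (∑ i, b.repr v i • g i) (CoalgebraStruct.comul (R := k) (u : A)) =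
          (∑ i, b.repr v i • g i) (u : A) • (1 : A) := by
        refine fun u => LinearMap.congr_fun (b.ext (f₁ := sliceL (∑ i, b.repr v i • g i) ∘ₗ
          CoalgebraStruct.comul (R := k) ∘ₗ U.subtype)
          (f₂ := ((∑ i, b.repr v i • g i).smulRight (1 : A)) ∘ₗ U.subtype) fun j => ?_) u
        show sliceL _ (CoalgebraStruct.comul (R := k) (b j : A)) = (∑ i, b.repr v i • g i) (b j : A) • (1 : A)
        rw [show CoalgebraStruct.comul (R := k) (b j : A) = _ from hm j]
        simp only [map_sum, sliceL_tmul, LinearMap.sum_apply, LinearMap.smul_apply, hgb, smul_eq_mul, mul_ite,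
          mul_one, mul_zero, Finset.sum_ite_eq', Finset.mem_univ, if_true]
        exact hcol j
      exact key ⟨a, ha⟩

theorem isLinearlyReductive_of_forall_exists_fixed
    (h : ∀ (V : Type v) [AddCommGroup V] [Module k V] [Comod k A V], Module.Finite k V →
      ∀ π : V →ₗ[k] k, Function.Surjective π →
        π.rTensor A ∘ₗ Comod.coact (k := k) (A := A) (V := V) = (TensorProduct.mk k k A).flip (1 : A) ∘ₗ π →
          ∃ v ∈ fixedPts k A V, π v ≠ 0) : IsLinearlyReductive k A := by
  refine isLinearlyReductive_iff_exists_isIntegral.2 (exists_isIntegral_of_local fun U hUf hU h1 => ?_)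
  obtain ⟨d, π, hs, hπ, hd⟩ := exists_dual_data k hU h1
  obtain ⟨v, hv, hv0⟩ := @h U _ _ d hUf π hs hπ
  refine hd ((π v)⁻¹ • v) ?_ (by simp [hv0])
  letI := d
  exact Submodule.smul_mem _ _ hv

theorem isLinearlyReductive_of_forall_cocycles_one
    (h : ∀ (V : Type v) [AddCommGroup V] [Module k V] [Comod k A V], Module.Finite k V →
      Hoch.cocycles k A V 1 ≤ Hoch.coboundaries k A V 1) : IsLinearlyReductive k A := by
  refine isLinearlyReductive_of_forall_exists_fixed fun V _ _ _ hV π hs hπ => ?_
  obtain ⟨v₀, hv₀⟩ := hs 1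
  have hπ' : ∀ x, π.rTensor A (Comod.coact (k := k) (A := A) x) = π x ⊗ₜ[k] (1 : A) := LinearMap.congr_fun hπ
  have hK : IsSubcomod (k := k) (A := A) (LinearMap.ker π) := by
    intro x hx
    refine (rTensor_exact A (LinearMap.exact_subtype_ker_map π) hs _).1 ?_
    rw [hπ', LinearMap.mem_ker.1 hx, TensorProduct.zero_tmul]
  letI cK := ComodSub.Comod.restr (inferInstance : Comod k A V) (LinearMap.ker π) hK
  have hi : Hoch.IsComodHom A (LinearMap.ker π).subtype :=
    ComodSub.isComodHom_subtype _ _ hK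
  obtain ⟨z, hz⟩ : Comod.coact (k := k) (A := A) v₀ - v₀ ⊗ₜ[k] (1 : A) ∈
      LinearMap.range ((LinearMap.ker π).subtype.rTensor A) := by
    refine (rTensor_exact A (LinearMap.exact_subtype_ker_map π) hs _).1 ?_
    rw [map_sub, hπ', LinearMap.rTensor_tmul, sub_self]
  have hzc : z ∈ Hoch.cocycles k A (LinearMap.ker π) 1 := by
    apply cochainMap_injective (A := A) (LinearMap.ker π).injective_subtype 2
    rw [map_zero, ← d_cochainMap hi,
      show cochainMap (A := A) (LinearMap.ker π).subtype 1 z = Hoch.d k A V 0 v₀ from hz]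
    exact d_one_d_zero v₀
  obtain ⟨κ, hκ⟩ := @h _ _ _ cK inferInstance z hzc
  refine ⟨v₀ - κ, ?_, ?_⟩
  · show Comod.coact (k := k) (A := A) (v₀ - (κ : V)) = (v₀ - (κ : V)) ⊗ₜ[k] (1 : A)
    have h2 := d_cochainMap hi 0 κ
    rw [hκ, show cochainMap (A := A) (LinearMap.ker π).subtype (0 + 1) z = _ from hz] at h2
    change Comod.coact (k := k) (A := A) (κ : V) - (κ : V) ⊗ₜ[k] (1 : A) = _ at h2
    rw [map_sub, TensorProduct.sub_tmul]
    rw [sub_eq_sub_iff_sub_eq_sub]
    exact h2.symm
  · rw [map_sub, hv₀, LinearMap.mem_ker.1 κ.2, sub_zero]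
    exact one_ne_zero

end Crit

end

end Groth.Agent.H20Comod
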