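import Groth.Agent.H20Comod.Apolar
import Groth.Agent.H20Comod.LinRedCrit
import Groth.Prelude.Def_GLin5
import Mathlib.LinearAlgebra.Matrix.MvPolynomial
import Mathlib.RingTheory.Localization.FractionRing

/-!
The invariant integral on the coordinate ring of the general linear group in characteristic zero.
-/

set_option autoImplicit false

universe u

open TensorProduct CoordGrp HopfRep

namespace Groth.Agent.H20Comod

noncomputable section

variable {n : ℕ} {k : Type u} [Field k]

/-- The inclusion `O(M_n) → O(GL_n)` as an algebra map. -/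
abbrev matToGL (n : ℕ) (k : Type u) [CommRing k] : Mat n k →ₐ[k] GLn n k := Mat.aeval n k (GLn.genMat n k)

theorem toGLn_apply (f : Mat n k) : Mat.toGLn n k f = matToGL n k f := rfl

theorem matToGL_det : matToGL n k (Mat.det n k) = GLn.det := by
  rw [Mat.det, AlgHom.map_det, Mat.aeval_mapMatrix_genMat, GLn.det_eq]

theorem mat_det_ne_zero : Mat.det n k ≠ 0 := Matrix.det_mvPolynomialX_ne_zero (Fin n) k

theorem matToGL_injective : Function.Injective (matToGL n k) := by
  let Q := FractionRing (Mat n k)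
  let M : Matrix (Fin n) (Fin n) Q := (IsScalarTower.toAlgHom k (Mat n k) Q).mapMatrix (Mat.genMat n k)
  have hM : M.det = algebraMap (Mat n k) Q (Mat.det n k) := by
    rw [show M.det = _ from ((IsScalarTower.toAlgHom k (Mat n k) Q).map_det (Mat.genMat n k)).symm]
    rfl
  have hd : M.det * (algebraMap (Mat n k) Q (Mat.det n k))⁻¹ = 1 := by
    rw [hM, mul_inv_cancel₀]
    exact fun h => mat_det_ne_zero (IsFractionRing.injective (Mat n k) Q (h.trans (map_zero _).symm))
  have h : (GLn.pt n k M _ hd).comp (matToGL n k) = IsScalarTower.toAlgHom k (Mat n k) Q :=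
    Mat.algHom_ext fun i j => by simp [GLn.genMat, M, Mat.genMat]
  intro x y hxy
  apply IsFractionRing.injective (Mat n k) Q
  show IsScalarTower.toAlgHom k (Mat n k) Q x = IsScalarTower.toAlgHom k (Mat n k) Q y
  rw [← h, AlgHom.comp_apply, AlgHom.comp_apply, hxy]

theorem exists_matToGL_eq (a : GLn n k) :
    ∃ (f : Mat n k) (c : ℕ), GLn.det ^ c * a = matToGL n k f := by
  obtain ⟨x, rfl⟩ := Ideal.Quotient.mk_surjective a
  change ∃ (f : Mat n k) (c : ℕ), GLn.det ^ c * GLn.mk n k x = matToGL n k f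
  induction x using MvPolynomial.induction_on with
  | C a => exact ⟨algebraMap k _ a, 0, by rw [pow_zero, one_mul, AlgHom.commutes]; exact (GLn.mk n k).commutes a⟩
  | add p q hp hq =>
    obtain ⟨f, c, hf⟩ := hp
    obtain ⟨g, e, hg⟩ := hq
    refine ⟨Mat.det n k ^ e * f + Mat.det n k ^ c * g, c + e, ?_⟩
    rw [show GLn.mk n k (p + q) = GLn.mk n k p + GLn.mk n k q from map_add _ _ _, map_add, map_mul, map_mul,
      map_pow, map_pow, matToGL_det, ← hf, ← hg, pow_add]
    ring
  | mul_X p s hp =>
    obtain ⟨f, c, hf⟩ := hp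
    cases s with
    | inl q =>
      refine ⟨f * Mat.X q.1 q.2, c, ?_⟩
      show GLn.det ^ c * GLn.mk n k (@HMul.hMul (GLb n k) (GLb n k) (GLb n k) _ p (GLb.X q.1 q.2)) = _
      rw [map_mul (GLn.mk n k), map_mul (matToGL n k), ← hf, Mat.aeval_X, mul_assoc]
      rfl
    | inr u =>
      refine ⟨f, c + 1, ?_⟩
      show GLn.det ^ (c + 1) * GLn.mk n k (@HMul.hMul (GLb n k) (GLb n k) (GLb n k) _ p GLb.D) = _
      rw [map_mul (GLn.mk n k), GLn.mk_D, ← hf, pow_succ]
      calc _ = GLn.det ^ c * GLn.mk n k p * (GLn.det * GLn.Dinv) := by ring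
        _ = _ := by rw [GLn.det_mul_Dinv, mul_one]

theorem eq_matToGL_mul_Dinv {a : GLn n k} {f : Mat n k} {c : ℕ} (h : GLn.det ^ c * a = matToGL n k f) :
    a = matToGL n k f * GLn.Dinv ^ c := by
  rw [← h, mul_comm (GLn.det ^ c) a, mul_assoc, ← mul_pow, GLn.det_mul_Dinv, one_pow, mul_one]

theorem det_pow_mul_eq {f : Mat n k} {c : ℕ} :
    GLn.det ^ c * (matToGL n k f * GLn.Dinv ^ c) = matToGL n k f := by
  rw [mul_left_comm, ← mul_pow, GLn.det_mul_Dinv, one_pow, mul_one]

/-! ### The functional `⟨det^c, ·⟩` -/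

/-- `f ↦ ⟨det^c, f⟩`. -/
def detPairing (n : ℕ) (k : Type u) [Field k] (c : ℕ) : Mat n k →ₗ[k] k :=
  apolar (Fin n × Fin n) k ((Mat.toPoly n k (Mat.det n k)) ^ c) ∘ₗ (Mat.toPoly n k).toLinearMap

theorem detPairing_det_ne_zero [CharZero k] (c : ℕ) : detPairing n k c (Mat.det n k ^ c) ≠ 0 := by
  set P : MvPolynomial (Fin n × Fin n) ℤ := (Matrix.mvPolynomialX (Fin n) (Fin n) ℤ).det
  have hP : MvPolynomial.map (Int.castRingHom k) P = Mat.toPoly n k (Mat.det n k) := by
    rw [RingHom.map_det]
    show _ = (Matrix.mvPolynomialX (Fin n) (Fin n) k).det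
    congr 1
    ext i j
    simp
  rw [detPairing, LinearMap.comp_apply, AlgEquiv.toLinearMap_apply, map_pow (Mat.toPoly n k), ← hP,
    ← map_pow (MvPolynomial.map (Int.castRingHom k))]
  exact apolar_map_self_ne_zero (pow_ne_zero c (Matrix.det_mvPolynomialX_ne_zero (Fin n) ℤ))

/-- The left factor of a tensor as a polynomial over the right one. -/
def polyOver (n : ℕ) (k : Type u) [CommRing k] :
    Mat n k ⊗[k] Mat n k →ₐ[k] MvPolynomial (Fin n × Fin n) (Mat n k) :=
  Algebra.TensorProduct.lift
    ((MvPolynomial.aeval fun p => MvPolynomial.X p :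
      MvPolynomial (Fin n × Fin n) k →ₐ[k] MvPolynomial (Fin n × Fin n) (Mat n k)).comp (Mat.toPoly n k).toAlgHom)
    (IsScalarTower.toAlgHom k (Mat n k) (MvPolynomial (Fin n × Fin n) (Mat n k))) (fun _ _ => Commute.all _ _)

theorem polyOver_tmul (x y : Mat n k) :
    polyOver n k (x ⊗ₜ y) =
      MvPolynomial.map (algebraMap k (Mat n k)) (Mat.toPoly n k x) * MvPolynomial.C y := by
  rw [polyOver, Algebra.TensorProduct.lift_tmul]
  congr 1
  show MvPolynomial.aeval _ (Mat.toPoly n k x) = _
  generalize Mat.toPoly n k x = p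
  induction p using MvPolynomial.induction_on with
  | C a => simp [IsScalarTower.algebraMap_apply k (Mat n k) (MvPolynomial (Fin n × Fin n) (Mat n k))]
  | add p q hp hq => simp only [map_add, hp, hq]
  | mul_X p i hp => simp only [map_mul, hp, MvPolynomial.aeval_X, MvPolynomial.map_X]

/-- The matrix of right multiplication by the generic matrix. -/
def rightMulMat (n : ℕ) (k : Type u) [CommRing k] : Matrix (Fin n × Fin n) (Fin n × Fin n) (Mat n k) :=
  fun p q => if q.1 = p.1 then Mat.X q.2 p.2 else 0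

theorem polyOver_comul (f : Mat n k) :
    polyOver n k (CoalgebraStruct.comul (R := k) f) =
      MvPolynomial.aeval (linSubst (rightMulMat n k))
        (MvPolynomial.map (algebraMap k (Mat n k)) (Mat.toPoly n k f)) := by
  have h : (polyOver n k).comp (Bialgebra.comulAlgHom k (Mat n k)) =
      (((MvPolynomial.aeval (linSubst (rightMulMat n k)) :
        MvPolynomial (Fin n × Fin n) (Mat n k) →ₐ[Mat n k] MvPolynomial (Fin n × Fin n) (Mat n k)).restrictScalars k).comp
          (MvPolynomial.mapAlgHom (Algebra.ofId k (Mat n k)))).comp (Mat.toPoly n k).toAlgHom := by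
    refine Mat.algHom_ext fun i j => ?_
    show polyOver n k (CoalgebraStruct.comul (R := k) (Mat.X i j)) =
      MvPolynomial.aeval (linSubst (rightMulMat n k))
        (MvPolynomial.map (algebraMap k (Mat n k)) (MvPolynomial.X (i, j)))
    rw [Mat.comul_X, map_sum, MvPolynomial.map_X, MvPolynomial.aeval_X, linSubst, Fintype.sum_prod_type,
      Finset.sum_eq_single i (fun a _ ha => Finset.sum_eq_zero fun b _ => by simp [rightMulMat, ha])
        (fun h => absurd (Finset.mem_univ i) h)]
    refine Finset.sum_congr rfl fun l _ => ?_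
    rw [polyOver_tmul, show Mat.toPoly n k (Mat.X i l) = MvPolynomial.X (i, l) from rfl, MvPolynomial.map_X,
      mul_comm]
    simp [rightMulMat]
  exact DFunLike.congr_fun h f

theorem aeval_transpose_det :
    MvPolynomial.aeval (linSubst (rightMulMat n k).transpose)
        (MvPolynomial.map (algebraMap k (Mat n k)) (Mat.toPoly n k (Mat.det n k))) =
      MvPolynomial.C (Mat.det n k) * MvPolynomial.map (algebraMap k (Mat n k)) (Mat.toPoly n k (Mat.det n k)) := by
  set S := MvPolynomial (Fin n × Fin n) (Mat n k)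
  have hmap : MvPolynomial.map (algebraMap k (Mat n k)) (Mat.toPoly n k (Mat.det n k)) =
      (Matrix.mvPolynomialX (Fin n) (Fin n) (Mat n k)).det := by
    show MvPolynomial.map _ (Matrix.mvPolynomialX (Fin n) (Fin n) k).det = _
    rw [RingHom.map_det]
    congr 1
    ext i j
    simp
  rw [hmap, Mat.det, RingHom.map_det, AlgHom.map_det,
    ← Matrix.det_transpose ((MvPolynomial.C : Mat n k →+* S).mapMatrix _), mul_comm, ← Matrix.det_mul]
  congr 1
  refine Matrix.ext fun a b => ?_
  simp only [AlgHom.mapMatrix_apply, Matrix.map_apply, Matrix.mul_apply, Matrix.mvPolynomialX_apply,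
    Matrix.transpose_apply, RingHom.mapMatrix_apply, MvPolynomial.aeval_X, linSubst, Fintype.sum_prod_type]
  refine (Finset.sum_eq_single a ?_ (fun h => absurd (Finset.mem_univ a) h)).trans ?_
  · intro x _ hx
    apply Finset.sum_eq_zero
    intro y _
    simp [rightMulMat, Ne.symm hx]
  refine Finset.sum_congr rfl fun l _ => ?_
  simp [rightMulMat, Mat.genMat, mul_comm]

theorem sliceL_detPairing_comul (c : ℕ) (f : Mat n k) :
    sliceL (detPairing n k c) (CoalgebraStruct.comul (R := k) f) = detPairing n k c f • Mat.det n k ^ c := by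
  have h : ∀ z : Mat n k ⊗[k] Mat n k, sliceL (detPairing n k c) z =
      apolar (Fin n × Fin n) (Mat n k)
        (MvPolynomial.map (algebraMap k (Mat n k)) (Mat.toPoly n k (Mat.det n k) ^ c)) (polyOver n k z) := by
    intro z
    induction z using TensorProduct.induction_on with
    | zero => simp
    | tmul x y =>
      rw [sliceL_tmul, polyOver_tmul, mul_comm, MvPolynomial.C_mul', map_smul, apolar_map, smul_eq_mul,
        Algebra.smul_def, mul_comm]
      rfl
    | add u v hu hv => simp only [map_add, hu, hv]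
  rw [h, polyOver_comul, apolar_aeval_linSubst, map_pow, map_pow, aeval_transpose_det, mul_pow, ← map_pow,
    MvPolynomial.C_mul', map_smul, LinearMap.smul_apply, ← map_pow, apolar_map, smul_eq_mul, Algebra.smul_def,
    mul_comm]
  rfl

/-! ### Linear reductivity -/

theorem exists_pow_mul_mem_range (U : Submodule k (GLn n k)) [Module.Finite k U] :
    ∃ c : ℕ, ∀ a ∈ U, GLn.det ^ c * a ∈ LinearMap.range (matToGL n k).toLinearMap := by
  classical
  obtain ⟨s, hs⟩ := Module.Finite.iff_fg.1 (inferInstance : Module.Finite k U)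
  choose f c hf using exists_matToGL_eq (n := n) (k := k)
  refine ⟨s.sup c, fun a ha => ?_⟩
  rw [← hs] at ha
  induction ha using Submodule.span_induction with
  | mem x hx =>
    obtain ⟨e, he⟩ := Nat.exists_eq_add_of_le (Finset.le_sup (f := c) hx)
    refine ⟨Mat.det n k ^ e * f x, ?_⟩
    show matToGL n k _ = _
    rw [map_mul, map_pow, matToGL_det, ← hf, he, pow_add]
    ring
  | zero => simp
  | add x y _ _ hx hy => rw [mul_add]; exact add_mem hx hy
  | smul r x _ hx => rw [mul_smul_comm]; exact Submodule.smul_mem _ r hx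

variable (n k) in
theorem exists_isIntegral_GLn [CharZero k] :
    ∃ α : GLn n k →ₗ[k] k, IsIntegral α ∧ α 1 = 1 := by
  refine exists_isIntegral_of_local fun U hU _ _ => ?_
  obtain ⟨c, hc⟩ := exists_pow_mul_mem_range U
  obtain ⟨r, hr⟩ := (matToGL n k).toLinearMap.exists_leftInverse_of_injective
    (LinearMap.ker_eq_bot.2 matToGL_injective)
  have hr' : ∀ f, r (matToGL n k f) = f := LinearMap.congr_fun hr
  set N := detPairing n k c (Mat.det n k ^ c) with hN
  have hN0 : N ≠ 0 := detPairing_det_ne_zero c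
  let φ : GLn n k →ₗ[k] k := N⁻¹ • detPairing n k c ∘ₗ r ∘ₗ LinearMap.mulLeft k (GLn.det ^ c)
  have hφ : ∀ f, φ (matToGL n k f * GLn.Dinv ^ c) = N⁻¹ * detPairing n k c f := by
    intro f
    simp only [φ, LinearMap.smul_apply, LinearMap.coe_comp, Function.comp_apply, LinearMap.mulLeft_apply,
      det_pow_mul_eq, hr', smul_eq_mul]
  have h1 : φ 1 = 1 := by
    have h := hφ (Mat.det n k ^ c)
    rw [map_pow, matToGL_det, ← mul_pow, GLn.det_mul_Dinv, one_pow] at h
    rw [h, ← hN, inv_mul_cancel₀ hN0]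
  refine ⟨φ, h1, fun a ha => ?_⟩
  obtain ⟨f, hf⟩ := hc a ha
  change matToGL n k f = _ at hf
  rw [eq_matToGL_mul_Dinv hf.symm, hφ]
  have hz : ∀ z : Mat n k ⊗[k] Mat n k, sliceL φ
      (Algebra.TensorProduct.map (matToGL n k) (matToGL n k) z * ((GLn.Dinv ^ c) ⊗ₜ[k] (GLn.Dinv ^ c))) =
        N⁻¹ • (matToGL n k (sliceL (detPairing n k c) z) * GLn.Dinv ^ c) := by
    intro z
    induction z using TensorProduct.induction_on with
    | zero => simp
    | tmul x y =>
      rw [Algebra.TensorProduct.map_tmul, Algebra.TensorProduct.tmul_mul_tmul, sliceL_tmul, hφ, sliceL_tmul,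
        map_smul, smul_mul_assoc, smul_smul]
    | add u v hu hv => simp only [map_add, add_mul, hu, hv, smul_add]
  have hΔ : CoalgebraStruct.comul (R := k) (matToGL n k f * GLn.Dinv ^ c) =
      Algebra.TensorProduct.map (matToGL n k) (matToGL n k) (CoalgebraStruct.comul (R := k) f) *
        ((GLn.Dinv ^ c) ⊗ₜ[k] (GLn.Dinv ^ c)) := by
    rw [Bialgebra.comul_mul, Bialgebra.comul_pow, GLn.comul_Dinv, Algebra.TensorProduct.tmul_pow]
    congr 1
    exact (CoalgHomClass.map_comp_comul_apply (Mat.toGLn n k) f).symm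
  rw [hΔ, hz, sliceL_detPairing_comul, map_smul, map_pow, matToGL_det, smul_mul_assoc, ← mul_pow,
    GLn.det_mul_Dinv, one_pow, smul_smul]

theorem isLinearlyReductive_GLn (n : ℕ) (k : Type u) [Field k] [CharZero k] :
    IsLinearlyReductive k (GLn n k) :=
  isLinearlyReductive_iff_exists_isIntegral.2 (exists_isIntegral_GLn n k)

end

end Groth.Agent.H20Comod
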