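import Groth.Agent.H20Comod.GLIntegral
import Mathlib.Algebra.BigOperators.Finprod
import Mathlib.RingTheory.MvPolynomial.Homogeneous

/-!
The invariant integral on the coordinate ring of the special linear group in characteristic zero.
-/

set_option autoImplicit false

universe u v

open TensorProduct CoordGrp HopfRep

namespace Groth.Agent.H20Comod

noncomputable section

theorem isLinearlyReductive_of_form {k : Type u} [Field k] {A B : Type v} [CommRing A] [Bialgebra k A]
    [CommRing B] [HopfAlgebra k B] (π : A →ₐc[k] B) (hπ : Function.Surjective π) (β : A →ₗ[k] k)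
    (h0 : ∀ a, π a = 0 → β a = 0) (h1 : β 1 = 1)
    (hinv : ∀ a, π (sliceL β (CoalgebraStruct.comul (R := k) a)) = β a • (1 : B)) :
    IsLinearlyReductive k B := by
  classical
  obtain ⟨s, hs⟩ := (π : A →ₗ[k] B).exists_rightInverse_of_surjective (LinearMap.range_eq_top.2 hπ)
  have hs' : ∀ b, π (s b) = b := LinearMap.congr_fun hs
  have hβ : ∀ a, β (s (π a)) = β a := fun a => by
    rw [← sub_eq_zero, ← map_sub]
    exact h0 _ (by rw [map_sub, hs', sub_self])
  refine isLinearlyReductive_iff_exists_isIntegral.2 ⟨β ∘ₗ s, fun b => ?_, ?_⟩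
  · rw [show b = π (s b) from (hs' b).symm]
    rw [← CoalgHomClass.map_comp_comul_apply π, LinearMap.comp_apply, hβ, ← hinv]
    generalize CoalgebraStruct.comul (R := k) (s b) = z
    induction z using TensorProduct.induction_on with
    | zero => simp
    | tmul x y => simp [hβ]
    | add u w hu hw => simp only [map_add, hu, hw]
  · show β (s 1) = 1
    rw [← map_one π, hβ, h1]

variable {n : ℕ} {k : Type u} [Field k]

/-- The determinant as a unit of `O(GL_n)`. -/
def detUnit (n : ℕ) (k : Type u) [CommRing k] : (GLn n k)ˣ :=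
  ⟨GLn.det, GLn.Dinv, GLn.det_mul_Dinv, GLn.Dinv_mul_det⟩

theorem comul_detUnit_zpow (m : ℤ) :
    CoalgebraStruct.comul (R := k) ((detUnit n k ^ m : (GLn n k)ˣ) : GLn n k) =
      ((detUnit n k ^ m : (GLn n k)ˣ) : GLn n k) ⊗ₜ[k] ((detUnit n k ^ m : (GLn n k)ˣ) : GLn n k) := by
  let F : (GLn n k)ˣ →* (GLn n k ⊗[k] GLn n k)ˣ :=
    Units.map (Bialgebra.comulAlgHom k (GLn n k)).toRingHom.toMonoidHom
  let G : (GLn n k)ˣ →* (GLn n k ⊗[k] GLn n k)ˣ :=
    Units.map (Algebra.TensorProduct.includeLeft (R := k) (S := k) (A := GLn n k) (B := GLn n k)).toRingHom.toMonoidHom *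
      Units.map (Algebra.TensorProduct.includeRight (R := k) (A := GLn n k) (B := GLn n k)).toRingHom.toMonoidHom
  have h : F (detUnit n k) = G (detUnit n k) := by
    refine Units.ext ?_
    show CoalgebraStruct.comul (R := k) (GLn.det : GLn n k) = (GLn.det ⊗ₜ[k] 1) * (1 ⊗ₜ[k] GLn.det)
    rw [GLn.comul_det, Algebra.TensorProduct.tmul_mul_tmul, one_mul, mul_one]
  have hm := congrArg (fun x : (GLn n k ⊗[k] GLn n k)ˣ => (x : GLn n k ⊗[k] GLn n k))
    (show F (detUnit n k ^ m) = G (detUnit n k ^ m) by rw [map_zpow, map_zpow, h])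
  refine hm.trans ?_
  show (_ ⊗ₜ[k] 1) * (1 ⊗ₜ[k] _) = _
  rw [Algebra.TensorProduct.tmul_mul_tmul, one_mul, mul_one]

/-- The scalar point `2 · 1`. -/
def twoPt (n : ℕ) (k : Type u) [Field k] [CharZero k] : GLn n k →ₐ[k] k :=
  GLn.pt n k ((2 : k) • (1 : Matrix (Fin n) (Fin n) k)) (((2 : k) ^ n)⁻¹) (by
    rw [Matrix.det_smul, Matrix.det_one, Fintype.card_fin, mul_one, mul_inv_cancel₀ (pow_ne_zero _ two_ne_zero)])

/-- Translation by the scalar point. -/
def twoTrans (n : ℕ) (k : Type u) [Field k] [CharZero k] : GLn n k →ₐ[k] GLn n k :=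
  (Algebra.TensorProduct.rid k k (GLn n k)).toAlgHom.comp
    ((Algebra.TensorProduct.map (AlgHom.id k _) (twoPt n k)).comp (Bialgebra.comulAlgHom k (GLn n k)))

theorem twoTrans_apply [CharZero k] (a : GLn n k) :
    twoTrans n k a = sliceR (twoPt n k).toLinearMap (CoalgebraStruct.comul (R := k) a) := by
  show Algebra.TensorProduct.rid k k (GLn n k)
    (Algebra.TensorProduct.map (AlgHom.id k _) (twoPt n k) (CoalgebraStruct.comul (R := k) a)) = _
  generalize CoalgebraStruct.comul (R := k) a = z
  induction z using TensorProduct.induction_on with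
  | zero => simp
  | tmul x y => simp
  | add u w hu hw => simp only [map_add, hu, hw]

theorem apply_twoTrans [CharZero k] {α : GLn n k →ₗ[k] k} (hα : IsIntegral α) (a : GLn n k) :
    α (twoTrans n k a) = α a := by
  rw [twoTrans_apply, ← apply_sliceL_eq_apply_sliceR, hα, map_smul, AlgHom.toLinearMap_apply, map_one,
    smul_eq_mul, mul_one]

theorem twoTrans_detUnit_zpow [CharZero k] (m : ℤ) :
    twoTrans n k ((detUnit n k ^ m : (GLn n k)ˣ) : GLn n k) =
      ((2 : k) ^ n) ^ m • ((detUnit n k ^ m : (GLn n k)ˣ) : GLn n k) := by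
  let w : kˣ := Units.mk0 ((2 : k) ^ n) (pow_ne_zero _ two_ne_zero)
  let F : (GLn n k)ˣ →* (GLn n k)ˣ := Units.map (twoTrans n k).toRingHom.toMonoidHom
  let C : kˣ →* (GLn n k)ˣ := Units.map (algebraMap k (GLn n k)).toMonoidHom
  have h : F (detUnit n k) = C w * detUnit n k := by
    refine Units.ext ?_
    show twoTrans n k (GLn.det : GLn n k) = algebraMap k (GLn n k) ((2 : k) ^ n) * GLn.det
    rw [twoTrans_apply, GLn.comul_det, sliceR_tmul, AlgHom.toLinearMap_apply, twoPt, GLn.pt_det, Matrix.det_smul,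
      Matrix.det_one, Fintype.card_fin, mul_one, Algebra.smul_def]
  have hm := congrArg (fun x : (GLn n k)ˣ => (x : GLn n k))
    (show F (detUnit n k ^ m) = C (w ^ m) * detUnit n k ^ m by rw [map_zpow, h, mul_zpow, map_zpow])
  refine hm.trans ?_
  rw [Units.val_mul, Algebra.smul_def]
  congr 1
  show algebraMap k (GLn n k) ((w ^ m : kˣ) : k) = _
  rw [Units.val_zpow_eq_zpow_val]
  rfl

theorem twoTrans_matToGL [CharZero k] (i j : Fin n) :
    twoTrans n k (GLn.X i j) = (2 : k) • GLn.X i j := by
  rw [twoTrans_apply, GLn.comul_X, map_sum, Finset.sum_eq_single j]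
  · simp [twoPt]
  · intro l _ hl
    simp [twoPt, Matrix.one_apply_ne hl]
  · simp

theorem twoTrans_monomial [CharZero k] (e : Fin n × Fin n →₀ ℕ) (r : k) :
    twoTrans n k (matToGL n k ((Mat.toPoly n k).symm (MvPolynomial.monomial e r))) =
      (2 : k) ^ e.degree • matToGL n k ((Mat.toPoly n k).symm (MvPolynomial.monomial e r)) := by
  show twoTrans n k (MvPolynomial.aeval (fun p : Fin n × Fin n => GLn.genMat n k p.1 p.2) (MvPolynomial.monomial e r)) =
    _ • MvPolynomial.aeval (fun p : Fin n × Fin n => GLn.genMat n k p.1 p.2) (MvPolynomial.monomial e r)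
  rw [← AlgHom.comp_apply, MvPolynomial.comp_aeval, MvPolynomial.aeval_monomial, MvPolynomial.aeval_monomial]
  simp only [GLn.genMat, twoTrans_matToGL, smul_pow]
  rw [Finsupp.prod, Finsupp.prod, Finset.prod_smul, mul_smul_comm, Finset.prod_pow_eq_pow_sum]
  rfl

/-- Only finitely many determinant twists of a given function have non-zero integral. -/
theorem finite_support_twist [CharZero k] (hn : 0 < n) {α : GLn n k →ₗ[k] k} (hα : IsIntegral α) (a : GLn n k) :
    (Function.support fun m : ℤ => α (a * ((detUnit n k ^ m : (GLn n k)ˣ) : GLn n k))).Finite := by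
  obtain ⟨f, c, hf⟩ := exists_matToGL_eq a
  have ha : a = matToGL n k f * ((detUnit n k ^ (-(c : ℤ)) : (GLn n k)ˣ) : GLn n k) := by
    rw [eq_matToGL_mul_Dinv hf, zpow_neg, zpow_natCast, ← inv_pow, Units.val_pow_eq_pow_val]
    rfl
  subst ha
  clear hf
  rw [show f = (Mat.toPoly n k).symm (Mat.toPoly n k f) from ((Mat.toPoly n k).symm_apply_apply f).symm]
  generalize Mat.toPoly n k f = p
  induction p using MvPolynomial.induction_on' with
  | monomial e r =>
    refine Set.Subsingleton.finite ?_
    have key : ∀ m : ℤ, α (matToGL n k ((Mat.toPoly n k).symm (MvPolynomial.monomial e r)) *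
        ((detUnit n k ^ (-(c : ℤ)) : (GLn n k)ˣ) : GLn n k) * ((detUnit n k ^ m : (GLn n k)ˣ) : GLn n k)) ≠ 0 →
        (e.degree : ℤ) + n * (-(c : ℤ) + m) = 0 := by
      intro m hm
      rw [mul_assoc, ← Units.val_mul, ← zpow_add] at hm
      have h := apply_twoTrans hα (matToGL n k ((Mat.toPoly n k).symm (MvPolynomial.monomial e r)) *
        ((detUnit n k ^ (-(c : ℤ) + m) : (GLn n k)ˣ) : GLn n k))
      rw [map_mul, twoTrans_monomial, twoTrans_detUnit_zpow, smul_mul_smul_comm, map_smul, smul_eq_mul,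
        mul_eq_right₀ hm] at h
      rw [← zpow_natCast, ← zpow_natCast (2 : k) n, ← zpow_mul, ← zpow_add₀ two_ne_zero] at h
      generalize ((e.degree : ℤ) + (n : ℤ) * (-(c : ℤ) + m)) = z at h ⊢
      rcases z with z | z
      · rw [Int.ofNat_eq_coe, zpow_natCast] at h
        rcases Nat.eq_zero_or_pos z with h0 | h0
        · simp [h0]
        · exact absurd (show (2 : ℕ) ^ z = 1 by exact_mod_cast h) (Nat.one_lt_two_pow h0.ne').ne'
      · rw [zpow_negSucc, inv_eq_one] at h
        exact absurd (show (2 : ℕ) ^ (z + 1) = 1 by exact_mod_cast h) (Nat.one_lt_two_pow (Nat.succ_ne_zero z)).ne'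
    intro x hx y hy
    have h1 := key x hx
    have h2 := key y hy
    have h3 : (n : ℤ) * (x - y) = 0 := by linear_combination h1 - h2
    rcases mul_eq_zero.1 h3 with h | h
    · omega
    · omega
  | add p q hp hq =>
    refine (hp.union hq).subset fun m hm => ?_
    simp only [map_add, add_mul, Function.mem_support, Set.mem_union] at hm ⊢
    by_contra hc
    push Not at hc
    rw [hc.1, hc.2, add_zero] at hm
    exact hm rfl

variable (n k) in
theorem isLinearlyReductive_SLn [CharZero k] : IsLinearlyReductive k (SLn n k) := by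
  classical
  obtain ⟨α, hα, hα1⟩ := exists_isIntegral_GLn n k
  have hsurj : Function.Surjective (SLn.mkHom n k) := Ideal.Quotient.mk_surjective
  have hker : ∀ a, SLn.mkHom n k a = 0 → ∃ b, a = b * (GLn.det - 1) := fun a ha => by
    obtain ⟨b, hb⟩ := Ideal.mem_span_singleton'.1 (Ideal.Quotient.eq_zero_iff_mem.1 ha)
    exact ⟨b, hb.symm⟩
  rcases Nat.eq_zero_or_pos n with hn | hn
  · subst hn
    refine isLinearlyReductive_of_form (SLn.mkHom 0 k) hsurj α (fun a ha => ?_) hα1 (fun a => ?_)
    · obtain ⟨b, rfl⟩ := hker a ha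
      rw [GLn.det_eq, Matrix.det_isEmpty, sub_self, mul_zero, map_zero]
    · rw [hα, map_smul, map_one]
  let u : ℤ → GLn n k := fun m => ((detUnit n k ^ m : (GLn n k)ˣ) : GLn n k)
  have hfin : ∀ a, (Function.support fun m : ℤ => α (a * u m)).Finite := finite_support_twist hn hα
  let β : GLn n k →ₗ[k] k :=
    { toFun := fun a => ∑ᶠ m : ℤ, α (a * u m)
      map_add' := fun a b => by
        rw [← finsum_add_distrib (hfin a) (hfin b)]
        exact finsum_congr fun m => by rw [add_mul, map_add]
      map_smul' := fun r a => by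
        rw [RingHom.id_apply, smul_eq_mul, mul_finsum]
        exact finsum_congr fun m => by rw [smul_mul_assoc, map_smul, smul_eq_mul] }
  have hu : ∀ m, SLn.mkHom n k (u m) = 1 := by
    intro m
    let F : (GLn n k)ˣ →* (SLn n k)ˣ := Units.map (SLn.mk n k).toRingHom.toMonoidHom
    have h : F (detUnit n k) = 1 := Units.ext SLn.det_eq_one
    exact congrArg (fun x : (SLn n k)ˣ => (x : SLn n k)) (show F (detUnit n k ^ m) = 1 by rw [map_zpow, h, one_zpow])
  refine isLinearlyReductive_of_form (SLn.mkHom n k) hsurj β (fun a ha => ?_) ?_ (fun a => ?_)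
  · obtain ⟨b, rfl⟩ := hker a ha
    have hshift : (fun m : ℤ => α (b * GLn.det * u m)) = fun m => α (b * u (Equiv.addRight 1 m)) := funext fun m => by
      congr 1
      show b * GLn.det * ((detUnit n k ^ m : (GLn n k)ˣ) : GLn n k) = b * ((detUnit n k ^ (m + 1) : (GLn n k)ˣ) : GLn n k)
      rw [zpow_add_one, Units.val_mul, mul_assoc, mul_comm (GLn.det : GLn n k)]
      rfl
    rw [mul_sub, mul_one, map_sub, sub_eq_zero]
    show (∑ᶠ m : ℤ, α (b * GLn.det * u m)) = ∑ᶠ m : ℤ, α (b * u m)
    rw [hshift]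
    exact finsum_comp_equiv (Equiv.addRight (1 : ℤ)) (f := fun m => α (b * u m))
  · show (∑ᶠ m : ℤ, α (1 * u m)) = 1
    rw [finsum_eq_single _ 0]
    · simp [u, hα1]
    · intro m hm
      by_contra h
      have h' := apply_twoTrans hα (u m)
      rw [one_mul] at h
      rw [twoTrans_detUnit_zpow, map_smul, smul_eq_mul, mul_eq_right₀ h, ← zpow_natCast (2 : k) n, ← zpow_mul] at h'
      generalize hz : (n : ℤ) * m = z at h'
      have hz0 : z ≠ 0 := hz ▸ mul_ne_zero (by omega) hm
      rcases z with z | z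
      · rw [Int.ofNat_eq_coe, zpow_natCast] at h'
        exact absurd (show (2 : ℕ) ^ z = 1 by exact_mod_cast h') (Nat.one_lt_two_pow (by simpa using hz0)).ne'
      · rw [zpow_negSucc, inv_eq_one] at h'
        exact absurd (show (2 : ℕ) ^ (z + 1) = 1 by exact_mod_cast h') (Nat.one_lt_two_pow (Nat.succ_ne_zero z)).ne'
  · have hsl : ∀ m, SLn.mkHom n k (sliceL (α ∘ₗ LinearMap.mulRight k (u m)) (CoalgebraStruct.comul (R := k) a)) =
        α (a * u m) • (1 : SLn n k) := by
      intro m
      have h := congrArg (SLn.mkHom n k) (hα (a * u m))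
      rw [Bialgebra.comul_mul, comul_detUnit_zpow, map_smul, map_one] at h
      refine Eq.trans ?_ h
      generalize CoalgebraStruct.comul (R := k) a = z
      induction z using TensorProduct.induction_on with
      | zero => simp
      | tmul x y =>
        simp only [sliceL_tmul, Algebra.TensorProduct.tmul_mul_tmul, map_smul, map_mul, LinearMap.coe_comp,
          Function.comp_apply, LinearMap.mulRight_apply]
        rw [show SLn.mkHom n k ((detUnit n k ^ m : (GLn n k)ˣ) : GLn n k) = 1 from hu m, mul_one]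
      | add p q hp hq => simp only [map_add, add_mul, hp, hq]
    obtain ⟨S, hS⟩ := TensorProduct.exists_finset (CoalgebraStruct.comul (R := k) a)
    let T : Finset ℤ := (hfin a).toFinset ∪ S.biUnion fun p => (hfin p.1).toFinset
    have hβx : ∀ x, (hfin x).toFinset ⊆ T → β x = ∑ m ∈ T, α (x * u m) := fun x hx =>
      finsum_eq_sum_of_support_subset _ (fun m hm => hx ((hfin x).mem_toFinset.2 hm))
    rw [hβx a Finset.subset_union_left, Finset.sum_smul, ← Finset.sum_congr rfl fun m _ => hsl m, hS, map_sum,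
      map_sum, ← map_sum]
    simp only [map_sum, sliceL_tmul, LinearMap.coe_comp, Function.comp_apply, LinearMap.mulRight_apply]
    rw [Finset.sum_comm]
    refine Finset.sum_congr rfl fun p hp => ?_
    rw [hβx p.1 ((Finset.subset_biUnion_of_mem (fun p => (hfin p.1).toFinset) hp).trans Finset.subset_union_right),
      Finset.sum_smul, map_sum]

end

end Groth.Agent.H20Comod
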