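import Groth.Agent.H20Comod.Generation
import Groth.Agent.H20Comod.SLIntegral

/-!
Homogeneous representations of the general linear group as summands of twisted tensor powers.
-/

set_option autoImplicit false

universe u

open TensorProduct HopfRep
open scoped Groth.Agent.H20Comod

namespace Groth.Agent.H20Comod

noncomputable section

variable {k : Type u} [Field k] {A : Type u} [CommRing A] [HopfAlgebra k A]
  {M : Type u} [AddCommGroup M] [Module k M]

/-- Values of comodule maps from one tensor power into the regular comodule. -/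
def tensValsDeg (c : Comod k A M) (m : ℕ) : Set A :=
  {a | ∃ f : TensorPower k m M →ₗ[k] A,
    (letI := ComodTens.Comod.tpow c m; Hoch.IsComodHom A f) ∧ a ∈ LinearMap.range f}

theorem one_mem_tensValsDeg (c : Comod k A M) : (1 : A) ∈ tensValsDeg c 0 := by
  refine ⟨Algebra.linearMap k A ∘ₗ
    (PiTensorProduct.isEmptyEquiv (Fin 0) (R := k) (s := fun _ : Fin 0 => M)).toLinearMap, ?_,
    ⟨(PiTensorProduct.isEmptyEquiv (Fin 0) (R := k) (s := fun _ : Fin 0 => M)).symm 1, by simp⟩⟩
  let e := PiTensorProduct.isEmptyEquiv (Fin 0) (R := k) (s := fun _ : Fin 0 => M)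
  letI := ComodTens.Comod.tpow c 0
  apply LinearMap.ext
  intro x
  show CoalgebraStruct.comul (R := k) (algebraMap k A (e x)) = (Algebra.linearMap k A ∘ₗ e.toLinearMap).rTensor A
    (e.symm.toLinearMap.rTensor A ((e x : k) ⊗ₜ[k] (1 : A)))
  simp only [LinearMap.rTensor_tmul, LinearMap.comp_apply, LinearEquiv.coe_coe, LinearEquiv.apply_symm_apply,
    Algebra.linearMap_apply, Algebra.algebraMap_eq_smul_one, map_smul, Bialgebra.comul_one,
    Algebra.TensorProduct.one_def, TensorProduct.smul_tmul']

theorem mul_coeff_mem_tensValsDeg (c : Comod k A M) {m : ℕ} {a : A} (ha : a ∈ tensValsDeg c m) (G : M →ₗ[k] k) (v : M) :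
    a * (letI := c; coeff A G v) ∈ tensValsDeg c (m + 1) := by
  letI := c
  obtain ⟨f, hf, x, rfl⟩ := ha
  let e1 := PiTensorProduct.subsingletonEquiv (R := k) (s := fun _ : Fin 1 => M) (0 : Fin 1)
  let em := TensorPower.mulEquiv (R := k) (M := M) (n := m) (m := 1)
  let F : TensorPower k (m + 1) M →ₗ[k] A :=
    LinearMap.mul' k A ∘ₗ TensorProduct.map f (coeff A G ∘ₗ e1.toLinearMap) ∘ₗ em.symm.toLinearMap
  refine ⟨F, ?_, em (x ⊗ₜ[k] e1.symm v), by simp [F]⟩
  letI := ComodTens.Comod.tpow c (m + 1)
  apply LinearMap.ext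
  intro y
  obtain ⟨z, rfl⟩ := em.surjective y
  show CoalgebraStruct.comul (R := k) (F (em z)) = F.rTensor A
    ((ComodTens.Comod.ofEquiv em (ComodTens.Comod.tensor (ComodTens.Comod.tpow c m) (ComodTens.Comod.tpowOne c))).coact (em z))
  rw [ComodTens.ofEquiv_coact_apply, ← LinearMap.rTensor_comp_apply,
    show F ∘ₗ (em : _ →ₗ[k] _) = LinearMap.mul' k A ∘ₗ TensorProduct.map f (coeff A G ∘ₗ e1.toLinearMap) from
      LinearMap.ext fun w => by simp [F],
    show F (em z) = LinearMap.mul' k A (TensorProduct.map f (coeff A G ∘ₗ e1.toLinearMap) z) by simp [F]]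
  induction z using TensorProduct.induction_on with
  | zero => simp only [map_zero]
  | tmul p q =>
    rw [ComodTens.tensor_coact_tmul, TensorProduct.map_tmul, LinearMap.mul'_apply, Bialgebra.comul_mul]
    have hf' : CoalgebraStruct.comul (R := k) (f p) = f.rTensor A ((ComodTens.Comod.tpow c m).coact p) :=
      LinearMap.congr_fun hf p
    have hg' : CoalgebraStruct.comul (R := k) ((coeff A G ∘ₗ e1.toLinearMap) q) =
        (coeff A G ∘ₗ e1.toLinearMap).rTensor A ((ComodTens.Comod.tpowOne c).coact q) := by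
      show _ = (coeff A G ∘ₗ e1.toLinearMap).rTensor A (e1.symm.toLinearMap.rTensor A (c.coact (e1 q)))
      rw [← LinearMap.rTensor_comp_apply,
        show (coeff A G ∘ₗ e1.toLinearMap) ∘ₗ e1.symm.toLinearMap = coeff A G from LinearMap.ext fun w => by simp]
      exact comul_coeff G (e1 q)
    rw [hf', hg']
    generalize (ComodTens.Comod.tpow c m).coact p = u₁
    generalize (ComodTens.Comod.tpowOne c).coact q = u₂
    induction u₁ using TensorProduct.induction_on with
    | zero => simp
    | tmul p₁ a₁ =>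
      induction u₂ using TensorProduct.induction_on with
      | zero => simp
      | tmul q₁ b₁ => simp [Algebra.TensorProduct.tmul_mul_tmul]
      | add u v hu hv => simp only [map_add, mul_add, TensorProduct.tmul_add, hu, hv]
    | add u v hu hv => simp only [map_add, add_mul, TensorProduct.add_tmul, hu, hv]
  | add p q hp hq => simp only [map_add, hp, hq]

/-- A representation whose coefficients are values of maps `Ψ` out of `P` is a subquotient of `P`. -/
theorem exists_subquotient_of_homs {P : Type u} [AddCommGroup P] [Module k P] (cP : Comod k A P)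
    {W : Type u} [AddCommGroup W] [Module k W] (σ : Comod k A W) {N : ℕ} (B : Module.Basis (Fin N) k W)
    (Φ : Fin N → (P →ₗ[k] A)) (hΦ : ∀ j, (letI := cP; Hoch.IsComodHom A (Φ j)))
    (hsurj : ∀ w : W, ∃ z : P, ∀ j, Φ j z = (letI := σ; coeff A (B.coord j) w)) :
    ∃ (E' : Submodule k P) (hE : (letI := cP; IsSubcomod (k := k) (A := A) E')) (q : E' →ₗ[k] W),
      Function.Surjective q ∧ q.rTensor A ∘ₗ (ComodSub.Comod.restr cP E' hE).coact = σ.coact ∘ₗ q := by
  letI := cP
  letI := σ
  let E' : Submodule k P :=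
    { carrier := {z | ∃ w : W, ∀ j, Φ j z = coeff A (B.coord j) w}
      add_mem' := by
        rintro z z' ⟨w, hw⟩ ⟨w', hw'⟩
        exact ⟨w + w', fun j => by rw [map_add, map_add, hw j, hw' j]⟩
      zero_mem' := ⟨0, fun j => by rw [map_zero, map_zero]⟩
      smul_mem' := by
        rintro r z ⟨w, hw⟩
        exact ⟨r • w, fun j => by rw [map_smul, map_smul, hw j]⟩ }
  have hE : IsSubcomod (k := k) (A := A) E' := (isSubcomod_iff_forall_actL _).2 fun z hz φ => by
    obtain ⟨w, hw⟩ := hz
    refine ⟨actL φ w, fun j => ?_⟩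
    rw [actL_comm_of_isComodHom (hΦ j), hw j, actL_comm_of_isComodHom (isComodHom_coeff _)]
  let q : E' →ₗ[k] W := ∑ j, (LinearMap.toSpanSingleton k W (B j)) ∘ₗ
    CoalgebraStruct.counit (R := k) (A := A) ∘ₗ Φ j ∘ₗ E'.subtype
  have hq : ∀ (z : E') (w : W), (∀ j, Φ j z = coeff A (B.coord j) w) → q z = w := by
    intro z w hw
    simp only [q, LinearMap.sum_apply, LinearMap.comp_apply, Submodule.subtype_apply, hw, apply_coeff, actL_counit,
      LinearMap.toSpanSingleton_apply, Module.Basis.coord_apply, B.sum_repr]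
  have hqΦ : ∀ j, Φ j ∘ₗ E'.subtype = coeff A (B.coord j) ∘ₗ q := fun j => LinearMap.ext fun z => by
    obtain ⟨w, hw⟩ := z.2
    show Φ j z = coeff A (B.coord j) (q z)
    rw [hq z w hw, hw j]
  refine ⟨E', hE, q, fun w => ?_, ?_⟩
  · obtain ⟨z, hz⟩ := hsurj w
    exact ⟨⟨z, w, hz⟩, hq _ w hz⟩
  · apply LinearMap.ext
    intro z
    simp only [LinearMap.coe_comp, Function.comp_apply]
    have hj : ∀ j, sliceL (B.coord j ∘ₗ q) ((ComodSub.Comod.restr cP E' hE).coact z) =
        sliceL (B.coord j) (Comod.coact (k := k) (A := A) (q z)) := fun j => by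
      rw [show B.coord j ∘ₗ q = (CoalgebraStruct.counit (R := k) (A := A) ∘ₗ Φ j) ∘ₗ E'.subtype by
        rw [LinearMap.comp_assoc, hqΦ j]
        exact LinearMap.ext fun y => by simp [apply_coeff, actL_counit],
        ← sliceL_rTensor, ComodSub.restr_coact_coe, ← sliceL_rTensor,
        show (Φ j).rTensor A (cP.coact z) = CoalgebraStruct.comul (R := k) (Φ j z) from
          (LinearMap.congr_fun (hΦ j) (z : _)).symm]
      rw [← coeff_apply, show Φ j z = coeff A (B.coord j) (q z) from LinearMap.congr_fun (hqΦ j) z,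
        show sliceL (CoalgebraStruct.counit (R := k) (A := A))
          (CoalgebraStruct.comul (R := k) (coeff A (B.coord j) (q z))) = coeff A (B.coord j) (q z) from coeff_counit _]
    rw [eq_sum_basis_tmul_sliceL B (q.rTensor A _), eq_sum_basis_tmul_sliceL B (Comod.coact (k := k) (A := A) (q z))]
    exact Finset.sum_congr rfl fun j _ => by rw [sliceL_rTensor, hj j]

/-- Over a linearly reductive group a subquotient is a summand. -/
theorem exists_summand_of_subquotient (hlr : IsLinearlyReductive k A) {P : Type u} [AddCommGroup P] [Module k P]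
    [Module.Finite k P] (cP : Comod k A P)
    {W : Type u} [AddCommGroup W] [Module k W] [Module.Finite k W] (σ : Comod k A W)
    (E' : Submodule k P) (hE : (letI := cP; IsSubcomod (k := k) (A := A) E')) (q : E' →ₗ[k] W)
    (hq : Function.Surjective q) (hqc : q.rTensor A ∘ₗ (ComodSub.Comod.restr cP E' hE).coact = σ.coact ∘ₗ q) :
    ∃ (i : W →ₗ[k] P) (p : P →ₗ[k] W), p ∘ₗ i = LinearMap.id ∧
      @Hoch.IsComodHom k _ A _ _ _ W _ _ σ P _ _ cP i ∧
      @Hoch.IsComodHom k _ A _ _ _ P _ _ cP W _ _ σ p := by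
  letI := cP
  letI := σ
  letI cE := ComodSub.Comod.restr cP E' hE
  have hqh : Hoch.IsComodHom A q := hqc.symm
  haveI : IsSemisimpleModule (DualAlg k A) P := isSemisimpleComod_iff.1 (hlr P inferInstance)
  haveI : IsSemisimpleModule (DualAlg k A) E' := isSemisimpleComod_iff.1 (hlr E' inferInstance)
  obtain ⟨s, hs⟩ := IsSemisimpleModule.lifting_property (homLin q hqh) hq LinearMap.id
  have hi : Hoch.IsComodHom A (E'.subtype ∘ₗ s.restrictScalars k) :=
    isComodHom_comp (isComodHom_restrictScalars s) (ComodSub.isComodHom_subtype cP E' hE)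
  have hinj : Function.Injective (homLin (E'.subtype ∘ₗ s.restrictScalars k) hi) := fun x y hxy => by
    have h : s x = s y := Subtype.ext hxy
    have h' := congrArg (homLin q hqh) h
    rwa [← LinearMap.comp_apply, ← LinearMap.comp_apply, hs, LinearMap.id_apply, LinearMap.id_apply] at h'
  obtain ⟨p, hp⟩ := IsSemisimpleModule.extension_property (homLin (E'.subtype ∘ₗ s.restrictScalars k) hi) hinj
    LinearMap.id
  exact ⟨E'.subtype ∘ₗ s.restrictScalars k, p.restrictScalars k,
    LinearMap.ext fun x => LinearMap.congr_fun hp x, hi, isComodHom_restrictScalars p⟩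

end

end Groth.Agent.H20Comod
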