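import Groth.Agent.H20Comod.GLSummand
import Mathlib.RingTheory.MvPolynomial.Homogeneous
import Mathlib.LinearAlgebra.PiTensorProduct.Finite

/-!
Homogeneous representations of the general linear group embed in twisted sums of tensor powers.
-/

set_option autoImplicit false

universe u

open TensorProduct HopfRep CoordGrp LaurentPolynomial
open scoped Groth.Agent.H20Comod

namespace Groth.Agent.H20Comod

noncomputable section

variable {k : Type u} [Field k] {r : ℕ}

/-- The standard comodule of `GL_r`. -/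
abbrev stdGL (r : ℕ) (k : Type u) [Field k] : Comod k (GLn r k) (Fin r → k) :=
  GLin.comodAlong (Mat.toGLn r k) (ComodTens.stdVec r k)

theorem X_eq_coeff_stdGL (i j : Fin r) :
    (letI := stdGL r k; coeff (GLn r k) ((Pi.basisFun k (Fin r)).coord i) (Pi.basisFun k (Fin r) j)) =
      GLn.X i j := by
  letI := stdGL r k
  rw [coeff_apply]
  show sliceL _ (TensorProduct.map LinearMap.id _ ((ComodTens.stdVec r k).coact (Pi.basisFun k (Fin r) j))) = _
  rw [ComodTens.stdVec_coact_basisFun, map_sum, map_sum]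
  simp [Pi.single_apply]

/-- The monomial in the entries. -/
def matMon (r : ℕ) (k : Type u) [Field k] (e : Fin r × Fin r →₀ ℕ) (c : k) : GLn r k :=
  MvPolynomial.aeval (fun p : Fin r × Fin r => GLn.genMat r k p.1 p.2) (MvPolynomial.monomial e c)

theorem matMon_one_mem_tensValsDeg (N : ℕ) :
    ∀ e : Fin r × Fin r →₀ ℕ, e.degree = N → matMon r k e 1 ∈ tensValsDeg (stdGL r k) N := by
  induction N with
  | zero =>
    intro e he
    rw [(Finsupp.degree_eq_zero_iff e).1 he, matMon, ← MvPolynomial.C_apply, MvPolynomial.C_1, map_one]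
    exact one_mem_tensValsDeg _
  | succ N ih =>
    intro e he
    obtain ⟨p, hp⟩ : ∃ p, e p ≠ 0 := by
      by_contra h
      push Not at h
      rw [show e = 0 from Finsupp.ext h] at he
      simp at he
    set e' := e - Finsupp.single p 1
    have hee : e' + Finsupp.single p 1 = e :=
      tsub_add_cancel_of_le (Finsupp.single_le_iff.2 (Nat.one_le_iff_ne_zero.2 hp))
    have hd : e'.degree = N := by
      have := he
      rw [← hee, map_add, Finsupp.degree_single] at this
      omega
    have h := mul_coeff_mem_tensValsDeg (stdGL r k) (ih e' hd) ((Pi.basisFun k (Fin r)).coord p.1)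
      (Pi.basisFun k (Fin r) p.2)
    rw [X_eq_coeff_stdGL] at h
    convert h using 1
    rw [← hee, matMon, matMon, show MvPolynomial.monomial (e' + Finsupp.single p 1) (1 : k) =
      MvPolynomial.monomial e' 1 * MvPolynomial.X p by rw [MvPolynomial.X, MvPolynomial.monomial_mul, mul_one],
      map_mul, MvPolynomial.aeval_X]
    rfl

/-- Translation by the scalar one-parameter subgroup. -/
def scalTrans (r : ℕ) (k : Type u) [Field k] : GLn r k →ₐ[k] GLn r k ⊗[k] k[T;T⁻¹] :=
  (Algebra.TensorProduct.map (AlgHom.id k _) (GLn.diag r k (fun _ => 1) : GLn r k →ₐ[k] k[T;T⁻¹])).comp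
    (Bialgebra.comulAlgHom k (GLn r k))

theorem scalTrans_X (i j : Fin r) : scalTrans r k (GLn.X i j) = GLn.X i j ⊗ₜ[k] T 1 := by
  show Algebra.TensorProduct.map _ _ (CoalgebraStruct.comul (R := k) (GLn.X i j)) = _
  rw [GLn.comul_X, map_sum, Finset.sum_eq_single j]
  · rw [Algebra.TensorProduct.map_tmul]
    show _ ⊗ₜ[k] GLn.diag r k _ (GLn.X j j) = _
    rw [GLn.diag_X, if_pos rfl]
    rfl
  · intro l _ hl
    rw [Algebra.TensorProduct.map_tmul]
    show _ ⊗ₜ[k] GLn.diag r k _ (GLn.X l j) = _
    rw [GLn.diag_X, if_neg hl, TensorProduct.tmul_zero]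
  · simp

theorem scalTrans_Dinv_pow (c : ℕ) :
    scalTrans r k ((GLn.Dinv : GLn r k) ^ c) = (GLn.Dinv ^ c) ⊗ₜ[k] T (-(r * c : ℤ)) := by
  have h : scalTrans r k (GLn.Dinv : GLn r k) = GLn.Dinv ⊗ₜ[k] T (-(r : ℤ)) := by
    show Algebra.TensorProduct.map _ _ (CoalgebraStruct.comul (R := k) (GLn.Dinv : GLn r k)) = _
    rw [GLn.comul_Dinv, Algebra.TensorProduct.map_tmul]
    show _ ⊗ₜ[k] GLn.diag r k _ GLn.Dinv = _
    rw [GLn.diag_Dinv]
    simp
  rw [map_pow, h, Algebra.TensorProduct.tmul_pow, T_pow]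
  ring_nf

theorem scalTrans_matMon (e : Fin r × Fin r →₀ ℕ) (c : k) :
    scalTrans r k (matMon r k e c) = matMon r k e c ⊗ₜ[k] T (e.degree : ℤ) := by
  rw [matMon, ← AlgHom.comp_apply, MvPolynomial.comp_aeval, MvPolynomial.aeval_monomial,
    MvPolynomial.aeval_monomial]
  simp only [GLn.genMat, scalTrans_X, Algebra.TensorProduct.tmul_pow, T_pow]
  have key : ∀ s : Finset (Fin r × Fin r),
      (∏ p ∈ s, (GLn.X p.1 p.2 ^ e p) ⊗ₜ[k] (T ((e p : ℤ) * 1) : k[T;T⁻¹])) =
        (∏ p ∈ s, (GLn.X p.1 p.2 : GLn r k) ^ e p) ⊗ₜ[k] T (∑ p ∈ s, (e p : ℤ)) := by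
    classical
    intro s
    induction s using Finset.induction_on with
    | empty => simp [Algebra.TensorProduct.one_def]
    | insert p s hp hs =>
      rw [Finset.prod_insert hp, Finset.prod_insert hp, Finset.sum_insert hp, hs,
        Algebra.TensorProduct.tmul_mul_tmul, ← T_add, mul_one]
  rw [Finsupp.prod, Finsupp.prod, key, Algebra.TensorProduct.algebraMap_apply,
    Algebra.TensorProduct.tmul_mul_tmul, one_mul, Finsupp.degree_apply]
  push_cast
  rfl

/-- A function of scalar weight `h` is a homogeneous polynomial times a power of the inverse determinant. -/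
theorem mem_span_of_scalTrans_eq {a : GLn r k} {h : ℤ} (ha : scalTrans r k a = a ⊗ₜ[k] T h)
    {f : Mat r k} {c : ℕ} (hf : GLn.det ^ c * a = matToGL r k f) {N : ℕ} (hN : (N : ℤ) = h + r * c) :
    ∃ b ∈ Submodule.span k (tensValsDeg (stdGL r k) N), a = b * GLn.Dinv ^ c := by
  classical
  set p := Mat.toPoly r k f with hp
  have hfa : matToGL r k f = ∑ e ∈ p.support, matMon r k e (p.coeff e) := by
    show MvPolynomial.aeval (fun q : Fin r × Fin r => GLn.genMat r k q.1 q.2) p = _
    conv_lhs => rw [p.as_sum]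
    rw [map_sum]
    rfl
  refine ⟨∑ e ∈ p.support, if e.degree = N then matMon r k e (p.coeff e) else 0, ?_, ?_⟩
  · refine Submodule.sum_mem _ fun e _ => ?_
    split_ifs with he
    · rw [show matMon r k e (p.coeff e) = p.coeff e • matMon r k e 1 by
        rw [matMon, matMon, ← map_smul, MvPolynomial.smul_monomial, smul_eq_mul, mul_one]]
      exact Submodule.smul_mem _ _ (Submodule.subset_span (matMon_one_mem_tensValsDeg N e he))
    · exact zero_mem _
  · have ha' := eq_matToGL_mul_Dinv hf
    rw [hfa] at ha'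
    let δ : k[T;T⁻¹] →ₗ[k] k := Finsupp.lapply h ∘ₗ (AddMonoidAlgebra.coeffLinearEquiv k).toLinearMap
    have hδ : ∀ m : ℤ, δ (T m) = if m = h then 1 else 0 := fun m => T_apply h m
    have h1 := congrArg (sliceR δ) ha
    rw [sliceR_tmul, hδ, if_pos rfl, one_smul] at h1
    rw [← h1, ha', map_mul, map_sum, scalTrans_Dinv_pow, Finset.sum_mul, map_sum, Finset.sum_mul]
    refine Finset.sum_congr rfl fun e _ => ?_
    rw [scalTrans_matMon, Algebra.TensorProduct.tmul_mul_tmul, ← T_add, sliceR_tmul, hδ]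
    by_cases he : e.degree = N
    · rw [if_pos (by omega), if_pos he, one_smul]
    · rw [if_neg (by omega), if_neg he, zero_smul, zero_mul]

/-- Homogeneous representations of `GL_r` are summands of twisted sums of tensor powers. -/
theorem exists_summand_twist_tpow [CharZero k] (hr : 0 < r) {V : Type u} [AddCommGroup V] [Module k V]
    [Module.Finite k V] (ρ : Comod k (GLn r k) V) (h : ℤ)
    (hh : ∀ v, (TensorProduct.map LinearMap.id (GLn.diag r k (fun _ => 1) : GLn r k →ₗ[k] k[T;T⁻¹]))
      (ρ.coact v) = v ⊗ₜ[k] T h) :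
    ∃ (a b c : ℕ), 0 < c ∧
      ∃ (i : V →ₗ[k] (Fin b → TensorPower k a (Fin r → k)))
        (p : (Fin b → TensorPower k a (Fin r → k)) →ₗ[k] V),
        p ∘ₗ i = LinearMap.id ∧
        @Hoch.IsComodHom k _ (GLn r k) _ _ _ V _ _ ρ (Fin b → TensorPower k a (Fin r → k)) _ _
          (ComodTens.Comod.twist (ComodTens.Comod.pi fun _ : Fin b => ComodTens.Comod.tpow (stdGL r k) a)
            (GLn.Dinv ^ c) (IsGroupLikeElem.pow ⟨GLn.counit_Dinv, GLn.comul_Dinv⟩)) i ∧
        @Hoch.IsComodHom k _ (GLn r k) _ _ _ (Fin b → TensorPower k a (Fin r → k)) _ _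
          (ComodTens.Comod.twist (ComodTens.Comod.pi fun _ : Fin b => ComodTens.Comod.tpow (stdGL r k) a)
            (GLn.Dinv ^ c) (IsGroupLikeElem.pow ⟨GLn.counit_Dinv, GLn.comul_Dinv⟩)) V _ _ ρ p := by
  classical
  letI := ρ
  let B := Module.finBasis k V
  let n := Module.finrank k V
  let co : Fin n × Fin n → GLn r k := fun p => coeff (GLn r k) (B.coord p.1) (B p.2)
  choose f c₀ hf using fun p => exists_matToGL_eq (co p)
  set c : ℕ := max (Finset.univ.sup c₀) (h.natAbs + 1)
  have hc : ∀ p, c₀ p ≤ c := fun p => (Finset.le_sup (Finset.mem_univ p)).trans (le_max_left _ _)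
  have hc1 : h.natAbs + 1 ≤ c := le_max_right _ _
  have hrc : (c : ℤ) ≤ (r : ℤ) * c := le_mul_of_one_le_left (by omega) (by omega)
  set N : ℕ := (h + r * c).toNat
  have hN : (N : ℤ) = h + r * c := Int.toNat_of_nonneg (by omega)
  have hw : ∀ p, scalTrans r k (co p) = co p ⊗ₜ[k] T h := by
    intro p
    show TensorProduct.map LinearMap.id _ (CoalgebraStruct.comul (R := k) (coeff (GLn r k) (B.coord p.1) (B p.2))) = _
    rw [comul_coeff]
    show _ = coeff (GLn r k) (B.coord p.1) (B p.2) ⊗ₜ[k] _
    have e : ∀ z : V ⊗[k] GLn r k,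
        TensorProduct.map LinearMap.id (GLn.diag r k (fun _ => 1) : GLn r k →ₗ[k] k[T;T⁻¹])
          ((coeff (GLn r k) (B.coord p.1)).rTensor (GLn r k) z) =
        (coeff (GLn r k) (B.coord p.1)).rTensor k[T;T⁻¹]
          (TensorProduct.map LinearMap.id (GLn.diag r k (fun _ => 1) : GLn r k →ₗ[k] k[T;T⁻¹]) z) := by
      intro z
      induction z using TensorProduct.induction_on with
      | zero => simp
      | tmul x y => simp
      | add u w hu hw => simp only [map_add, hu, hw]
    refine (e _).trans ?_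
    rw [hh, LinearMap.rTensor_tmul]
  choose b hb hb' using fun p => mem_span_of_scalTrans_eq (hw p)
    (show GLn.det ^ c * co p = matToGL r k (Mat.det r k ^ (c - c₀ p) * f p) by
      rw [map_mul, map_pow, matToGL_det, ← hf, ← mul_assoc, ← pow_add, Nat.sub_add_cancel (hc p)]) hN
  choose s hs hs' using fun p => Submodule.mem_span_finite_of_mem_span (hb p)
  let t : Finset (GLn r k) := Finset.univ.biUnion s
  have ht : ∀ x : t, (x : GLn r k) ∈ tensValsDeg (stdGL r k) N := fun x => by
    obtain ⟨p, -, hp⟩ := Finset.mem_biUnion.1 x.2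
    exact hs p hp
  choose ff hff hmem using ht
  let e := Fintype.equivFin (t × Fin n)
  let P := Fin (Fintype.card (t × Fin n)) → TensorPower k N (Fin r → k)
  let cP := ComodTens.Comod.pi fun _ : Fin (Fintype.card (t × Fin n)) => ComodTens.Comod.tpow (stdGL r k) N
  let Φ : Fin n → (P →ₗ[k] GLn r k) := fun j =>
    LinearMap.mulRight k (GLn.Dinv ^ c) ∘ₗ ∑ i, if (e.symm i).2 = j then ff (e.symm i).1 ∘ₗ LinearMap.proj i else 0
  set tw := ComodTens.Comod.twist cP (GLn.Dinv ^ c) (IsGroupLikeElem.pow ⟨GLn.counit_Dinv, GLn.comul_Dinv⟩)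
  have hΦ : ∀ j, (letI := tw; Hoch.IsComodHom (GLn r k) (Φ j)) := by
    intro j
    set F : P →ₗ[k] GLn r k := ∑ i, if (e.symm i).2 = j then ff (e.symm i).1 ∘ₗ LinearMap.proj i else 0
    have hF : ∀ z, CoalgebraStruct.comul (R := k) (F z) = F.rTensor (GLn r k) (cP.coact z) := by
      intro z
      show CoalgebraStruct.comul (R := k) (F z) =
        F.rTensor (GLn r k) ((ComodTens.Comod.pi fun _ => ComodTens.Comod.tpow (stdGL r k) N).coact z)
      rw [ComodTens.pi_coact, map_sum, LinearMap.sum_apply, map_sum]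
      refine Finset.sum_congr rfl fun i _ => ?_
      rw [← LinearMap.rTensor_comp_apply]
      have hFi : F ∘ₗ LinearMap.single k _ i = if (e.symm i).2 = j then ff (e.symm i).1 else 0 := by
        refine LinearMap.ext fun y => ?_
        rw [LinearMap.comp_apply, LinearMap.sum_apply, Finset.sum_eq_single i]
        · split_ifs
          · rw [LinearMap.comp_apply, LinearMap.proj_apply, LinearMap.single_apply, Pi.single_eq_same]
          · rfl
        · intro l _ hl
          split_ifs
          · rw [LinearMap.comp_apply, LinearMap.proj_apply, LinearMap.single_apply, Pi.single_eq_of_ne hl, map_zero]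
          · rfl
        · simp
      rw [hFi]
      split_ifs with hj
      · exact LinearMap.congr_fun (hff (e.symm i).1) (z i)
      · simp
    refine LinearMap.ext fun z => ?_
    show CoalgebraStruct.comul (R := k) (F z * GLn.Dinv ^ c) =
      (LinearMap.mulRight k (GLn.Dinv ^ c) ∘ₗ F).rTensor (GLn r k) ((LinearMap.mulRight k (GLn.Dinv ^ c)).lTensor P (cP.coact z))
    rw [ComodTens.comul_mul_of_isGroupLikeElem (IsGroupLikeElem.pow ⟨GLn.counit_Dinv, GLn.comul_Dinv⟩), hF]
    generalize cP.coact z = y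
    induction y using TensorProduct.induction_on with
    | zero => simp
    | tmul x a => simp
    | add u w hu hw => simp only [map_add, hu, hw]
  obtain ⟨E', hE, q, hq, hqc⟩ := exists_subquotient_of_homs tw ρ B Φ hΦ fun v => by
    have hv : ∀ j, ∃ g : t → k, (∑ x, g x • (x : GLn r k)) * GLn.Dinv ^ c = coeff (GLn r k) (B.coord j) v := by
      intro j
      have hb'' : ∀ l, b (j, l) ∈ Submodule.span k (t : Set (GLn r k)) := fun l =>
        Submodule.span_mono (Finset.coe_subset.2 (Finset.subset_biUnion_of_mem s (Finset.mem_univ _))) (hs' (j, l))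
      obtain ⟨g, hg⟩ := Submodule.mem_span_finset'.1
        (Submodule.sum_mem _ fun l (_ : l ∈ Finset.univ) => Submodule.smul_mem _ (B.repr v l) (hb'' l))
      refine ⟨g, ?_⟩
      rw [hg, Finset.sum_mul]
      conv_rhs => rw [← B.sum_repr v, map_sum]
      refine Finset.sum_congr rfl fun l _ => ?_
      rw [smul_mul_assoc, map_smul, ← hb']
    choose g hg using hv
    choose x hx using hmem
    refine ⟨fun i => g (e.symm i).2 (e.symm i).1 • x (e.symm i).1, fun j => ?_⟩
    rw [← hg j]
    show (∑ i, if (e.symm i).2 = j then ff (e.symm i).1 ∘ₗ LinearMap.proj i else 0 : P →ₗ[k] GLn r k) _ * _ = _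
    congr 1
    rw [LinearMap.sum_apply, ← Equiv.sum_comp e, Fintype.sum_prod_type]
    refine Finset.sum_congr rfl fun a _ => ?_
    rw [Finset.sum_eq_single j]
    · rw [if_pos (by simp), LinearMap.comp_apply, LinearMap.proj_apply]
      rw [map_smul, hx]
      simp
    · intro l _ hl
      rw [if_neg (by simpa using hl)]
      simp
    · simp
  obtain ⟨i, p, hpi, hi, hp⟩ :=
    exists_summand_of_subquotient (isLinearlyReductive_GLn r k) tw ρ E' hE q hq hqc
  exact ⟨N, _, c, by omega, i, p, hpi, hi, hp⟩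

end

end Groth.Agent.H20Comod
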