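import Groth.Agent.H20Comod.Invariants
import Groth.Prelude.Def_ComodTens
import Mathlib.RingTheory.MvPolynomial.Homogeneous
import Mathlib.RingTheory.Polynomial.Basic

/-!
Finite generation of invariants of a linearly reductive group (Hilbert).
-/

set_option autoImplicit false

universe u v w w' w''

open TensorProduct HopfRep MvPolynomial

namespace Groth.Agent.H20Comod

noncomputable section

section Graded

variable {k : Type u} [CommRing k] {H : Type v} [CommRing H] [HopfAlgebra k H]
  {A : Type w} [CommRing A] [Algebra k A] [Comod k H A] [GLin.IsCoactAlg k H A]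
  {σ : Type w'} [Comod k H (MvPolynomial σ A)] [GLin.IsCoactAlg k H (MvPolynomial σ A)]

variable (k H A σ) in
/-- The coaction on a polynomial ring extends that of the coefficients and is linear in the variables. -/
structure IsLinExt : Prop where
  hC : ∀ a : A, Comod.coact (k := k) (A := H) (C a : MvPolynomial σ A) =
    ((IsScalarTower.toAlgHom k A (MvPolynomial σ A)).toLinearMap).rTensor H (Comod.coact (k := k) (A := H) a)
  hX : ∀ i : σ, Comod.coact (k := k) (A := H) (X i : MvPolynomial σ A) ∈
    LinearMap.range ((Submodule.span k (Set.range (X : σ → MvPolynomial σ A))).subtype.rTensor H)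

theorem mul_mem_range_rTensor {P : Type w''} [CommRing P] [Algebra k P] {U V W : Submodule k P}
    (h : ∀ u ∈ U, ∀ v ∈ V, u * v ∈ W) {x y : P ⊗[k] H} (hx : x ∈ LinearMap.range (U.subtype.rTensor H))
    (hy : y ∈ LinearMap.range (V.subtype.rTensor H)) : x * y ∈ LinearMap.range (W.subtype.rTensor H) := by
  obtain ⟨x, rfl⟩ := hx
  obtain ⟨y, rfl⟩ := hy
  induction x using TensorProduct.induction_on with
  | zero => simp
  | tmul p a =>
    induction y using TensorProduct.induction_on with
    | zero => simp
    | tmul q b => exact ⟨⟨_, h p p.2 q q.2⟩ ⊗ₜ[k] (a * b), by simp⟩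
    | add u v hu hv => simp only [map_add, mul_add]; exact add_mem hu hv
  | add u v hu hv => simp only [map_add, add_mul]; exact add_mem hu hv

variable (k) in
/-- The homogeneous polynomials of a given degree, over the base. -/
def homogSub (A : Type w) [CommRing A] [Algebra k A] (σ : Type w') (d : ℕ) :
    Submodule k (MvPolynomial σ A) :=
  (homogeneousSubmodule σ A d).restrictScalars k

theorem isSubcomod_homogSub (hE : IsLinExt k H A σ) (d : ℕ) :
    IsSubcomod (k := k) (A := H) (homogSub k A σ d) := by
  classical
  intro f hf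
  have hC : ∀ a : A, Comod.coact (k := k) (A := H) (C a : MvPolynomial σ A) ∈
      LinearMap.range ((homogSub k A σ 0).subtype.rTensor H) := by
    intro a
    rw [hE.hC]
    generalize Comod.coact (k := k) (A := H) a = z
    induction z using TensorProduct.induction_on with
    | zero => simp
    | tmul x c => exact ⟨⟨C x, isHomogeneous_C σ x⟩ ⊗ₜ[k] c, rfl⟩
    | add u v hu hv => rw [map_add]; exact add_mem hu hv
  have hX : ∀ i, Comod.coact (k := k) (A := H) (X i : MvPolynomial σ A) ∈
      LinearMap.range ((homogSub k A σ 1).subtype.rTensor H) := by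
    intro i
    obtain ⟨y, hy⟩ := hE.hX i
    have hle : Submodule.span k (Set.range (X : σ → MvPolynomial σ A)) ≤ homogSub k A σ 1 := by
      rw [Submodule.span_le]; rintro _ ⟨j, rfl⟩; exact isHomogeneous_X A j
    refine ⟨(Submodule.inclusion hle).rTensor H y, ?_⟩
    rw [← LinearMap.rTensor_comp_apply]
    exact hy
  have hmul : ∀ (m n : ℕ) (x y : MvPolynomial σ A),
      Comod.coact (k := k) (A := H) x ∈ LinearMap.range ((homogSub k A σ m).subtype.rTensor H) →
      Comod.coact (k := k) (A := H) y ∈ LinearMap.range ((homogSub k A σ n).subtype.rTensor H) →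
      Comod.coact (k := k) (A := H) (x * y) ∈ LinearMap.range ((homogSub k A σ (m + n)).subtype.rTensor H) := by
    intro m n x y hx hy
    rw [GLin.IsCoactAlg.coact_mul]
    exact mul_mem_range_rTensor (fun u hu v hv => IsHomogeneous.mul hu hv) hx hy
  have key : ∀ (e : σ →₀ ℕ) (a : A), Comod.coact (k := k) (A := H) (monomial e a) ∈
      LinearMap.range ((homogSub k A σ e.degree).subtype.rTensor H) := by
    intro e
    induction e using Finsupp.induction with
    | zero => intro a; rw [map_zero]; exact hC a
    | single_add i n e hi hn ih =>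
      intro a
      have hpow : ∀ m : ℕ, Comod.coact (k := k) (A := H) ((X i : MvPolynomial σ A) ^ m) ∈
          LinearMap.range ((homogSub k A σ m).subtype.rTensor H) := by
        intro m
        induction m with
        | zero => simpa using hC 1
        | succ m ihm => rw [pow_succ]; exact hmul m 1 _ _ ihm (hX i)
      rw [Finsupp.degree.map_add, Finsupp.degree_single, monomial_single_add]
      exact hmul n _ _ _ (hpow n) (ih a)
  rw [← f.support_sum_monomial_coeff, map_sum]
  refine Submodule.sum_mem _ fun e he => ?_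
  have hd : e.degree = d := by
    by_contra hne
    exact (mem_support_iff.1 he) (IsHomogeneous.coeff_eq_zero hf hne)
  exact hd ▸ key e _

theorem homogeneousComponent_mul_of_isHomogeneous {f g : MvPolynomial σ A} {e : ℕ} (hf : f.IsHomogeneous e)
    (d : ℕ) :
    homogeneousComponent d (g * f) = if e ≤ d then homogeneousComponent (d - e) g * f else 0 := by
  classical
  conv_lhs => rw [← sum_homogeneousComponent g, Finset.sum_mul, map_sum]
  rw [Finset.sum_congr rfl fun j _ => homogeneousComponent_of_mem
    ((homogeneousComponent_isHomogeneous j g).mul hf)]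
  split_ifs with h
  · rw [Finset.sum_eq_single (d - e)]
    · rw [if_pos (Nat.sub_add_cancel h).symm]
    · intro j _ hj
      rw [if_neg (by omega)]
    · intro hne
      rw [if_pos (Nat.sub_add_cancel h).symm, homogeneousComponent_eq_zero _ _ (by
        have := Finset.mem_range.not.1 hne; omega), zero_mul]
  · exact Finset.sum_eq_zero fun j _ => if_neg (by omega)

theorem actL_homogeneous_mem (hE : IsLinExt k H A σ) (α : H →ₗ[k] k) {d : ℕ} {f : MvPolynomial σ A}
    (hf : f.IsHomogeneous d) : (actL α f).IsHomogeneous d :=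
  actL_mem_of_isSubcomod (isSubcomod_homogSub hE d) α hf

theorem homogeneousComponent_actL (hE : IsLinExt k H A σ) (α : H →ₗ[k] k) (d : ℕ) (f : MvPolynomial σ A) :
    homogeneousComponent d (actL α f) = actL α (homogeneousComponent d f) := by
  classical
  conv_lhs => rw [← sum_homogeneousComponent f, map_sum, map_sum]
  rw [Finset.sum_congr rfl fun j _ => homogeneousComponent_of_mem
    (actL_homogeneous_mem hE α (homogeneousComponent_isHomogeneous j f)), Finset.sum_ite_eq]
  split_ifs with h
  · rfl
  · rw [homogeneousComponent_eq_zero _ _ (by have := Finset.mem_range.not.1 h; omega), map_zero]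

theorem exists_finset_invariants_le_adjoin [Finite σ] [IsNoetherianRing A] {α : H →ₗ[k] k} (hα : IsIntegral α)
    (h1 : α 1 = 1) (hE : IsLinExt k H A σ) :
    ∃ s : Finset (MvPolynomial σ A), (↑s : Set (MvPolynomial σ A)) ⊆ (GLin.invariants k H (MvPolynomial σ A) : Set (MvPolynomial σ A)) ∧
      GLin.invariants k H (MvPolynomial σ A) ≤
        Algebra.adjoin k ((C : A → MvPolynomial σ A) '' (GLin.invariants k H A : Set A) ∪ ↑s) := by
  classical
  let S : Set (MvPolynomial σ A) := {f | f ∈ GLin.invariants k H (MvPolynomial σ A) ∧ ∃ d, 0 < d ∧ f.IsHomogeneous d}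
  obtain ⟨s, hsS, hspan⟩ := (Submodule.fg_span_iff_fg_span_finset_subset (R := MvPolynomial σ A) S).1
    (IsNoetherian.noetherian _)
  refine ⟨s, fun f hf => (hsS hf).1, ?_⟩
  set B := Algebra.adjoin k ((C : A → MvPolynomial σ A) '' (GLin.invariants k H A : Set A) ∪ ↑s)
  have key : ∀ d, ∀ f : MvPolynomial σ A, f ∈ GLin.invariants k H (MvPolynomial σ A) → f.IsHomogeneous d → f ∈ B := by
    intro d
    induction d using Nat.strong_induction_on with
    | _ d ih =>
      intro f hf hd
      rcases Nat.eq_zero_or_pos d with rfl | hpos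
      · have hfC : f = C (MvPolynomial.coeff 0 f) := by
          rw [← homogeneousComponent_zero, homogeneousComponent_eq_self hd]
        refine Algebra.subset_adjoin (Or.inl ⟨MvPolynomial.coeff 0 f, ?_, hfC.symm⟩)
        show Comod.coact (k := k) (A := H) (MvPolynomial.coeff 0 f) = MvPolynomial.coeff 0 f ⊗ₜ[k] (1 : H)
        have h2 : Comod.coact (k := k) (A := H) (C (MvPolynomial.coeff 0 f) : MvPolynomial σ A) =
            C (MvPolynomial.coeff 0 f) ⊗ₜ[k] (1 : H) := by rw [← hfC]; exact hf
        rw [hE.hC] at h2
        let π : MvPolynomial σ A →ₗ[k] A := (MvPolynomial.lcoeff A 0).restrictScalars k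
        have h3 := congrArg (π.rTensor H) h2
        rw [← LinearMap.rTensor_comp_apply, LinearMap.rTensor_tmul,
          show π ∘ₗ (IsScalarTower.toAlgHom k A (MvPolynomial σ A)).toLinearMap = LinearMap.id from
            LinearMap.ext fun a => by simp [π, MvPolynomial.algebraMap_eq],
          LinearMap.rTensor_id, LinearMap.id_apply] at h3
        simpa [π] using h3
      · have hfs : f ∈ Submodule.span (MvPolynomial σ A) (s : Set (MvPolynomial σ A)) :=
          hspan ▸ Submodule.subset_span ⟨hf, d, hpos, hd⟩
        obtain ⟨g, hg⟩ := Submodule.mem_span_finset'.1 hfs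
        rw [← actL_eq_self_of_fixed (v := f) h1 hf, ← homogeneousComponent_eq_self
          (actL_homogeneous_mem hE α hd), ← hg, map_sum, map_sum]
        refine B.sum_mem fun i _ => ?_
        obtain ⟨hi, e, he, hei⟩ := hsS i.2
        rw [smul_eq_mul, mul_comm, actL_mul_of_fixed α hi, mul_comm,
          homogeneousComponent_mul_of_isHomogeneous hei]
        split_ifs with hle
        · rw [homogeneousComponent_actL hE]
          refine B.mul_mem (ih (d - e) (by omega) _ (actL_mem_fixedPts hα h1 _)
            (actL_homogeneous_mem hE α (homogeneousComponent_isHomogeneous _ _))) (Algebra.subset_adjoin (Or.inr i.2))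
        · exact B.zero_mem
  intro f hf
  rw [← sum_homogeneousComponent f]
  refine B.sum_mem fun d _ => key d _ ?_ (homogeneousComponent_isHomogeneous d f)
  rw [← actL_eq_self_of_fixed (v := f) h1 hf, homogeneousComponent_actL hE]
  exact actL_mem_fixedPts hα h1 _

end Graded

section Linearise

variable {k : Type u} [CommRing k] {H : Type v} [CommRing H] [HopfAlgebra k H]
  {A : Type w} [CommRing A] [Algebra k A] [Comod k H A] [GLin.IsCoactAlg k H A]
  {ι : Type w'} [Fintype ι] (m : ι → ι → H)

/-- The coefficientwise map underlying the extension of a coaction to a polynomial ring. -/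
def extCoeffHom : A →ₐ[k] MvPolynomial ι A ⊗[k] H :=
  (Algebra.TensorProduct.map (IsScalarTower.toAlgHom k A (MvPolynomial ι A)) (AlgHom.id k H)).comp
    (GLin.coactAlgHom k H A)

variable (k A) in
/-- The extension of a coaction to a polynomial ring, linear in the variables with the given matrix. -/
def extCoact : MvPolynomial ι A →ₐ[k] MvPolynomial ι A ⊗[k] H :=
  { eval₂Hom (extCoeffHom (k := k) (H := H) (A := A) (ι := ι)).toRingHom
      (fun j => ∑ i, (X i : MvPolynomial ι A) ⊗ₜ[k] m i j) with
    commutes' := fun c => by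
      show eval₂Hom _ _ (C (algebraMap k A c)) = _
      rw [eval₂Hom_C]
      exact (extCoeffHom (k := k) (H := H) (A := A) (ι := ι)).commutes c }

theorem extCoact_C (a : A) : extCoact k A m (C a) =
    ((IsScalarTower.toAlgHom k A (MvPolynomial ι A)).toLinearMap).rTensor H (Comod.coact (k := k) (A := H) a) :=
  eval₂Hom_C _ _ a

theorem extCoact_X (j : ι) : extCoact k A m (X j) = ∑ i, (X i : MvPolynomial ι A) ⊗ₜ[k] m i j :=
  eval₂Hom_X' _ _ j

variable [DecidableEq ι]

theorem extCoact_coassoc (hΔ : ∀ i j, CoalgebraStruct.comul (R := k) (m i j) = ∑ l, m i l ⊗ₜ[k] m l j)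
    (f : MvPolynomial ι A) :
    TensorProduct.assoc k (MvPolynomial ι A) H H ((extCoact k A m).toLinearMap.rTensor H (extCoact k A m f)) =
      (CoalgebraStruct.comul (R := k) (A := H)).lTensor (MvPolynomial ι A) (extCoact k A m f) := by
  let f1 : MvPolynomial ι A →ₐ[k] MvPolynomial ι A ⊗[k] (H ⊗[k] H) :=
    (Algebra.TensorProduct.assoc k k k (MvPolynomial ι A) H H).toAlgHom.comp
      ((Algebra.TensorProduct.map (extCoact k A m) (AlgHom.id k H)).comp (extCoact k A m))
  let f2 : MvPolynomial ι A →ₐ[k] MvPolynomial ι A ⊗[k] (H ⊗[k] H) :=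
    (Algebra.TensorProduct.map (AlgHom.id k (MvPolynomial ι A)) (Bialgebra.comulAlgHom k H)).comp (extCoact k A m)
  show f1 f = f2 f
  induction f using MvPolynomial.induction_on with
  | C a =>
    show TensorProduct.assoc k (MvPolynomial ι A) H H ((extCoact k A m).toLinearMap.rTensor H (extCoact k A m (C a))) =
      (CoalgebraStruct.comul (R := k) (A := H)).lTensor (MvPolynomial ι A) (extCoact k A m (C a))
    rw [extCoact_C, ← LinearMap.rTensor_comp_apply,
      show (extCoact k A m).toLinearMap ∘ₗ (IsScalarTower.toAlgHom k A (MvPolynomial ι A)).toLinearMap =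
        ((IsScalarTower.toAlgHom k A (MvPolynomial ι A)).toLinearMap).rTensor H ∘ₗ Comod.coact (k := k) (A := H) from
        LinearMap.ext fun b => extCoact_C m b,
      LinearMap.rTensor_comp_apply, ComodTens.assoc_rTensor_rTensor, ComodTens.lTensor_rTensor_comm]
    exact congrArg _ (LinearMap.congr_fun (Comod.coassoc (k := k) (A := H) (V := A)) a)
  | add p q hp hq => rw [map_add, map_add, hp, hq]
  | mul_X p j hp =>
    rw [map_mul, map_mul, hp]
    congr 1
    show TensorProduct.assoc k (MvPolynomial ι A) H H ((extCoact k A m).toLinearMap.rTensor H (extCoact k A m (X j))) =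
      (CoalgebraStruct.comul (R := k) (A := H)).lTensor (MvPolynomial ι A) (extCoact k A m (X j))
    simp only [extCoact_X, map_sum, LinearMap.rTensor_tmul, LinearMap.lTensor_tmul, AlgHom.toLinearMap_apply,
      TensorProduct.sum_tmul, TensorProduct.assoc_tmul, hΔ, TensorProduct.tmul_sum]
    exact Finset.sum_comm

theorem extCoact_counit (hε : ∀ i j, CoalgebraStruct.counit (R := k) (m i j) = if i = j then 1 else 0)
    (f : MvPolynomial ι A) :
    (CoalgebraStruct.counit (R := k) (A := H)).lTensor (MvPolynomial ι A) (extCoact k A m f) = f ⊗ₜ[k] (1 : k) := by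
  let f1 : MvPolynomial ι A →ₐ[k] MvPolynomial ι A ⊗[k] k :=
    (Algebra.TensorProduct.map (AlgHom.id k (MvPolynomial ι A)) (Bialgebra.counitAlgHom k H)).comp (extCoact k A m)
  show f1 f = (Algebra.TensorProduct.includeLeft : MvPolynomial ι A →ₐ[k] MvPolynomial ι A ⊗[k] k) f
  induction f using MvPolynomial.induction_on with
  | C a =>
    show (CoalgebraStruct.counit (R := k) (A := H)).lTensor (MvPolynomial ι A) (extCoact k A m (C a)) = _
    rw [extCoact_C, ComodTens.lTensor_rTensor_comm,
      show (CoalgebraStruct.counit (R := k) (A := H)).lTensor A (Comod.coact (k := k) (A := H) a) = a ⊗ₜ[k] (1 : k)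
        from LinearMap.congr_fun (Comod.counit_comp (k := k) (A := H) (V := A)) a]
    rfl
  | add p q hp hq => rw [map_add, map_add, hp, hq]
  | mul_X p j hp =>
    rw [map_mul, map_mul, hp]
    congr 1
    show (CoalgebraStruct.counit (R := k) (A := H)).lTensor (MvPolynomial ι A) (extCoact k A m (X j)) = _
    simp only [extCoact_X, map_sum, LinearMap.lTensor_tmul, hε, Algebra.TensorProduct.includeLeft_apply]
    simp [TensorProduct.tmul_ite]

variable (A) in
/-- The comodule structure on a polynomial ring given by a comatrix. -/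
@[reducible] def extComod (hΔ : ∀ i j, CoalgebraStruct.comul (R := k) (m i j) = ∑ l, m i l ⊗ₜ[k] m l j)
    (hε : ∀ i j, CoalgebraStruct.counit (R := k) (m i j) = if i = j then 1 else 0) :
    Comod k H (MvPolynomial ι A) where
  coact := (extCoact k A m).toLinearMap
  coassoc := LinearMap.ext (extCoact_coassoc m hΔ)
  counit_comp := LinearMap.ext (extCoact_counit m hε)

end Linearise

section Relative

variable {k : Type u} [Field k] {H : Type v} [CommRing H] [HopfAlgebra k H]
  {A : Type w} [CommRing A] [Algebra k A] [Comod k H A] [GLin.IsCoactAlg k H A]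
  {C : Type w'} [CommRing C] [Algebra k C] [Comod k H C] [GLin.IsCoactAlg k H C]
  [Algebra A C] [IsScalarTower k A C]

theorem map_mem_invariants (hAC : Hoch.IsComodHom H (IsScalarTower.toAlgHom k A C).toLinearMap) {a : A}
    (ha : a ∈ GLin.invariants k H A) : algebraMap A C a ∈ GLin.invariants k H C := by
  show Comod.coact (k := k) (A := H) ((IsScalarTower.toAlgHom k A C).toLinearMap a) = _
  rw [show Comod.coact (k := k) (A := H) ((IsScalarTower.toAlgHom k A C).toLinearMap a) = _ from
      LinearMap.congr_fun hAC a, LinearMap.comp_apply,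
    show Comod.coact (k := k) (A := H) a = a ⊗ₜ[k] (1 : H) from ha, LinearMap.rTensor_tmul]
  rfl

/-- Relative Hilbert finiteness: invariants of an equivariant algebra of finite type. -/
theorem exists_finset_invariants_eq_adjoin [IsNoetherianRing A] [Algebra.FiniteType A C] {α : H →ₗ[k] k}
    (hα : IsIntegral α) (h1 : α 1 = 1) (hAC : Hoch.IsComodHom H (IsScalarTower.toAlgHom k A C).toLinearMap) :
    ∃ s : Finset C, GLin.invariants k H C =
      Algebra.adjoin k (⇑(algebraMap A C) '' ↑(GLin.invariants k H A) ∪ ↑s) := by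
  classical
  obtain ⟨g, hg⟩ := Algebra.FiniteType.out (R := A) (A := C)
  obtain ⟨W, hWf, hgW, hW⟩ := exists_finite_subcomod (k := k) (A := H) (V := C) g.finite_toSet
  let b := Module.Free.chooseBasis k W
  obtain ⟨m, hm, hΔ, hε⟩ := exists_matCoeff_of_isSubcomod hW b
  letI := extComod A m hΔ hε
  haveI : GLin.IsCoactAlg k H (MvPolynomial (Module.Free.ChooseBasisIndex k W) A) :=
    ⟨map_one (extCoact k A m), map_mul (extCoact k A m)⟩
  have hE : IsLinExt k H A (Module.Free.ChooseBasisIndex k W) := by
    refine ⟨extCoact_C m, fun i => ?_⟩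
    show extCoact k A m (MvPolynomial.X i) ∈ _
    rw [extCoact_X]
    exact Submodule.sum_mem _ fun j _ =>
      ⟨(⟨MvPolynomial.X j, Submodule.subset_span ⟨j, rfl⟩⟩ :
        Submodule.span k (Set.range (MvPolynomial.X : _ → MvPolynomial (Module.Free.ChooseBasisIndex k W) A))) ⊗ₜ[k] m j i, rfl⟩
  obtain ⟨s, hs, hle⟩ := exists_finset_invariants_le_adjoin hα h1 hE
  let θ : MvPolynomial (Module.Free.ChooseBasisIndex k W) A →ₐ[A] C := aeval fun i => (b i : C)
  have hθ : Hoch.IsComodHom H (θ.restrictScalars k).toLinearMap := by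
    apply LinearMap.ext
    intro f
    let F1 : MvPolynomial (Module.Free.ChooseBasisIndex k W) A →ₐ[k] C ⊗[k] H :=
      (GLin.coactAlgHom k H C).comp (θ.restrictScalars k)
    let F2 : MvPolynomial (Module.Free.ChooseBasisIndex k W) A →ₐ[k] C ⊗[k] H :=
      (Algebra.TensorProduct.map (θ.restrictScalars k) (AlgHom.id k H)).comp (extCoact k A m)
    show F1 f = F2 f
    induction f using MvPolynomial.induction_on with
    | C a =>
      show Comod.coact (k := k) (A := H) (θ (MvPolynomial.C a)) =
        (θ.restrictScalars k).toLinearMap.rTensor H (extCoact k A m (MvPolynomial.C a))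
      rw [extCoact_C, ← LinearMap.rTensor_comp_apply, show θ (MvPolynomial.C a) = algebraMap A C a from θ.commutes a,
        show (θ.restrictScalars k).toLinearMap ∘ₗ (IsScalarTower.toAlgHom k A _).toLinearMap =
          (IsScalarTower.toAlgHom k A C).toLinearMap from LinearMap.ext fun x => θ.commutes x]
      exact LinearMap.congr_fun hAC a
    | add p q hp hq => rw [map_add, map_add, hp, hq]
    | mul_X p j hp =>
      rw [map_mul, map_mul, hp]
      congr 1
      show Comod.coact (k := k) (A := H) (θ (MvPolynomial.X j)) =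
        (θ.restrictScalars k).toLinearMap.rTensor H (extCoact k A m (MvPolynomial.X j))
      rw [aeval_X, extCoact_X, map_sum, hm]
      simp [θ]
  have hsurj : Function.Surjective θ := by
    rw [← AlgHom.range_eq_top, ← top_le_iff, ← hg, Algebra.adjoin_le_iff]
    intro x hx
    have hxW := b.sum_repr ⟨x, hgW hx⟩
    have h2 := congrArg W.subtype hxW
    rw [map_sum] at h2
    refine ⟨∑ i, algebraMap k (MvPolynomial (Module.Free.ChooseBasisIndex k W) A) (b.repr ⟨x, hgW hx⟩ i) * MvPolynomial.X i, ?_⟩
    show θ _ = x
    refine Eq.trans ?_ h2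
    rw [map_sum]
    refine Finset.sum_congr rfl fun i _ => ?_
    rw [map_mul, aeval_X, map_smul, Algebra.smul_def, Submodule.coe_subtype]
    congr 1
    exact (θ.restrictScalars k).commutes _
  refine ⟨s.image θ, le_antisymm ?_ ?_⟩
  · intro y hy
    obtain ⟨f, hf, rfl⟩ := exists_fixed_preimage hα h1 (θ.restrictScalars k).toLinearMap hθ hsurj hy
    have h3 : θ.restrictScalars k f ∈ (Algebra.adjoin k
        ((MvPolynomial.C : A → MvPolynomial (Module.Free.ChooseBasisIndex k W) A) '' (GLin.invariants k H A : Set A) ∪ ↑s)).map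
          (θ.restrictScalars k) := ⟨f, hle hf, rfl⟩
    rw [AlgHom.map_adjoin, Set.image_union, Set.image_image, ← Finset.coe_image] at h3
    have e : (fun x => θ.restrictScalars k (MvPolynomial.C x)) = ⇑(algebraMap A C) := funext fun x => θ.commutes x
    rw [e] at h3
    exact h3
  · rw [Algebra.adjoin_le_iff]
    rintro y (⟨a, ha, rfl⟩ | hy)
    · exact map_mem_invariants hAC ha
    · obtain ⟨f, hf, rfl⟩ := Finset.mem_image.1 (Finset.mem_coe.1 hy)
      show Comod.coact (k := k) (A := H) ((θ.restrictScalars k).toLinearMap f) = _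
      rw [show Comod.coact (k := k) (A := H) ((θ.restrictScalars k).toLinearMap f) = _ from LinearMap.congr_fun hθ f,
        LinearMap.comp_apply, show Comod.coact (k := k) (A := H) f = f ⊗ₜ[k] (1 : H) from hs hf, LinearMap.rTensor_tmul]
      rfl

/-- Hilbert: invariants of an algebra of finite type. -/
theorem exists_finset_invariants_adjoin {R : Type w} [CommRing R] [Algebra k R] [Comod k H R]
    [GLin.IsCoactAlg k H R] [Algebra.FiniteType k R] {α : H →ₗ[k] k} (hα : IsIntegral α) (h1 : α 1 = 1) :
    ∃ s : Finset R, GLin.invariants k H R = Algebra.adjoin k (s : Set R) := by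
  letI := Comod.trivial k H k
  haveI : GLin.IsCoactAlg k H k := ⟨rfl, fun a b => by
    show (a * b) ⊗ₜ[k] (1 : H) = (a ⊗ₜ[k] (1 : H)) * (b ⊗ₜ[k] (1 : H))
    rw [Algebra.TensorProduct.tmul_mul_tmul, one_mul]⟩
  have h : Hoch.IsComodHom H (IsScalarTower.toAlgHom k k R).toLinearMap := by
    apply LinearMap.ext
    intro c
    exact (GLin.invariants k H R).algebraMap_mem c
  obtain ⟨s, hs⟩ := exists_finset_invariants_eq_adjoin (A := k) (C := R) hα h1 h
  refine ⟨s, hs.trans (le_antisymm ?_ (Algebra.adjoin_mono Set.subset_union_right))⟩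
  rw [Algebra.adjoin_le_iff]
  rintro y (⟨a, -, rfl⟩ | hy)
  · exact Subalgebra.algebraMap_mem _ a
  · exact Algebra.subset_adjoin hy

end Relative

end

end Groth.Agent.H20Comod
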