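import Groth.Agent.H20Comod.DualMod
import Groth.Agent.H20Comod.Invariants
import Mathlib.RingTheory.HopfAlgebra.Quotient

/-!
The stabiliser subgroup scheme of a vector.
-/

set_option autoImplicit false

universe u v w

open TensorProduct HopfRep

namespace Groth.Agent.H20Comod

noncomputable section

variable {k : Type u} [Field k] {A : Type v} [CommRing A] [HopfAlgebra k A]
  {V : Type w} [AddCommGroup V] [Module k V] [Comod k A V]

variable (A) in
/-- The ideal of the stabiliser of a vector. -/
def vecStab (f : V) : Ideal A :=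
  Ideal.span (Set.range fun φ : V →ₗ[k] k => coeff A φ f - φ f • (1 : A))

theorem coeff_sub_mem_vecStab (f : V) (φ : V →ₗ[k] k) : coeff A φ f - φ f • (1 : A) ∈ vecStab A (k := k) f :=
  Ideal.subset_span ⟨φ, rfl⟩

theorem coact_sub_mem_range (f : V) :
    Comod.coact (k := k) (A := A) f - f ⊗ₜ[k] (1 : A) ∈
      LinearMap.range (((vecStab A (k := k) f).restrictScalars k).subtype.lTensor V) := by
  rw [mem_range_lTensor_subtype_iff]
  intro g
  rw [map_sub, sliceL_tmul]
  exact coeff_sub_mem_vecStab f g

theorem comul_coeff_sub (f : V) (φ : V →ₗ[k] k) :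
    CoalgebraStruct.comul (R := k) (coeff A φ f - φ f • (1 : A)) =
      (coeff A φ f - φ f • (1 : A)) ⊗ₜ[k] (1 : A) +
        (coeff A φ).rTensor A (Comod.coact (k := k) (A := A) f - f ⊗ₜ[k] (1 : A)) := by
  rw [map_sub (CoalgebraStruct.comul (R := k) (A := A)), map_smul, comul_coeff, Bialgebra.comul_one,
    Algebra.TensorProduct.one_def, map_sub, LinearMap.rTensor_tmul, TensorProduct.sub_tmul,
    TensorProduct.smul_tmul']
  abel

instance isHopfIdeal_vecStab (f : V) : (vecStab A (k := k) f).IsHopfIdeal k := by
  set J := vecStab A (k := k) f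
  obtain ⟨y, hy⟩ := coact_sub_mem_range (A := A) (k := k) f
  haveI : (J.restrictScalars k).IsCoideal := by
    refine Submodule.IsCoideal.mk ?_ ?_
    · have hle : J ≤ RingHom.ker (Bialgebra.counitAlgHom k A) := Ideal.span_le.2 (by
        rintro _ ⟨φ, rfl⟩
        show Bialgebra.counitAlgHom k A (coeff A φ f - φ f • (1 : A)) = 0
        rw [map_sub, map_smul, map_one, Bialgebra.counitAlgHom_apply, apply_coeff, actL_counit, smul_eq_mul,
          mul_one, sub_self])
      exact fun x hx => hle hx
    · have hle : J ≤ RingHom.ker ((Algebra.TensorProduct.map (Ideal.Quotient.mkₐ k J) (Ideal.Quotient.mkₐ k J)).comp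
          (Bialgebra.comulAlgHom k A)) := Ideal.span_le.2 (by
        rintro _ ⟨φ, rfl⟩
        show Algebra.TensorProduct.map (Ideal.Quotient.mkₐ k J) (Ideal.Quotient.mkₐ k J)
          (CoalgebraStruct.comul (R := k) (coeff A φ f - φ f • (1 : A))) = 0
        rw [comul_coeff_sub, map_add, Algebra.TensorProduct.map_tmul,
          show Ideal.Quotient.mkₐ k J (coeff A φ f - φ f • (1 : A)) = 0 from
            Ideal.Quotient.eq_zero_iff_mem.2 (coeff_sub_mem_vecStab f φ),
          TensorProduct.zero_tmul, zero_add, ← hy]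
        clear hy
        induction y using TensorProduct.induction_on with
        | zero => simp
        | tmul p q =>
          rw [LinearMap.lTensor_tmul, LinearMap.rTensor_tmul, Algebra.TensorProduct.map_tmul,
            show Ideal.Quotient.mkₐ k J (((J.restrictScalars k).subtype q : A)) = 0 from
              Ideal.Quotient.eq_zero_iff_mem.2 q.2, TensorProduct.tmul_zero]
        | add p q hp hq => simp only [map_add, hp, hq, add_zero])
      exact fun x hx => hle hx
  refine Ideal.IsHopfIdeal.mk ?_
  have hle : J ≤ Ideal.comap (HopfAlgebra.antipodeAlgHom k A) J := Ideal.span_le.2 (by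
    rintro _ ⟨φ, rfl⟩
    show HopfAlgebra.antipode k (coeff A φ f - φ f • (1 : A)) ∈ J
    have h := HopfAlgebra.mul_antipode_rTensor_comul_apply (R := k) (coeff A φ f - φ f • (1 : A))
    rw [map_sub (Coalgebra.counit (R := k) (A := A)), map_smul, Bialgebra.counit_one, apply_coeff, actL_counit,
      smul_eq_mul, mul_one, sub_self, map_zero, comul_coeff_sub, map_add, map_add, LinearMap.rTensor_tmul,
      LinearMap.mul'_apply, mul_one, ← hy] at h
    rw [eq_neg_of_add_eq_zero_left h]
    refine neg_mem ?_
    clear hy h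
    induction y using TensorProduct.induction_on with
    | zero => simp
    | tmul p q =>
      simp only [LinearMap.lTensor_tmul, LinearMap.rTensor_tmul, LinearMap.mul'_apply]
      exact Ideal.mul_mem_left _ _ q.2
    | add p q hp hq => simp only [map_add]; exact add_mem hp hq)
  exact fun x hx => hle hx

theorem fixed_quot_iff_vecStab_le (f : V) (I : Ideal A) :
    (Ideal.Quotient.mkₐ k I).toLinearMap.lTensor V (Comod.coact (k := k) (A := A) f) = f ⊗ₜ[k] (1 : A ⧸ I) ↔
      vecStab A (k := k) f ≤ I := by
  constructor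
  · intro h
    refine Ideal.span_le.2 ?_
    rintro _ ⟨φ, rfl⟩
    have h' := congrArg (sliceL φ) h
    rw [sliceL_lTensor, sliceL_tmul] at h'
    show coeff A φ f - φ f • (1 : A) ∈ I
    rw [← Ideal.Quotient.eq_zero_iff_mem]
    show Ideal.Quotient.mkₐ k I (coeff A φ f - φ f • (1 : A)) = 0
    rw [map_sub, map_smul, map_one]
    exact sub_eq_zero.2 h'
  · intro h
    rw [← sub_eq_zero, show f ⊗ₜ[k] (1 : A ⧸ I) =
      (Ideal.Quotient.mkₐ k I).toLinearMap.lTensor V (f ⊗ₜ[k] (1 : A)) by simp, ← map_sub]
    obtain ⟨y, hy⟩ := coact_sub_mem_range (A := A) (k := k) f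
    rw [← hy]
    clear hy
    induction y using TensorProduct.induction_on with
    | zero => simp
    | tmul p q =>
      rw [LinearMap.lTensor_tmul, LinearMap.lTensor_tmul, AlgHom.toLinearMap_apply,
        show Ideal.Quotient.mkₐ k I ((((vecStab A (k := k) f).restrictScalars k).subtype q : A)) = 0 from
          Ideal.Quotient.eq_zero_iff_mem.2 (h q.2), TensorProduct.tmul_zero]
    | add p q hp hq => simp only [map_add, hp, hq, add_zero]

end

end Groth.Agent.H20Comod
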