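import Groth.Agent.H20Comod.FiniteQuot
import Groth.Agent.H20Comod.VecStab
import Groth.Agent.H20Comod.LinRed
import Groth.Agent.H02CA.SmoothRegular
import Groth.Agent.H05EGA4.Regular
import Groth.Agent.H4Depth.Regular
import Groth.Prelude.Def_W4c6stackyreslrsPsRefl
import Groth.Prelude.Def_GLin2
import Groth.Prelude.Def_ComodSub
import Mathlib.RingTheory.Flat.EquationalCriterion
import Mathlib.RingTheory.Flat.Localization
import Mathlib.RingTheory.Nakayama

/-!
Chevalley-Shephard-Todd at a fixed rational point: for a finite linearly reductive group scheme generated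
by pseudo-reflections at `x`, the local ring of `x` is flat over the invariants, which are thus regular there.
-/

set_option autoImplicit false

universe u v w

open TensorProduct HopfRep

namespace Groth.Agent.H20Comod

noncomputable section

section Stable

variable {k : Type u} [Field k] {A : Type v} [CommRing A] [HopfAlgebra k A]
  {R : Type w} [CommRing R] [Algebra k R] [Comod k A R]

variable (k A) in
/-- An ideal stable under the coaction. -/
def IsStable (a : Ideal R) : Prop := ∀ (φ : A →ₗ[k] k), ∀ f ∈ a, actL φ f ∈ a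

theorem coact_eq_sum_actL {κ : Type*} [Fintype κ] (b : Module.Basis κ k A) (f : R) :
    Comod.coact (k := k) (A := A) f = ∑ j, actL (b.coord j) f ⊗ₜ[k] b j := by
  simp only [actL_apply]
  generalize Comod.coact (k := k) (A := A) f = z
  induction z using TensorProduct.induction_on with
  | zero => simp
  | tmul v a =>
    conv_lhs => rw [← b.sum_repr a, TensorProduct.tmul_sum]
    refine Finset.sum_congr rfl fun j _ => ?_
    rw [sliceR_tmul, TensorProduct.smul_tmul, Module.Basis.coord_apply]
  | add u v hu hv => simp only [map_add, TensorProduct.add_tmul, Finset.sum_add_distrib, ← hu, ← hv]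

variable [GLin.IsCoactAlg k A R]

theorem actL_mul_eq_sum {κ : Type*} [Fintype κ] (b : Module.Basis κ k A) (φ : A →ₗ[k] k) (f g : R) :
    actL φ (f * g) = ∑ i, ∑ j, φ (b i * b j) • (actL (b.coord i) f * actL (b.coord j) g) := by
  rw [actL_apply, GLin.IsCoactAlg.coact_mul, coact_eq_sum_actL b f, coact_eq_sum_actL b g, Finset.sum_mul_sum]
  simp only [map_sum, Algebra.TensorProduct.tmul_mul_tmul, sliceR_tmul]

variable [Module.Finite k A]

theorem IsStable.span {s : Set R} (h : ∀ (φ : A →ₗ[k] k), ∀ z ∈ s, actL φ z ∈ Ideal.span s) :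
    IsStable k A (Ideal.span s) := by
  intro φ f hf
  induction hf using Submodule.span_induction generalizing φ with
  | mem z hz => exact h φ z hz
  | zero => rw [map_zero]; exact zero_mem _
  | add a b _ _ ha hb => rw [map_add]; exact add_mem (ha φ) (hb φ)
  | smul c a _ ha =>
    rw [smul_eq_mul, actL_mul_eq_sum (Module.finBasis k A)]
    exact sum_mem fun i _ => sum_mem fun j _ =>
      Submodule.smul_of_tower_mem _ _ (Ideal.mul_mem_left _ _ (ha _))

omit [GLin.IsCoactAlg k A R] [Module.Finite k A] in
theorem IsStable.sup {a b : Ideal R} (ha : IsStable k A a) (hb : IsStable k A b) : IsStable k A (a ⊔ b) := by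
  intro φ f hf
  obtain ⟨y, hy, z, hz, rfl⟩ := Submodule.mem_sup.1 hf
  rw [map_add]
  exact add_mem (Submodule.mem_sup_left (ha φ y hy)) (Submodule.mem_sup_right (hb φ z hz))

theorem IsStable.mul {a b : Ideal R} (ha : IsStable k A a) (hb : IsStable k A b) : IsStable k A (a * b) := by
  intro φ f hf
  induction hf using Submodule.mul_induction_on' with
  | mem_mul_mem y hy z hz =>
    rw [actL_mul_eq_sum (Module.finBasis k A)]
    exact sum_mem fun i _ => sum_mem fun j _ =>
      Submodule.smul_of_tower_mem _ _ (Ideal.mul_mem_mul (ha _ y hy) (hb _ z hz))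
  | add y _ z _ hy hz => rw [map_add]; exact add_mem hy hz

theorem IsStable.pow {a : Ideal R} (ha : IsStable k A a) : ∀ n : ℕ, IsStable k A (a ^ n) := by
  intro n
  induction n with
  | zero => intro φ f _; rw [pow_zero, Ideal.one_eq_top]; trivial
  | succ n ih => rw [pow_succ]; exact ih.mul ha

omit [GLin.IsCoactAlg k A R] [Module.Finite k A] in
theorem IsStable.isSubcomod {a : Ideal R} (ha : IsStable k A a) :
    IsSubcomod (k := k) (A := A) (a.restrictScalars k) :=
  (isSubcomod_iff_forall_actL _).2 fun v hv φ => ha φ v hv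

omit [Module.Finite k A] in
theorem orbitHom_sliceR (x : R →ₐ[k] k) (φ : A →ₗ[k] k) (f : R) :
    x (actL φ f) = φ (GLin.orbitHom k A x f) := by
  rw [actL_apply]
  show x (sliceR φ _) = φ (Algebra.TensorProduct.lid k A (Algebra.TensorProduct.map x (AlgHom.id k A)
    (Comod.coact (k := k) (A := A) f)))
  generalize Comod.coact (k := k) (A := A) f = z
  induction z using TensorProduct.induction_on with
  | zero => simp
  | tmul v a => simp [mul_comm]
  | add u v hu hv => simp only [map_add, hu, hv]

omit [Module.Finite k A] in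
theorem apply_actL_of_isFixedPt {x : R →ₐ[k] k} (hx : GLin.IsFixedPt k A x) (φ : A →ₗ[k] k) (f : R) :
    x (actL φ f) = φ 1 * x f := by
  rw [orbitHom_sliceR, show GLin.orbitHom k A x f = x f • (1 : A) by
    rw [show GLin.orbitHom k A x = (Algebra.ofId k A).comp x from hx, AlgHom.comp_apply, Algebra.ofId_apply,
      Algebra.algebraMap_eq_smul_one], map_smul, smul_eq_mul, mul_comm]

omit [Module.Finite k A] in
theorem isStable_ker {x : R →ₐ[k] k} (hx : GLin.IsFixedPt k A x) : IsStable k A (RingHom.ker x) := by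
  intro φ f hf
  rw [RingHom.mem_ker] at hf ⊢
  rw [apply_actL_of_isFixedPt hx, hf, mul_zero]

end Stable

section Point

variable {k : Type u} [Field k] {A : Type u} [CommRing A] [HopfAlgebra k A] [Module.Finite k A]
  {R : Type u} [CommRing R] [Algebra k R] [Comod k A R] [GLin.IsCoactAlg k A R]

omit [Module.Finite k A] [Comod k A R] [GLin.IsCoactAlg k A R] in
theorem mem_of_mul_mem_of_ne_zero {x : R →ₐ[k] k} {K : Ideal R} {n : ℕ} (hK : RingHom.ker x ^ n ≤ K) {s y : R}
    (hs : x s ≠ 0) (h : s * y ∈ K) : y ∈ K := by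
  have hc : algebraMap k R (x s) - s ∈ RingHom.ker x := by
    rw [RingHom.mem_ker, map_sub, AlgHom.commutes, Algebra.algebraMap_self, RingHom.id_apply, sub_self]
  obtain ⟨w, hw⟩ := sub_dvd_pow_sub_pow (algebraMap k R (x s)) (algebraMap k R (x s) - s) n
  have hy : algebraMap k R (x s) ^ n * y ∈ K := by
    rw [show algebraMap k R (x s) ^ n * y =
      (algebraMap k R (x s) ^ n - (algebraMap k R (x s) - s) ^ n) * y +
        (algebraMap k R (x s) - s) ^ n * y by ring, hw]
    refine add_mem ?_ (Ideal.mul_mem_right _ _ (hK (Ideal.pow_mem_pow hc n)))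
    rw [sub_sub_cancel, mul_comm s w, mul_assoc]
    exact Ideal.mul_mem_left _ _ h
  exact (Ideal.unit_mul_mem_iff_mem _ ((hs.isUnit.map (algebraMap k R)).pow n)).1 hy

/-- The element cutting out the fixed locus of a pseudo-reflection near a fixed point. -/
theorem exists_reflecting_at [IsNoetherianRing R]
    (hsub : ∀ (J : Ideal A) [J.IsHopfIdeal k], IsLinearlyReductive k (A ⧸ J))
    {x : R →ₐ[k] k} (hx : GLin.IsFixedPt k A x) {I : Ideal A} (hI : GLin.IsPseudoReflAt k A R x I) :
    ∃ v t : R, x v = 0 ∧ v ∉ RingHom.ker x ^ 2 ∧ x t = 1 ∧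
      ∀ (φ : A ⧸ I →ₗ[k] k) (f : R),
        v ∣ t * (actL (φ ∘ₗ (Ideal.Quotient.mkₐ k I).toLinearMap) f - φ 1 • f) := by
  obtain ⟨hH, hdim⟩ := hI
  haveI := hH
  obtain ⟨α, hα, h1⟩ := exists_isIntegral_of_isLinearlyReductive (hsub I)
  set q := (Ideal.Quotient.mkₐ k I).toLinearMap
  haveI : Module.Finite k (A ⧸ I) := Module.Finite.of_surjective q Ideal.Quotient.mk_surjective
  let ρI : Comod k (A ⧸ I) R := GLin.comodAlong (Bialgebra.Quotient.mkBialgHom I) inferInstance
  haveI hIalg : @GLin.IsCoactAlg k _ (A ⧸ I) _ _ R _ _ ρI := by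
    refine @GLin.IsCoactAlg.mk k _ (A ⧸ I) _ _ R _ _ ρI ?_ fun f g => ?_
    · show Algebra.TensorProduct.map (AlgHom.id k R) (Ideal.Quotient.mkₐ k I)
        (Comod.coact (k := k) (A := A) (1 : R)) = 1
      rw [GLin.IsCoactAlg.coact_one (k := k), map_one]
    · show Algebra.TensorProduct.map (AlgHom.id k R) (Ideal.Quotient.mkₐ k I)
        (Comod.coact (k := k) (A := A) (f * g)) = _
      rw [GLin.IsCoactAlg.coact_mul, map_mul]
      rfl
  letI := ρI
  have hact : ∀ (φ : A ⧸ I →ₗ[k] k) (f : R), actL φ f = actL (φ ∘ₗ q) f := by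
    intro φ f
    show sliceR φ (TensorProduct.map LinearMap.id _ (Comod.coact (k := k) (A := A) f)) = _
    rw [← LinearMap.lTensor_def, sliceR_lTensor]
    rfl
  set m := RingHom.ker x
  have hm : IsStable k (A ⧸ I) m := fun φ f hf => by rw [hact]; exact isStable_ker hx _ f hf
  set e : R →ₗ[k] R := actL (A := A ⧸ I) α
  have heinv : ∀ f, e f ∈ GLin.invariants k (A ⧸ I) R := fun f => actL_mem_fixedPts hα h1 f
  have hefix : ∀ (φ : A ⧸ I →ₗ[k] k) f, actL φ (e f) = φ 1 • e f := fun φ f => by
    rw [actL_apply, show Comod.coact (k := k) (A := A ⧸ I) (e f) = e f ⊗ₜ[k] (1 : A ⧸ I) from heinv f, sliceR_tmul]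
  have heid : ∀ f, e (e f) = e f := fun f => actL_eq_self_of_fixed h1 (heinv f)
  have hecomm : ∀ (φ : A ⧸ I →ₗ[k] k) f, e (actL φ f) = φ 1 • e f := fun φ f => by
    rw [← hefix φ f]
    exact actL_natural _ (isComodHom_actL hα h1) φ f
  have hex : ∀ f, x (e f) = x f := fun f => by
    show x (actL α f) = _
    rw [hact, apply_actL_of_isFixedPt hx, show (α ∘ₗ q) 1 = α 1 from congrArg α (map_one (Ideal.Quotient.mkₐ k I)), h1, one_mul]
  set N := LinearMap.ker e
  have hNm : ∀ z ∈ N, z ∈ m := fun z hz => by
    rw [RingHom.mem_ker, ← hex, LinearMap.mem_ker.1 hz, map_zero]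
  have hsubN : ∀ f, f - e f ∈ N := fun f => by rw [LinearMap.mem_ker, map_sub, heid, sub_self]
  -- the cotangent line
  set π := (Ideal.Quotient.mkₐ k (m ^ 2)).toLinearMap
  have hπ : ∀ {f : R}, π f = 0 ↔ f ∈ m ^ 2 := Ideal.Quotient.eq_zero_iff_mem
  set W := GLin.cotFixed k A R x I
  set L := GLin.cotSpace k R x
  have hLpos : 0 < Module.finrank k L := by omega
  haveI : Module.Finite k L := Module.finite_of_finrank_pos hLpos
  have hNL : N.map π ≤ L := by
    rintro _ ⟨z, hz, rfl⟩
    exact ⟨z, hNm z hz, rfl⟩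
  have hWL : W ≤ L := Submodule.map_mono inf_le_left
  have hdisj : W ⊓ N.map π = ⊥ := by
    refine (Submodule.eq_bot_iff _).2 ?_
    rintro _ ⟨⟨f, hf, rfl⟩, ⟨z, hz, hzf⟩⟩
    have hf2 : e f - f ∈ m ^ 2 := by
      have h := congrArg (sliceR α) (show TensorProduct.map π q (Comod.coact (k := k) (A := A) f) =
        π f ⊗ₜ[k] (1 : A ⧸ I) from hf.2)
      rw [sliceR_tmul, h1, one_smul, ← LinearMap.rTensor_comp_lTensor] at h
      rw [← hπ, map_sub, sub_eq_zero]
      refine Eq.trans ?_ h
      rw [LinearMap.comp_apply, sliceR_rTensor, sliceR_lTensor]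
      exact congrArg π (hact α f)
    have hzf2 : z - f ∈ m ^ 2 := hπ.1 (by rw [map_sub]; exact sub_eq_zero.2 hzf)
    have h : e (z - f) ∈ m ^ 2 := (hm.pow 2) α _ hzf2
    rw [map_sub, LinearMap.mem_ker.1 hz, zero_sub] at h
    exact hπ.2 (by simpa using neg_mem (add_mem hf2 h))
  haveI : Module.Finite k (N.map π) := Submodule.finiteDimensional_of_le hNL
  haveI : Module.Finite k W := Submodule.finiteDimensional_of_le hWL
  have hrank : Module.finrank k (N.map π) ≤ 1 := by
    have h2 := Submodule.finrank_sup_add_finrank_inf_eq W (N.map π)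
    rw [hdisj, finrank_bot, add_zero] at h2
    have h3 := Submodule.finrank_mono (sup_le hWL hNL)
    have h4 : Module.finrank k W + Module.finrank k (N.map π) ≤ Module.finrank k W + 1 := by
      rw [← h2, hdim]; exact h3
    exact Nat.le_of_add_le_add_left h4
  obtain ⟨⟨_, v, hv, rfl⟩, hvspan⟩ := finrank_le_one_iff.1 hrank
  have hline : ∀ z ∈ N, ∃ c : k, z - c • v ∈ m ^ 2 := fun z hz => by
    obtain ⟨c, hc⟩ := hvspan ⟨π z, z, hz, rfl⟩
    refine ⟨c, hπ.1 ?_⟩
    rw [map_sub, map_smul, sub_eq_zero]
    exact (congrArg Subtype.val hc).symm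
  have hv2 : v ∉ m ^ 2 := by
    intro hv2
    have hLW : L ≤ W := by
      rintro _ ⟨f, hf, rfl⟩
      obtain ⟨c, hc⟩ := hline _ (hsubN f)
      have hfe : f - e f ∈ m ^ 2 := by
        simpa using add_mem hc (Submodule.smul_of_tower_mem (m ^ 2) c hv2)
      refine ⟨e f, ⟨?_, ?_⟩, ?_⟩
      · show e f ∈ RingHom.ker x
        rw [RingHom.mem_ker, hex]
        exact hf
      · show TensorProduct.map π q (Comod.coact (k := k) (A := A) (e f)) = π (e f) ⊗ₜ[k] (1 : A ⧸ I)
        rw [← LinearMap.rTensor_comp_lTensor, LinearMap.comp_apply,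
          show q.lTensor R (Comod.coact (k := k) (A := A) (e f)) = e f ⊗ₜ[k] (1 : A ⧸ I) from heinv f,
          LinearMap.rTensor_tmul]
      · rw [eq_comm, ← sub_eq_zero, ← map_sub]
        exact hπ.2 hfe
    have := Submodule.finrank_mono hLW
    omega
  -- the ideal of the fixed locus
  set a := Ideal.span (N : Set R)
  have hNa : ∀ z ∈ N, z ∈ a := fun z hz => Ideal.subset_span hz
  have hastab : IsStable k (A ⧸ I) a := IsStable.span fun φ z hz => hNa _ (by
    rw [LinearMap.mem_ker, hecomm, LinearMap.mem_ker.1 hz, smul_zero])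
  have hma : IsStable k (A ⧸ I) (m * a) := hm.mul hastab
  have hsq : ∀ r ∈ m ^ 2, r - e r ∈ m * a := by
    intro r hr
    rw [pow_two] at hr
    induction hr using Submodule.mul_induction_on' with
    | mem_mul_mem y hy z hz =>
      obtain ⟨y', hy', hyy⟩ : ∃ y' ∈ N, y = e y + y' := ⟨_, hsubN y, by ring⟩
      obtain ⟨z', hz', hzz⟩ : ∃ z' ∈ N, z = e z + z' := ⟨_, hsubN z, by ring⟩
      have he : e (y * z) = e y * e z + e (y' * z') := by
        rw [show y * z = e y * e z + e y * z' + e z * y' + y' * z' by
          linear_combination z * hyy + (e y + y') * hzz]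
        simp only [map_add]
        rw [show e (e y * e z) = e y * e z from actL_eq_self_of_fixed h1 (mul_mem (heinv y) (heinv z) : e y * e z ∈ GLin.invariants k (A ⧸ I) R),
          show e (e y * z') = e y * e z' from actL_mul_of_fixed α (heinv y) z',
          show e (e z * y') = e z * e y' from actL_mul_of_fixed α (heinv z) y',
          LinearMap.mem_ker.1 hy', LinearMap.mem_ker.1 hz']
        ring
      have hey : e y ∈ m := by rw [RingHom.mem_ker, hex]; exact hy
      have hez : e z ∈ m := by rw [RingHom.mem_ker, hex]; exact hz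
      rw [he, show y * z - (e y * e z + e (y' * z')) = e y * z' + e z * y' + (y' * z' - e (y' * z')) by
        linear_combination z * hyy + (e y + y') * hzz]
      exact add_mem (add_mem (Ideal.mul_mem_mul hey (hNa _ hz')) (Ideal.mul_mem_mul hez (hNa _ hy')))
        (sub_mem (Ideal.mul_mem_mul (hNm _ hy') (hNa _ hz'))
          (hma α _ (Ideal.mul_mem_mul (hNm _ hy') (hNa _ hz'))))
    | add y _ z _ hy hz => rw [map_add, add_sub_add_comm]; exact add_mem hy hz
  have hle : a ≤ Ideal.span {v} ⊔ m • a := by
    refine Ideal.span_le.2 fun z hz => ?_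
    obtain ⟨c, hc⟩ := hline z hz
    have h := hsq _ hc
    rw [map_sub, map_smul, LinearMap.mem_ker.1 hz, LinearMap.mem_ker.1 hv, smul_zero, sub_zero, sub_zero] at h
    rw [SetLike.mem_coe, show z = c • v + (z - c • v) by abel]
    exact add_mem (Submodule.mem_sup_left
      (Submodule.smul_of_tower_mem _ c (Ideal.mem_span_singleton_self v))) (Submodule.mem_sup_right h)
  obtain ⟨t, ht, htle⟩ := Submodule.exists_sub_one_mem_and_smul_le_of_fg_of_le_sup
    (IsNoetherian.noetherian a) le_rfl hle
  refine ⟨v, t, hNm v hv, hv2, ?_, fun φ f => ?_⟩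
  · rw [RingHom.mem_ker, map_sub, map_one, sub_eq_zero] at ht
    exact ht
  · refine Ideal.mem_span_singleton.1 ?_
    rw [← hact]
    exact htle (Submodule.smul_mem_pointwise_smul _ t a (hNa _ (by
      rw [LinearMap.mem_ker, map_sub, map_smul, hecomm, sub_self])))

omit [Module.Finite k A] in
theorem apply_eq_zero_iff_of_smul {x : R →ₐ[k] k} {v s : R} (hv : x v = 0) (hs : x s ≠ 0) (h : s * v = 0) :
    v ∈ RingHom.ker x ^ 2 := by
  have hc : algebraMap k R (x s) - s ∈ RingHom.ker x := by
    rw [RingHom.mem_ker, map_sub, AlgHom.commutes, Algebra.algebraMap_self, RingHom.id_apply, sub_self]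
  refine (Ideal.unit_mul_mem_iff_mem _ (hs.isUnit.map (algebraMap k R))).1 ?_
  rw [show algebraMap k R (x s) * v = (algebraMap k R (x s) - s) * v + s * v by ring, h, add_zero, pow_two]
  exact Ideal.mul_mem_mul hc hv

variable (k A) in
/-- The ideal generated by the invariants vanishing at `x`. -/
def invIdeal (x : R →ₐ[k] k) : Ideal R :=
  Ideal.span {f | f ∈ GLin.invariants k A R ∧ x f = 0}

theorem isStable_invIdeal (x : R →ₐ[k] k) : IsStable k A (invIdeal k A x) :=
  IsStable.span fun φ z hz => by
    rw [show z = z * 1 from (mul_one z).symm, actL_mul_of_fixed φ hz.1]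
    exact Ideal.mul_mem_right _ _ (Ideal.subset_span hz)

theorem exists_pow_ker_le_invIdeal [IsNoetherianRing R] {x : R →ₐ[k] k} (hx : GLin.IsFixedPt k A x) :
    ∃ N : ℕ, RingHom.ker x ^ N ≤ invIdeal k A x := by
  refine Ideal.exists_pow_le_of_le_radical_of_fg (fun f hf => ?_) (IsNoetherian.noetherian _)
  set P := coactCharpoly k A R f
  have h0 : P.map x.toRingHom = Polynomial.X ^ Module.finrank k (k ⊗[k] A) := by
    rw [show P = (Algebra.lmul R (R ⊗[k] A) (GLin.coactAlgHom k A R f)).charpoly from rfl, charpoly_map_eq,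
      ← LinearMap.charpoly_zero (R := k) (M := k ⊗[k] A)]
    congr 1
    have : extendA k A x (GLin.coactAlgHom k A R f) = 0 := by
      apply (Algebra.TensorProduct.lid k A).injective
      rw [map_zero]
      show GLin.orbitHom k A x f = 0
      rw [show GLin.orbitHom k A x = (Algebra.ofId k A).comp x from hx, AlgHom.comp_apply,
        RingHom.mem_ker.1 hf, map_zero]
    rw [this, map_zero]
  have hmonic : P.Monic := LinearMap.charpoly_monic _
  refine ⟨P.natDegree, ?_⟩
  have hev : P.eval f = 0 := eval_coactCharpoly f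
  rw [Polynomial.eval_eq_sum_range, Finset.sum_range_succ, hmonic.coeff_natDegree, one_mul] at hev
  rw [eq_neg_of_add_eq_zero_right hev]
  refine neg_mem (sum_mem fun i hi => Ideal.mul_mem_right _ _ (Ideal.subset_span ⟨?_, ?_⟩))
  · have := congrArg (Polynomial.coeff · i) (coactCharpoly_map_coact (k := k) (A := A) f)
    simp only [Polynomial.coeff_map] at this
    exact this
  · have h := congrArg (Polynomial.coeff · i) h0
    simp only [Polynomial.coeff_map, Polynomial.coeff_X_pow] at h
    rw [if_neg] at h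
    · exact h
    · have := hmonic.natDegree_map x.toRingHom
      rw [h0, Polynomial.natDegree_X_pow] at this
      rw [Finset.mem_range] at hi
      omega

variable [Algebra.FiniteType k R] [Algebra.Smooth k R]

omit [Module.Finite k A] [Comod k A R] [GLin.IsCoactAlg k A R] in
theorem exists_mul_eq_zero_of_mul_eq_zero {x : R →ₐ[k] k} {v w : R} (hv : x v = 0)
    (hv2 : v ∉ RingHom.ker x ^ 2) (h : v * w = 0) : ∃ s : R, x s ≠ 0 ∧ s * w = 0 := by
  haveI : IsNoetherianRing R := Algebra.FiniteType.isNoetherianRing k R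
  haveI := H02CA.isRegularRing_of_smooth k R
  haveI : (RingHom.ker x).IsPrime := RingHom.ker_isPrime _
  haveI : IsRegularLocalRing (Localization.AtPrime (RingHom.ker x)) :=
    IsRegularRing.isRegularLocalRing_localization _
  haveI := H4Depth.isDomain_of_isRegularLocalRing (Localization.AtPrime (RingHom.ker x))
  have h' := congrArg (algebraMap R (Localization.AtPrime (RingHom.ker x))) h
  rw [map_mul, map_zero, mul_eq_zero] at h'
  rcases h' with h' | h'
  · obtain ⟨⟨s, hs⟩, hsv⟩ := (IsLocalization.map_eq_zero_iff (RingHom.ker x).primeCompl _ v).1 h'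
    exact absurd (apply_eq_zero_iff_of_smul hv (fun h0 => hs (RingHom.mem_ker.2 h0)) hsv) hv2
  · obtain ⟨⟨s, hs⟩, hsw⟩ := (IsLocalization.map_eq_zero_iff (RingHom.ker x).primeCompl _ w).1 h'
    exact ⟨s, fun h0 => hs (RingHom.mem_ker.2 h0), hsw⟩

/-- **Chevalley's lemma** at a fixed point. -/
theorem mem_invIdeal_of_rel (hlr : IsLinearlyReductive k A)
    (hsub : ∀ (J : Ideal A) [J.IsHopfIdeal k], IsLinearlyReductive k (A ⧸ J))
    {x : R →ₐ[k] k} (hx : GLin.IsFixedPt k A x) (hgen : GLin.IsGenByPseudoReflAt k A R x) {κ : Type*}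
    (s : Finset κ) (a : κ → GLin.invariants k A R) (a₀ : GLin.invariants k A R)
    (hne : ∀ t : GLin.invariants k A R, x t ≠ 0 → ∀ c : κ → GLin.invariants k A R,
      t * a₀ ≠ ∑ i ∈ s, c i * a i)
    (h₀ : R) (h : κ → R) (hrel : h₀ * a₀ + ∑ i ∈ s, h i * a i = 0) : h₀ ∈ invIdeal k A x := by
  classical
  haveI : IsNoetherianRing R := Algebra.FiniteType.isNoetherianRing k R
  obtain ⟨α, hα, h1⟩ := exists_isIntegral_of_isLinearlyReductive hlr
  obtain ⟨N, hN⟩ := exists_pow_ker_le_invIdeal (A := A) hx
  suffices H : ∀ d : ℕ, ∀ (h₀ : R) (h : κ → R), h₀ * a₀ + ∑ i ∈ s, h i * a i = 0 →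
      h₀ ∈ invIdeal k A x ⊔ RingHom.ker x ^ d by
    have := H N h₀ h hrel
    rwa [sup_eq_left.2 hN] at this
  intro d
  induction d with
  | zero => intro h₀ h _; rw [pow_zero, Ideal.one_eq_top, sup_top_eq]; trivial
  | succ d ih =>
    intro h₀ h hrel
    set K := invIdeal k A x ⊔ RingHom.ker x ^ (d + 1)
    have hK : IsStable k A K := (isStable_invIdeal x).sup ((isStable_ker hx).pow _)
    letI cQ := ComodSub.Comod.quot (inferInstance : Comod k A R) (K.restrictScalars k) hK.isSubcomod
    set π := (K.restrictScalars k).mkQ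
    have hπ : ∀ (φ : A →ₗ[k] k) (g : R), actL φ (π g) = π (actL φ g) := fun φ g => by
      rw [actL_apply, actL_apply, show Comod.coact (k := k) (A := A) (π g) =
        π.rTensor A (Comod.coact (k := k) (A := A) g) from rfl, sliceR_rTensor]
    have hle : vecStab A (k := k) (π h₀) ≤ GLin.genIdealAt k A R x := by
      refine le_sSup ⟨inferInstance, fun I hI => (fixed_quot_iff_vecStab_le _ I).1 ?_⟩
      refine sub_eq_zero.1 (eq_zero_of_forall_sliceR fun φ => ?_)
      obtain ⟨v, t, hv, hv2, ht, hdiv⟩ := exists_reflecting_at hsub hx hI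
      choose q hq using fun g => hdiv φ g
      set D : R →ₗ[k] R := actL (φ ∘ₗ (Ideal.Quotient.mkₐ k I).toLinearMap) - φ 1 • LinearMap.id
      have hq' : ∀ g, t * D g = v * q g := hq
      have hD : ∀ (b : GLin.invariants k A R) (g : R), D (g * b) = D g * b := by
        intro b g
        simp only [D, LinearMap.sub_apply, LinearMap.smul_apply, LinearMap.id_apply]
        rw [mul_comm g (b : R), actL_mul_of_fixed _ b.2, sub_mul, smul_mul_assoc, mul_comm _ (b : R),
          mul_comm g (b : R)]
      have hv0 : v * (q h₀ * a₀ + ∑ i ∈ s, q (h i) * a i) = 0 := by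
        have h2 := congrArg (fun z => t * D z) hrel
        simp only [map_add, map_sum, map_zero, mul_zero, hD, mul_add, Finset.mul_sum, ← mul_assoc, hq'] at h2
        simpa only [mul_add, Finset.mul_sum, ← mul_assoc] using h2
      obtain ⟨s', hs', hs0⟩ := exists_mul_eq_zero_of_mul_eq_zero hv hv2 hv0
      have hrel' : s' * q h₀ * a₀ + ∑ i ∈ s, s' * q (h i) * a i = 0 := by
        simpa only [mul_add, Finset.mul_sum, ← mul_assoc] using hs0
      have h2 : q h₀ ∈ invIdeal k A x ⊔ RingHom.ker x ^ d :=
        mem_of_mul_mem_of_ne_zero le_sup_right hs' (ih _ _ hrel')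
      have h3 : v * q h₀ ∈ K := by
        obtain ⟨y, hy, z, hz, hyz⟩ := Submodule.mem_sup.1 h2
        rw [← hyz, mul_add]
        refine add_mem (Submodule.mem_sup_left (Ideal.mul_mem_left _ _ hy)) (Submodule.mem_sup_right ?_)
        rw [pow_succ, mul_comm v z]
        exact Ideal.mul_mem_mul hz hv
      have hmem : D h₀ ∈ K :=
        mem_of_mul_mem_of_ne_zero le_sup_right (s := t) (by rw [ht]; exact one_ne_zero) (by rw [hq']; exact h3)
      rw [map_sub, sliceR_lTensor, ← actL_apply, sliceR_tmul, hπ, ← map_smul, ← map_sub]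
      exact (Submodule.Quotient.mk_eq_zero _).2 hmem
    rw [show GLin.genIdealAt k A R x = ⊥ from hgen] at hle
    have hfix : actL α (π h₀) = π h₀ := by
      obtain ⟨y, hy⟩ := coact_sub_mem_range (A := A) (k := k) (π h₀)
      have hy0 : y = 0 := by
        clear hy
        induction y using TensorProduct.induction_on with
        | zero => rfl
        | tmul p b => rw [show b = 0 from Subtype.ext (Ideal.mem_bot.1 (hle b.2)), TensorProduct.tmul_zero]
        | add p q hp hq => rw [hp, hq, add_zero]
      rw [hy0, map_zero, eq_comm, sub_eq_zero] at hy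
      rw [actL_apply, hy, sliceR_tmul, h1, one_smul]
    rw [hπ] at hfix
    have h4 : actL α h₀ - h₀ ∈ K := (Submodule.Quotient.eq _).1 hfix
    have h5 : actL α h₀ ∈ invIdeal k A x := by
      refine Ideal.subset_span ⟨actL_mem_fixedPts hα h1 h₀, ?_⟩
      by_contra hne0
      refine hne ⟨actL α h₀, actL_mem_fixedPts hα h1 h₀⟩ hne0
        (fun i => ⟨actL α (-h i), actL_mem_fixedPts hα h1 _⟩) (Subtype.ext ?_)
      have h6 := congrArg (actL α) hrel
      rw [map_add, map_sum, map_zero, mul_comm h₀, actL_mul_of_fixed α a₀.2] at h6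
      push_cast
      rw [mul_comm, eq_neg_of_add_eq_zero_left h6, ← Finset.sum_neg_distrib]
      refine Finset.sum_congr rfl fun i _ => ?_
      rw [mul_comm (h i), actL_mul_of_fixed α (a i).2, map_neg]
      ring
    simpa using sub_mem (Submodule.mem_sup_left h5) h4

variable (k A) in
/-- Linear independence modulo `invIdeal`. -/
def IndepMod (x : R →ₐ[k] k) {κ : Type*} (s : Finset κ) (e : κ → R) : Prop :=
  ∀ c : κ → k, ∑ j ∈ s, c j • e j ∈ invIdeal k A x → ∀ j ∈ s, c j = 0

omit [Module.Finite k A] [Algebra.FiniteType k R] [Algebra.Smooth k R] in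
theorem mul_sub_smul_mem_invIdeal (x : R →ₐ[k] k) (b : GLin.invariants k A R) (f : R) :
    (b : R) * f - x b • f ∈ invIdeal k A x := by
  rw [Algebra.smul_def, ← sub_mul]
  refine Ideal.mul_mem_right _ _ (Ideal.subset_span ⟨sub_mem b.2 (Subalgebra.algebraMap_mem _ _), ?_⟩)
  rw [map_sub, AlgHom.commutes, Algebra.algebraMap_self, RingHom.id_apply, sub_self]

theorem exists_mul_eq_zero_of_indepMod (hlr : IsLinearlyReductive k A)
    (hsub : ∀ (J : Ideal A) [J.IsHopfIdeal k], IsLinearlyReductive k (A ⧸ J))
    {x : R →ₐ[k] k} (hx : GLin.IsFixedPt k A x) (hgen : GLin.IsGenByPseudoReflAt k A R x) {κ : Type*}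
    (s : Finset κ) : ∀ (e : κ → R) (a : κ → GLin.invariants k A R), IndepMod k A x s e →
      ∑ j ∈ s, e j * a j = 0 → ∀ j ∈ s, ∃ t : GLin.invariants k A R, x t ≠ 0 ∧ t * a j = 0 := by
  classical
  induction s using Finset.induction with
  | empty => simp
  | @insert i s hi ih =>
    intro e a hind hrel
    rw [Finset.sum_insert hi] at hrel
    by_cases hne : ∀ t : GLin.invariants k A R, x t ≠ 0 → ∀ c : κ → GLin.invariants k A R,
        t * a i ≠ ∑ j ∈ s, c j * a j
    · exfalso
      have h := mem_invIdeal_of_rel hlr hsub hx hgen s a (a i) hne (e i) e hrel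
      have := hind (fun j => if j = i then 1 else 0) (by simpa [ite_smul] using h) i (Finset.mem_insert_self i s)
      simp at this
    · push Not at hne
      obtain ⟨t, ht, c, htc⟩ := hne
      set e' : κ → R := fun j => (t : R) * e j + (c j : R) * e i
      have htc' : (t : R) * a i = ∑ j ∈ s, (c j : R) * a j := by
        simpa using congrArg Subtype.val htc
      have hrel' : ∑ j ∈ s, e' j * a j = 0 := by
        have h := congrArg ((t : R) * ·) hrel
        simp only [mul_add, Finset.mul_sum, mul_zero] at h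
        rw [← h, mul_left_comm (t : R) (e i), htc', Finset.mul_sum, ← Finset.sum_add_distrib]
        exact Finset.sum_congr rfl fun j _ => by simp only [e']; ring
      have hind' : IndepMod k A x s e' := by
        intro g hg j hj
        have hmem : ∑ l ∈ insert i s, (if l = i then ∑ l' ∈ s, g l' * x (c l') else g l * x t) • e l ∈
            invIdeal k A x := by
          rw [Finset.sum_insert hi, if_pos rfl, Finset.sum_smul, ← Finset.sum_add_distrib]
          have hcong : ∑ l ∈ s, ((g l * x (c l)) • e i + (if l = i then ∑ l' ∈ s, g l' * x (c l') else g l * x t) • e l)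
              = ∑ l ∈ s, g l • e' l - ∑ l ∈ s, g l • (((t : R) * e l - x t • e l) + ((c l : R) * e i - x (c l) • e i)) := by
            rw [← Finset.sum_sub_distrib]
            refine Finset.sum_congr rfl fun l hl => ?_
            rw [if_neg (fun (h : l = i) => hi (h ▸ hl))]
            simp only [e', smul_add, smul_sub, mul_smul]
            abel
          rw [hcong]
          exact sub_mem hg (sum_mem fun l _ => Submodule.smul_of_tower_mem _ _
            (add_mem (mul_sub_smul_mem_invIdeal x t _) (mul_sub_smul_mem_invIdeal x (c l) _)))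
        have := hind _ hmem j (Finset.mem_insert_of_mem hj)
        rw [if_neg (fun (h : j = i) => hi (h ▸ hj))] at this
        exact (mul_eq_zero.1 this).resolve_right ht
      have hall := ih e' a hind' hrel'
      choose! T hT hT0 using hall
      have hP : x ((∏ j ∈ s, T j : GLin.invariants k A R) : R) ≠ 0 := by
        rw [SubmonoidClass.coe_finsetProd, map_prod]
        exact Finset.prod_ne_zero_iff.2 hT
      intro j hj
      rcases Finset.mem_insert.1 hj with rfl | hj
      · refine ⟨(∏ j ∈ s, T j) * t, by simpa using mul_ne_zero hP ht, ?_⟩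
        rw [mul_assoc, htc, Finset.mul_sum]
        refine Finset.sum_eq_zero fun l hl => ?_
        rw [← Finset.prod_erase_mul _ _ hl, mul_assoc, mul_left_comm (T l), hT0 l hl, mul_zero, mul_zero]
      · exact ⟨T j, hT j hj, hT0 j hj⟩

theorem isRegularLocalRing_invariants_at (hlr : IsLinearlyReductive k A)
    (hsub : ∀ (J : Ideal A) [J.IsHopfIdeal k], IsLinearlyReductive k (A ⧸ J))
    (x : R →ₐ[k] k) (hx : GLin.IsFixedPt k A x) (hgen : GLin.IsGenByPseudoReflAt k A R x)
    [(RingHom.ker (x.comp (GLin.invariants k A R).val)).IsPrime] :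
    IsRegularLocalRing (Localization.AtPrime (RingHom.ker (x.comp (GLin.invariants k A R).val))) := by
  classical
  haveI : IsNoetherianRing R := Algebra.FiniteType.isNoetherianRing k R
  haveI := H02CA.isRegularRing_of_smooth k R
  obtain ⟨α, hα, h1⟩ := exists_isIntegral_of_isLinearlyReductive hlr
  set R₀ := GLin.invariants k A R
  haveI : IsNoetherianRing R₀ := isNoetherianRing_invariants hα h1
  set p := RingHom.ker (x.comp R₀.val)
  set m := RingHom.ker x
  haveI : m.IsPrime := RingHom.ker_isPrime _
  haveI : Module.Finite R₀ R := finite_over_invariants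
  set J := invIdeal k A x
  obtain ⟨N, hN⟩ := exists_pow_ker_le_invIdeal (A := A) hx
  have hJ : J = p.map (algebraMap R₀ R) := by
    refine le_antisymm (Ideal.span_le.2 ?_) (Ideal.map_le_iff_le_comap.2 ?_)
    · rintro f ⟨hf, hf0⟩
      exact Ideal.mem_map_of_mem (algebraMap R₀ R) (x := (⟨f, hf⟩ : R₀)) hf0
    · intro f hf
      exact Ideal.subset_span ⟨f.2, hf⟩
  -- a basis modulo the invariants vanishing at `x`
  haveI : Module.Finite k (R ⧸ J) := by
    obtain ⟨gs, hgs⟩ := (Module.Finite.fg_top : (⊤ : Submodule R₀ R).FG)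
    refine ⟨⟨gs.image (Ideal.Quotient.mk J), eq_top_iff.2 fun f htop => ?_⟩⟩
    clear htop
    obtain ⟨f, rfl⟩ := Ideal.Quotient.mk_surjective f
    have hf : f ∈ Submodule.span R₀ (gs : Set R) := hgs ▸ Submodule.mem_top
    induction hf using Submodule.span_induction with
    | mem g hg => exact Submodule.subset_span (by simpa using ⟨g, hg, rfl⟩)
    | zero => simp
    | add a b _ _ ha hb => rw [map_add]; exact add_mem ha hb
    | smul c a _ ha =>
      rw [show Ideal.Quotient.mk J (c • a) = x c • Ideal.Quotient.mk J a from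
        Ideal.Quotient.eq.2 (mul_sub_smul_mem_invIdeal x c a)]
      exact Submodule.smul_mem _ _ ha
  let B := Module.finBasis k (R ⧸ J)
  choose e he using fun j => Ideal.Quotient.mk_surjective (B j)
  have hind : IndepMod k A x Finset.univ e := by
    intro c hc j _
    refine Fintype.linearIndependent_iff.1 B.linearIndependent c ?_ j
    rw [← Ideal.Quotient.eq_zero_iff_mem] at hc
    rw [← hc, ← Ideal.Quotient.mkₐ_eq_mk k, map_sum]
    exact Finset.sum_congr rfl fun j _ => by rw [map_smul, ← he]; rfl
  set M := Submodule.span R₀ (Set.range e)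
  have hspan : (⊤ : Submodule R₀ R) ≤ M ⊔ p • (⊤ : Submodule R₀ R) := by
    intro f _
    rw [Ideal.smul_top_eq_map, ← hJ]
    have hc := B.sum_repr (Ideal.Quotient.mk J f)
    set g := ∑ j, B.repr (Ideal.Quotient.mk J f) j • e j
    rw [show f = g + (f - g) by ring]
    refine add_mem (Submodule.mem_sup_left (sum_mem fun j _ => ?_)) (Submodule.mem_sup_right ?_)
    · rw [show B.repr (Ideal.Quotient.mk J f) j • e j =
        algebraMap k R₀ (B.repr (Ideal.Quotient.mk J f) j) • e j from (algebraMap_smul R₀ _ (e j)).symm]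
      exact M.smul_mem _ (Submodule.subset_span ⟨j, rfl⟩)
    · show f - g ∈ J
      rw [← Ideal.Quotient.eq_zero_iff_mem, map_sub, sub_eq_zero]
      conv_lhs => rw [← hc]
      rw [show g = ∑ j, B.repr (Ideal.Quotient.mk J f) j • e j from rfl, map_sum]
      exact Finset.sum_congr rfl fun j _ => by rw [← he]; exact (map_smul (Ideal.Quotient.mkₐ k J) _ _).symm
  obtain ⟨r, hr, hrle⟩ := Submodule.exists_sub_one_mem_and_smul_le_of_fg_of_le_sup
    (Module.Finite.fg_top : (⊤ : Submodule R₀ R).FG) le_rfl hspan
  have hxr : x r = 1 := by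
    have := RingHom.mem_ker.1 hr
    simpa [sub_eq_zero] using this
  -- flatness
  set Rm := Localization.AtPrime m
  haveI : Module.Flat R₀ Rm := by
    refine Module.Flat.of_forall_isTrivialRelation fun {l f y} hfy => ?_
    obtain ⟨⟨b, hb⟩, hby⟩ := IsLocalization.exist_integer_multiples m.primeCompl Finset.univ y
    choose y' hy' using fun i => hby i (Finset.mem_univ i)
    have h0 : algebraMap R Rm (∑ i, (f i : R) * y' i) = algebraMap R Rm 0 := by
      rw [map_zero, map_sum, ← mul_zero (algebraMap R Rm b), ← hfy, Finset.mul_sum]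
      refine Finset.sum_congr rfl fun i _ => ?_
      rw [map_mul, hy', Algebra.smul_def, Algebra.smul_def, IsScalarTower.algebraMap_apply R₀ R Rm]
      simp only [Subalgebra.algebraMap_apply]
      ring
    obtain ⟨⟨s, hs⟩, hsz⟩ := IsLocalization.exists_of_eq (M := m.primeCompl) h0
    rw [mul_zero] at hsz
    have hz : ∀ i, ∃ c : Fin (Module.finrank k (R ⧸ J)) → R₀, ∑ j, c j • e j = (r : R) * (s * y' i) := fun i =>
      (Submodule.mem_span_range_iff_exists_fun R₀).1
        (hrle (Submodule.smul_mem_pointwise_smul _ r ⊤ Submodule.mem_top) :)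
    choose c hc using hz
    have hsum : ∑ j, e j * ((∑ i, f i * c i j : R₀) : R) = 0 := by
      calc ∑ j, e j * ((∑ i, f i * c i j : R₀) : R) = ∑ i, (f i : R) * ∑ j, c i j • e j := by
            push_cast
            simp only [Finset.mul_sum, Finset.smul_sum]
            rw [Finset.sum_comm]
            refine Finset.sum_congr rfl fun i _ => Finset.sum_congr rfl fun j _ => ?_
            rw [Subalgebra.smul_def, smul_eq_mul]
            ring
        _ = (r : R) * (s * ∑ i, (f i : R) * y' i) := by
            simp only [hc, Finset.mul_sum]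
            exact Finset.sum_congr rfl fun i _ => by ring
        _ = 0 := by rw [hsz, mul_zero]
    have hall := exists_mul_eq_zero_of_indepMod hlr hsub hx hgen Finset.univ e _ hind hsum
    choose t ht ht0 using fun j => hall j (Finset.mem_univ j)
    set T := ∏ j, t j
    have hu : IsUnit (algebraMap R Rm ((T : R) * (r : R) * s * b)) := by
      refine IsLocalization.map_units Rm (⟨_, ?_⟩ : m.primeCompl)
      show (T : R) * (r : R) * s * b ∉ m
      rw [RingHom.mem_ker, map_mul, map_mul, map_mul, hxr, mul_one]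
      refine mul_ne_zero (mul_ne_zero ?_ fun h => hs (RingHom.mem_ker.2 h)) fun h => hb (RingHom.mem_ker.2 h)
      rw [SubmonoidClass.coe_finsetProd, map_prod]
      exact Finset.prod_ne_zero_iff.2 fun j _ => ht j
    refine ⟨_, fun i j => T * c i j, fun j => ↑hu.unit⁻¹ * algebraMap R Rm (e j), fun i => ?_, fun j => ?_⟩
    · have : (algebraMap R Rm ((T : R) * (r : R) * s * b)) * y i =
          ∑ j, algebraMap R Rm ((T * c i j : R₀) : R) * algebraMap R Rm (e j) := by
        simp only [← map_mul, ← map_sum]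
        rw [show ∑ j, ((T * c i j : R₀) : R) * e j = (T : R) * ∑ j, c i j • e j by
          rw [Finset.mul_sum]
          exact Finset.sum_congr rfl fun j _ => by rw [Subalgebra.smul_def, smul_eq_mul]; push_cast; ring,
          hc, map_mul, map_mul, map_mul, map_mul, map_mul, map_mul, hy', Algebra.smul_def]
        ring
      rw [show y i = ↑hu.unit⁻¹ * (algebraMap R Rm ((T : R) * (r : R) * s * b) * y i) by
        rw [← mul_assoc, hu.val_inv_mul, one_mul], this, Finset.mul_sum]
      refine Finset.sum_congr rfl fun j _ => ?_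
      rw [Algebra.smul_def, IsScalarTower.algebraMap_apply R₀ R Rm]
      simp only [Subalgebra.algebraMap_apply]
      ring
    · show ∑ i, f i * (T * c i j) = 0
      simp only [mul_left_comm _ T, ← Finset.mul_sum]
      rw [show T = ∏ j, t j from rfl, ← Finset.prod_erase_mul _ _ (Finset.mem_univ j), mul_assoc, ht0, mul_zero]
  haveI : m.LiesOver p := ⟨rfl⟩
  letI := Localization.AtPrime.algebraOfLiesOver p m
  haveI : IsScalarTower R₀ (Localization.AtPrime p) Rm := IsScalarTower.of_algebraMap_eq' (by
    show _ = (Localization.localRingHom p m (algebraMap R₀ R) (m.over_def p)).comp _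
    refine RingHom.ext fun a => ?_
    rw [RingHom.comp_apply, Localization.localRingHom_to_map]
    rfl)
  haveI : Module.Flat (Localization.AtPrime p) Rm :=
    (Module.flat_iff_of_isLocalization (Localization.AtPrime p) p.primeCompl Rm).2 inferInstance
  haveI : IsRegularLocalRing Rm := IsRegularRing.isRegularLocalRing_localization _
  haveI : IsLocalHom (algebraMap (Localization.AtPrime p) Rm) :=
    Localization.isLocalHom_localRingHom p m _ (m.over_def p)
  exact H05EGA4.isRegularLocalRing_of_flat (B := Rm)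

end Point

end

end Groth.Agent.H20Comod
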