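import Groth.Prelude.Def_HopfRep
import Groth.Prelude.Def_GLin
import Mathlib.LinearAlgebra.DirectSum.Finsupp
import Mathlib.RingTheory.Bialgebra.MonoidAlgebra
import Mathlib.RingTheory.Coalgebra.MonoidAlgebra

/-!
Weight decomposition of comodules over a monoid algebra `k[M]`.
-/

set_option autoImplicit false

universe u v w

open TensorProduct

namespace Groth.Agent.H20Comod.MonAlgGrade

variable (k : Type u) [CommRing k] (M : Type v) [AddCommMonoid M] (V : Type w) [AddCommGroup V] [Module k V]

/-- coefficient functional of `k[M]` -/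
noncomputable def co (m : M) : AddMonoidAlgebra k M →ₗ[k] k :=
  Finsupp.lapply m ∘ₗ (AddMonoidAlgebra.coeffLinearEquiv k).toLinearMap

theorem co_single [DecidableEq M] (m n : M) : co k M m (AddMonoidAlgebra.single n (1 : k)) = if n = m then 1 else 0 := by
  simp [co, Finsupp.single_apply]

open scoped Classical in
/-- components of a tensor with the monoid algebra -/
noncomputable def split : V ⊗[k] AddMonoidAlgebra k M →ₗ[k] (M →₀ V) :=
  (TensorProduct.finsuppScalarRight k k V M).toLinearMap ∘ₗ
    (AddMonoidAlgebra.coeffLinearEquiv k).toLinearMap.lTensor V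

theorem split_apply (z : V ⊗[k] AddMonoidAlgebra k M) (m : M) :
    split k M V z m = TensorProduct.rid k V ((co k M m).lTensor V z) := by
  induction z using TensorProduct.induction_on with
  | zero => simp
  | tmul v a =>
    classical
    simp [split, co, TensorProduct.finsuppScalarRight_apply_tmul_apply]
  | add x y hx hy => simp [hx, hy]

theorem split_tmul_single [DecidableEq M] (v : V) (n : M) :
    split k M V (v ⊗ₜ[k] AddMonoidAlgebra.single n (1 : k)) = Finsupp.single n v := by
  ext m
  rw [split_apply, LinearMap.lTensor_tmul, TensorProduct.rid_tmul, co_single, Finsupp.single_apply]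
  split_ifs <;> simp

theorem eq_sum_split (z : V ⊗[k] AddMonoidAlgebra k M) :
    z = (split k M V z).sum fun m v => v ⊗ₜ[k] AddMonoidAlgebra.single m (1 : k) := by
  classical
  have hz : ∀ m : M, ((0 : V) ⊗ₜ[k] AddMonoidAlgebra.single m (1 : k)) = 0 := fun m => by simp
  induction z using TensorProduct.induction_on with
  | zero => simp
  | tmul v a =>
    induction a using AddMonoidAlgebra.induction_linear with
    | zero => simp
    | single n c =>
      rw [show AddMonoidAlgebra.single n c = c • AddMonoidAlgebra.single n (1 : k) by simp, ← TensorProduct.smul_tmul,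
        split_tmul_single, Finsupp.sum_single_index (hz _)]
    | add x y hx hy =>
      rw [TensorProduct.tmul_add, map_add, Finsupp.sum_add_index (by simp) (by simp [TensorProduct.add_tmul]), ← hx, ← hy]
  | add x y hx hy =>
    rw [map_add, Finsupp.sum_add_index (by simp) (by simp [TensorProduct.add_tmul]), ← hx, ← hy]

variable [HopfRep.Comod k (AddMonoidAlgebra k M) V]

/-- the weight components of a vector -/
noncomputable def comps : V →ₗ[k] (M →₀ V) :=
  split k M V ∘ₗ HopfRep.Comod.coact (k := k) (A := AddMonoidAlgebra k M)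

/-- projection on the weight `m` -/
noncomputable def proj (m : M) : V →ₗ[k] V := Finsupp.lapply m ∘ₗ comps k M V

theorem coact_eq_sum (v : V) :
    HopfRep.Comod.coact (k := k) (A := AddMonoidAlgebra k M) v =
      (comps k M V v).sum fun m w => w ⊗ₜ[k] AddMonoidAlgebra.single m (1 : k) :=
  eq_sum_split k M V _

theorem sum_comps (v : V) : ((comps k M V v).sum fun _ w => w) = v := by
  have h := LinearMap.congr_fun (HopfRep.Comod.counit_comp (k := k) (A := AddMonoidAlgebra k M) (V := V)) v
  simp only [LinearMap.comp_apply, coact_eq_sum, map_finsuppSum] at h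
  have h' := congrArg (TensorProduct.rid k V) h
  simpa [AddMonoidAlgebra.counit_single, map_finsuppSum] using h'

theorem proj_mem_eigenspace (m : M) (v : V) :
    proj k M V m v ∈ HopfRep.eigenspace k (AddMonoidAlgebra k M) V (AddMonoidAlgebra.single m 1) := by
  classical
  show HopfRep.Comod.coact (k := k) (A := AddMonoidAlgebra k M) (comps k M V v m) =
    comps k M V v m ⊗ₜ[k] AddMonoidAlgebra.single m 1
  have h := LinearMap.congr_fun (HopfRep.Comod.coassoc (k := k) (A := AddMonoidAlgebra k M) (V := V)) v
  simp only [LinearMap.comp_apply, LinearEquiv.coe_coe, coact_eq_sum k M V v, map_finsuppSum] at h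
  have h' := congrArg (fun z => (TensorProduct.rid k _) ((co k M m).lTensor (V ⊗[k] AddMonoidAlgebra k M)
    ((TensorProduct.assoc k V _ _).symm z))) h
  simp only [map_finsuppSum, LinearMap.rTensor_tmul, LinearMap.lTensor_tmul, LinearEquiv.symm_apply_apply,
    TensorProduct.rid_tmul, AddMonoidAlgebra.comul_single, CommSemiring.comul_apply, TensorProduct.map_tmul,
    AddMonoidAlgebra.lsingle_apply, TensorProduct.assoc_symm_tmul, co_single, ite_smul, one_smul, zero_smul] at h'
  rw [Finsupp.sum_ite_eq', Finsupp.sum_ite_eq'] at h'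
  split_ifs at h' with hm
  · exact h'
  · rw [Finsupp.notMem_support_iff] at hm
    simp [hm]

theorem proj_of_mem_eigenspace [DecidableEq M] {n : M} {v : V}
    (hv : v ∈ HopfRep.eigenspace k (AddMonoidAlgebra k M) V (AddMonoidAlgebra.single n 1)) (m : M) :
    proj k M V m v = if n = m then v else 0 := by
  show split k M V (HopfRep.Comod.coact (k := k) (A := AddMonoidAlgebra k M) v) m = _
  rw [show HopfRep.Comod.coact (k := k) (A := AddMonoidAlgebra k M) v = v ⊗ₜ[k] AddMonoidAlgebra.single n 1 from hv,
    split_tmul_single, Finsupp.single_apply]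

/-- induction on weight vectors -/
theorem induction_weight {P : V → Prop} (h0 : P 0) (hadd : ∀ x y, P x → P y → P (x + y))
    (hw : ∀ (m : M) (x : V), x ∈ HopfRep.eigenspace k (AddMonoidAlgebra k M) V (AddMonoidAlgebra.single m 1) → P x)
    (v : V) : P v := by
  rw [← sum_comps k M V v, Finsupp.sum]
  exact Finset.sum_induction _ P hadd h0 fun m _ => hw m _ (proj_mem_eigenspace k M V m v)

section Pos

variable (Λ : Type v) [AddCommGroup Λ] (R : Type w) [CommRing R] [Algebra k R]
  [HopfRep.Comod k (AddMonoidAlgebra k Λ) R] [GLin.IsCoactAlg k (AddMonoidAlgebra k Λ) R]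

theorem mul_mem_eigenspace {a b : Λ} {f g : R}
    (hf : f ∈ HopfRep.eigenspace k (AddMonoidAlgebra k Λ) R (AddMonoidAlgebra.single a 1))
    (hg : g ∈ HopfRep.eigenspace k (AddMonoidAlgebra k Λ) R (AddMonoidAlgebra.single b 1)) :
    f * g ∈ HopfRep.eigenspace k (AddMonoidAlgebra k Λ) R (AddMonoidAlgebra.single (a + b) 1) := by
  show HopfRep.Comod.coact (k := k) (A := AddMonoidAlgebra k Λ) (f * g) = _
  rw [GLin.IsCoactAlg.coact_mul, show HopfRep.Comod.coact (k := k) (A := AddMonoidAlgebra k Λ) f = _ from hf,
    show HopfRep.Comod.coact (k := k) (A := AddMonoidAlgebra k Λ) g = _ from hg, Algebra.TensorProduct.tmul_mul_tmul,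
    AddMonoidAlgebra.single_mul_single, one_mul]

theorem proj_zero_one : proj k Λ R 0 1 = 1 := by
  classical
  rw [proj_of_mem_eigenspace k Λ R (n := 0) (v := (1 : R)) ?_, if_pos rfl]
  show HopfRep.Comod.coact (k := k) (A := AddMonoidAlgebra k Λ) (1 : R) = _
  rw [GLin.IsCoactAlg.coact_one, Algebra.TensorProduct.one_def, AddMonoidAlgebra.one_def]

/-- For a positive weight monoid the projection on weight zero is an algebra map. -/
theorem proj_zero_mul
    (hpos : ∀ w : Λ, HopfRep.eigenspace k (AddMonoidAlgebra k Λ) R (AddMonoidAlgebra.single w 1) ≠ ⊥ →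
      HopfRep.eigenspace k (AddMonoidAlgebra k Λ) R (AddMonoidAlgebra.single (-w) 1) ≠ ⊥ → w = 0)
    (f g : R) : proj k Λ R 0 (f * g) = proj k Λ R 0 f * proj k Λ R 0 g := by
  classical
  induction f using induction_weight k Λ R with
  | h0 => simp
  | hadd x y hx hy => simp [add_mul, hx, hy]
  | hw a f hf =>
    induction g using induction_weight k Λ R with
    | h0 => simp
    | hadd x y hx hy => simp [mul_add, hx, hy]
    | hw b g hg =>
      rw [proj_of_mem_eigenspace k Λ R (mul_mem_eigenspace k Λ R hf hg), proj_of_mem_eigenspace k Λ R hf,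
        proj_of_mem_eigenspace k Λ R hg]
      by_cases ha : a = 0
      · subst ha; simp
      · rw [if_neg ha, zero_mul]
        split_ifs with hab
        · have hb : b = -a := eq_neg_of_add_eq_zero_right hab
          subst hb
          by_cases hfz : f = 0
          · simp [hfz]
          by_cases hgz : g = 0
          · simp [hgz]
          exact absurd (hpos a (fun h => hfz ((Submodule.mem_bot k).1 (h ▸ hf)))
            (fun h => hgz ((Submodule.mem_bot k).1 (h ▸ hg)))) ha
        · rfl

/-- the projection on weight zero as an algebra map -/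
noncomputable def projZeroHom
    (hpos : ∀ w : Λ, HopfRep.eigenspace k (AddMonoidAlgebra k Λ) R (AddMonoidAlgebra.single w 1) ≠ ⊥ →
      HopfRep.eigenspace k (AddMonoidAlgebra k Λ) R (AddMonoidAlgebra.single (-w) 1) ≠ ⊥ → w = 0) : R →ₐ[k] R :=
  AlgHom.ofLinearMap (proj k Λ R 0) (proj_zero_one k Λ R) (proj_zero_mul k Λ R hpos)

end Pos

end Groth.Agent.H20Comod.MonAlgGrade
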