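import Groth.Agent.H20Comod.OrbitClosure
import Groth.Agent.H20Comod.LinRed
import Mathlib.FieldTheory.IntermediateField.Adjoin.Basic
import Mathlib.RingTheory.Coalgebra.GroupLike

/-!
Functions on closed orbits and semi-invariants.
-/

set_option autoImplicit false

universe u v w

open TensorProduct HopfRep

namespace Groth.Agent.H20Comod

noncomputable section

variable {k : Type u} [Field k] {A : Type v} [CommRing A] [HopfAlgebra k A]
  {R : Type w} [CommRing R] [Algebra k R] [Comod k A R] [GLin.IsCoactAlg k A R]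

theorem antipode_mul_self {χ : A} (hχ : IsGroupLikeElem k χ) : HopfAlgebra.antipode k χ * χ = 1 := by
  have h := HopfAlgebra.mul_antipode_rTensor_comul_apply (R := k) χ
  rwa [hχ.comul_eq_tmul_self, LinearMap.rTensor_tmul, LinearMap.mul'_apply, hχ.counit_eq_one, map_one] at h

theorem isGroupLikeElem_antipode {χ : A} (hχ : IsGroupLikeElem k χ) :
    IsGroupLikeElem k (HopfAlgebra.antipode k χ) := by
  refine ⟨(HopfAlgebra.counit_antipode χ).trans hχ.counit_eq_one, ?_⟩
  rw [comul_antipode, hχ.comul_eq_tmul_self]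
  simp

theorem sliceR_comp_mulRight {χ : A} (α : A →ₗ[k] k) (g : A) (a : A) (hg : IsGroupLikeElem k g)
    (hgχ : g * χ = 1) :
    sliceR (α ∘ₗ LinearMap.mulRight k g) (CoalgebraStruct.comul (R := k) a) =
      sliceR α (CoalgebraStruct.comul (R := k) (a * g)) * χ := by
  rw [Bialgebra.comul_mul, hg.comul_eq_tmul_self]
  generalize CoalgebraStruct.comul (R := k) a = z
  induction z using TensorProduct.induction_on with
  | zero => simp
  | tmul p q => simp [Algebra.TensorProduct.tmul_mul_tmul, mul_assoc, hgχ]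
  | add u w hu hw => simp only [map_add, add_mul, hu, hw]

/-- The projection to semi-invariants of weight `χ`. -/
def semiProj (α : A →ₗ[k] k) (χ : A) : A →ₗ[k] k := α ∘ₗ LinearMap.mulRight k (HopfAlgebra.antipode k χ)

theorem coact_actL_semiProj {α : A →ₗ[k] k} (hα : IsIntegral α) (h1 : α 1 = 1) {χ : A}
    (hχ : IsGroupLikeElem k χ) {V : Type w} [AddCommGroup V] [Module k V] [Comod k A V] (v : V) :
    Comod.coact (k := k) (A := A) (actL (semiProj α χ) v) = actL (semiProj α χ) v ⊗ₜ[k] χ := by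
  rw [coact_actL, actL_apply]
  generalize Comod.coact (k := k) (A := A) v = z
  induction z using TensorProduct.induction_on with
  | zero => simp
  | tmul x a =>
    rw [LinearMap.lTensor_tmul, sliceR_tmul]
    show x ⊗ₜ[k] sliceR (semiProj α χ) (CoalgebraStruct.comul (R := k) a) = _
    rw [semiProj, sliceR_comp_mulRight α _ a (isGroupLikeElem_antipode hχ) (antipode_mul_self hχ),
      sliceR_comul_eq hα h1, smul_mul_assoc, one_mul, TensorProduct.smul_tmul]
    rfl
  | add u w hu hw => simp only [map_add, TensorProduct.add_tmul, hu, hw]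

theorem actL_semiProj_eq_self {α : A →ₗ[k] k} (h1 : α 1 = 1) {χ : A} (hχ : IsGroupLikeElem k χ)
    {V : Type w} [AddCommGroup V] [Module k V] [Comod k A V] {v : V}
    (hv : Comod.coact (k := k) (A := A) v = v ⊗ₜ[k] χ) : actL (semiProj α χ) v = v := by
  rw [actL_apply, hv, sliceR_tmul, semiProj, LinearMap.comp_apply, LinearMap.mulRight_apply, mul_comm,
    antipode_mul_self hχ, h1, one_smul]

theorem eq_one_of_semi {x : R →ₐ[k] k} {f : R} {χ : A}
    (hf : Comod.coact (k := k) (A := A) f = f ⊗ₜ[k] χ) : GLin.orbitHom k A x f = x f • χ := by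
  rw [orbitHom_eq_sliceL, hf, sliceL_tmul]
  rfl

theorem sub_one_mem_stabIdeal_of_semi {x : R →ₐ[k] k} {f : R} {χ : A}
    (hf : Comod.coact (k := k) (A := A) f = f ⊗ₜ[k] χ) (hx : x f ≠ 0) : χ - 1 ∈ GLin.stabIdeal k A x := by
  have h : GLin.orbitHom k A x (f - algebraMap k R (x f)) ∈ GLin.stabIdeal k A x :=
    Ideal.mem_map_of_mem _ (by simp)
  rw [map_sub, AlgHom.commutes, eq_one_of_semi hf, Algebra.algebraMap_eq_smul_one, ← smul_sub] at h
  simpa [smul_smul, inv_mul_cancel₀ hx] using Submodule.smul_of_tower_mem (GLin.stabIdeal k A x) (x f)⁻¹ h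

section Frac

variable [IsDomain A]

/-- A function trivial on the stabiliser is a ratio of orbit functions. -/
theorem exists_orbitHom_mul_eq_of_mem_stabIdeal (x : R →ₐ[k] k) {χ : A} (hχ : IsGroupLikeElem k χ)
    (hJ : χ - 1 ∈ GLin.stabIdeal k A x) :
    ∃ r s : R, GLin.orbitHom k A x s ≠ 0 ∧ χ * GLin.orbitHom k A x s = GLin.orbitHom k A x r := by
  let L := FractionRing A
  let i : A →ₐ[k] L := IsScalarTower.toAlgHom k A L
  let K : IntermediateField k L := IntermediateField.adjoin k (Set.range (i.comp (GLin.orbitHom k A x)))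
  let iL : L →ₐ[k] L ⊗[K] L := (Algebra.TensorProduct.includeLeft : L →ₐ[K] L ⊗[K] L).restrictScalars k
  let iR : L →ₐ[k] L ⊗[K] L := (Algebra.TensorProduct.includeRight : L →ₐ[K] L ⊗[K] L).restrictScalars k
  have hK : ∀ r, iL (i (GLin.orbitHom k A x r)) = iR (i (GLin.orbitHom k A x r)) := fun r => by
    let c : K := ⟨i (GLin.orbitHom k A x r), IntermediateField.subset_adjoin k _ ⟨r, rfl⟩⟩
    show (algebraMap K L c) ⊗ₜ[K] (1 : L) = (1 : L) ⊗ₜ[K] algebraMap K L c
    rw [Algebra.algebraMap_eq_smul_one, TensorProduct.smul_tmul]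
  let σ : A →ₐ[k] L ⊗[K] L :=
    (Algebra.TensorProduct.lift (iR.comp i) ((iL.comp i).comp (HopfAlgebra.antipodeAlgHom k A))
      (fun _ _ => Commute.all _ _)).comp (Bialgebra.comulAlgHom k A)
  have hσθ : ∀ r, σ (GLin.orbitHom k A x r) = algebraMap k _ (x r) := by
    intro r
    show Algebra.TensorProduct.lift (iR.comp i) ((iL.comp i).comp (HopfAlgebra.antipodeAlgHom k A))
      (fun _ _ => Commute.all _ _) (CoalgebraStruct.comul (R := k) (GLin.orbitHom k A x r)) = _
    have h := congrArg (fun a => iL (i a)) (HopfAlgebra.mul_antipode_lTensor_comul_apply (R := k) (GLin.orbitHom k A x r))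
    rw [counit_orbitHom, AlgHom.commutes, AlgHom.commutes] at h
    refine Eq.trans ?_ h
    rw [comul_orbitHom]
    generalize Comod.coact (k := k) (A := A) r = z
    induction z using TensorProduct.induction_on with
    | zero => simp
    | tmul p a =>
      simp only [LinearMap.rTensor_tmul, AlgHom.toLinearMap_apply, Algebra.TensorProduct.lift_tmul,
        LinearMap.lTensor_tmul, LinearMap.mul'_apply, map_mul, AlgHom.comp_apply, ← hK]
      rfl
    | add u w hu hw => simp only [map_add, hu, hw]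
  have hker : GLin.stabIdeal k A x ≤ RingHom.ker σ := by
    refine Ideal.map_le_iff_le_comap.2 fun r hr => ?_
    rw [Ideal.mem_comap, RingHom.mem_ker, hσθ, show x r = 0 from hr, map_zero]
  have h1 : σ χ = 1 := by
    have := hker hJ
    rwa [RingHom.mem_ker, map_sub, map_one, sub_eq_zero] at this
  have hσχ : σ χ = iR (i χ) * iL (i (HopfAlgebra.antipode k χ)) := by
    show Algebra.TensorProduct.lift (iR.comp i) ((iL.comp i).comp (HopfAlgebra.antipodeAlgHom k A))
      (fun _ _ => Commute.all _ _) (CoalgebraStruct.comul (R := k) χ) = _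
    rw [hχ.comul_eq_tmul_self, Algebra.TensorProduct.lift_tmul]
    rfl
  have heq : iR (i χ) = iL (i χ) := by
    have h2 : iL (i (HopfAlgebra.antipode k χ)) * iL (i χ) = 1 := by
      rw [← map_mul, ← map_mul, antipode_mul_self hχ, map_one, map_one]
    rw [← one_mul (iL (i χ)), ← h1, hσχ, mul_assoc, h2, mul_one]
  have hmem : i χ ∈ K := by
    by_contra hne
    have hne' : i χ ∉ Submodule.span K {(1 : L)} := fun h => hne (by
      obtain ⟨c, hc⟩ := Submodule.mem_span_singleton.1 h
      rw [← hc, ← Algebra.algebraMap_eq_smul_one]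
      exact c.2)
    obtain ⟨φ, hφv, hφp⟩ := Submodule.exists_le_ker_of_notMem hne'
    have hφ1 : φ 1 = 0 := hφp (Submodule.mem_span_singleton_self _)
    have h := congrArg (fun z => TensorProduct.lid K L (φ.rTensor L z)) heq
    change TensorProduct.lid K L (φ.rTensor L ((1 : L) ⊗ₜ[K] i χ)) =
      TensorProduct.lid K L (φ.rTensor L (i χ ⊗ₜ[K] (1 : L))) at h
    simp only [LinearMap.rTensor_tmul, TensorProduct.lid_tmul, hφ1, zero_smul] at h
    exact hφv ((smul_eq_zero.1 h.symm).resolve_right one_ne_zero)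
  obtain ⟨n, hn, d, hd, hnd⟩ := IntermediateField.mem_adjoin_iff_div.1 hmem
  have hrange : Algebra.adjoin k (Set.range (i.comp (GLin.orbitHom k A x))) ≤ (i.comp (GLin.orbitHom k A x)).range :=
    Algebra.adjoin_le (by rintro _ ⟨r, rfl⟩; exact ⟨r, rfl⟩)
  obtain ⟨r, rfl⟩ := hrange hn
  obtain ⟨s, rfl⟩ := hrange hd
  have hinj : Function.Injective i := IsFractionRing.injective A L
  have hχ0 : i χ ≠ 0 := fun h => by
    have := congrArg (i (HopfAlgebra.antipode k χ) * ·) h
    simp only [← map_mul, antipode_mul_self hχ, map_one, mul_zero] at this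
    exact one_ne_zero this
  have hs : (i.comp (GLin.orbitHom k A x)) s ≠ 0 := fun h => hχ0 (by rw [hnd]; simp [show i (GLin.orbitHom k A x s) = 0 from h])
  refine ⟨r, s, fun h => hs (by show i (GLin.orbitHom k A x s) = 0; rw [h, map_zero]), hinj ?_⟩
  rw [map_mul, hnd]
  exact div_mul_cancel₀ _ hs

variable [IsAlgClosed k] [Algebra.FiniteType k A] [Algebra.FiniteType k R]

/-- A character trivial on the stabiliser of a point with closed orbit is a function on the orbit. -/
theorem mem_range_orbitHom_of_mem_stabIdeal {x : R →ₐ[k] k} (hx : GLin.IsClosedOrbit k A x) {χ : A}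
    (hχ : IsGroupLikeElem k χ) (hJ : χ - 1 ∈ GLin.stabIdeal k A x) :
    ∃ f : R, GLin.orbitHom k A x f = χ := by
  set θ := GLin.orbitHom k A x
  let I : Ideal R :=
    { carrier := {r | ∃ s, θ r * χ = θ s}
      add_mem' := fun {a b} ⟨s, hs⟩ ⟨t, ht⟩ => ⟨s + t, by rw [map_add, map_add, add_mul, hs, ht]⟩
      zero_mem' := ⟨0, by rw [map_zero, zero_mul]⟩
      smul_mem' := fun c a ⟨s, hs⟩ => ⟨c * s, by rw [smul_eq_mul, map_mul, map_mul, mul_assoc, hs]⟩ }
  have hI : IsSubcomod (k := k) (A := A) (I.restrictScalars k) := by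
    rw [isSubcomod_iff_forall_actL]
    intro r hr φ
    obtain ⟨s, hs⟩ := hr
    refine ⟨actL (φ ∘ₗ LinearMap.mulRight k (HopfAlgebra.antipode k χ)) s, ?_⟩
    show θ.toLinearMap (actL φ r) * χ = θ.toLinearMap (actL _ s)
    rw [actL_natural _ (isComodHom_orbitHom x), actL_natural _ (isComodHom_orbitHom x),
      show θ.toLinearMap s = θ r * χ from hs.symm, actL_apply, actL_apply,
      show Comod.coact (k := k) (A := A) (θ r * χ) = CoalgebraStruct.comul (R := k) (θ r * χ) from rfl,
      show Comod.coact (k := k) (A := A) (θ.toLinearMap r) = CoalgebraStruct.comul (R := k) (θ r) from rfl,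
      Bialgebra.comul_mul, hχ.comul_eq_tmul_self]
    generalize CoalgebraStruct.comul (R := k) (θ r) = z
    induction z using TensorProduct.induction_on with
    | zero => simp
    | tmul p q =>
      simp [Algebra.TensorProduct.tmul_mul_tmul, mul_assoc, mul_comm χ, antipode_mul_self hχ]
    | add u w hu hw => simp only [map_add, add_mul, hu, hw]
  suffices I = ⊤ by
    obtain ⟨s, hs⟩ : (1 : R) ∈ I := by rw [this]; trivial
    exact ⟨s, by rw [← hs, map_one, one_mul]⟩
  by_contra hne
  obtain ⟨y, hy⟩ := exists_point_le_ker (k := k) hne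
  have hyx : GLin.InOrbitClosure k A x y := fun f hf => hy ⟨0, by
    show θ f * χ = θ 0
    rw [show θ f = 0 from hf, zero_mul, map_zero]⟩
  obtain ⟨g, rfl⟩ := exists_actPt_eq_of_isClosedOrbit hx hyx
  obtain ⟨γ, hγ⟩ := eq_actPt_of_actPt_eq (x := x) (x' := GLin.actPt k g x) (g := g) (g' := Bialgebra.counitAlgHom k A)
    (actPt_one _).symm
  obtain ⟨γ', hγ'⟩ := eq_actPt_of_actPt_eq (x := GLin.actPt k g x) (x' := x) (g := Bialgebra.counitAlgHom k A) (g' := g)
    (actPt_one _)
  have hker : ∀ z : R →ₐ[k] k, I ≤ RingHom.ker z → ∀ r ∈ I, GLin.orbitHom k A z r = 0 := by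
    intro z hz r hr
    obtain ⟨t, ht⟩ := hI r hr
    rw [orbitHom_eq_sliceL, ← ht, sliceL_rTensor]
    have h0 : z.toLinearMap ∘ₗ (I.restrictScalars k).subtype = 0 := LinearMap.ext fun q => hz q.2
    rw [h0]
    clear ht
    induction t using TensorProduct.induction_on with
    | zero => simp
    | tmul p q => simp
    | add u w hu hw => rw [map_add, hu, hw, add_zero]
  have hIx : I ≤ RingHom.ker x := fun r hr => by
    rw [RingHom.mem_ker, hγ']
    show γ' (GLin.orbitHom k A (GLin.actPt k g x) r) = 0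
    rw [hker _ hy r hr, map_zero]
  obtain ⟨r, s, hs, hrs⟩ := exists_orbitHom_mul_eq_of_mem_stabIdeal x hχ hJ
  exact hs (hker x hIx s ⟨r, by rw [mul_comm]; exact hrs⟩)

/-- Semi-invariants detect characters trivial on stabilisers of closed orbits. -/
theorem exists_invariant_cutting_of_isClosedOrbit (hlr : IsLinearlyReductive k A) {x : R →ₐ[k] k}
    (hx : GLin.IsClosedOrbit k A x) {χ : A} (hχ : IsGroupLikeElem k χ) (hJ : χ - 1 ∈ GLin.stabIdeal k A x) :
    ∃ e ∈ GLin.invariants k A R, ∃ f : R, Comod.coact (k := k) (A := A) f = f ⊗ₜ[k] χ ∧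
      e ∈ Ideal.span {f} ∧ x e ≠ 0 := by
  obtain ⟨α, hα, h1⟩ := exists_isIntegral_of_isLinearlyReductive hlr
  obtain ⟨f₀, hf₀⟩ := mem_range_orbitHom_of_mem_stabIdeal hx hχ hJ
  set θ := GLin.orbitHom k A x with hθ
  set f := actL (semiProj α χ) f₀ with hfdef
  have hf : Comod.coact (k := k) (A := A) f = f ⊗ₜ[k] χ := coact_actL_semiProj hα h1 hχ f₀
  have hθf : θ f = χ := by
    show θ.toLinearMap f = χ
    rw [hfdef, actL_natural _ (isComodHom_orbitHom x), show (GLin.orbitHom k A x).toLinearMap f₀ = χ from hf₀,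
      actL_semiProj_eq_self h1 hχ hχ.comul_eq_tmul_self]
  have htop : RingHom.ker θ ⊔ Ideal.span {f} = ⊤ := by
    by_contra hne
    obtain ⟨z, hz⟩ := exists_point_le_ker (k := k) hne
    obtain ⟨g, rfl⟩ := exists_actPt_eq_of_isClosedOrbit hx (le_sup_left.trans hz)
    have h0 : g χ = 0 := by
      rw [← hθf]
      exact hz (Ideal.mem_sup_right (Ideal.subset_span rfl))
    have h2 := congrArg g (antipode_mul_self hχ)
    rw [map_mul, h0, mul_zero, map_one] at h2
    exact zero_ne_one h2
  obtain ⟨a, ha, b, hb, hab⟩ := Submodule.mem_sup.1 (show (1 : R) ∈ RingHom.ker θ ⊔ Ideal.span {f} by rw [htop]; trivial)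
  have hsub : IsSubcomod (k := k) (A := A) ((Ideal.span {f}).restrictScalars k) := by
    rw [isSubcomod_iff_forall_actL]
    intro v hv φ
    obtain ⟨c, rfl⟩ := Ideal.mem_span_singleton'.1 hv
    refine Ideal.mem_span_singleton'.2 ⟨actL (φ ∘ₗ LinearMap.mulRight k χ) c, ?_⟩
    rw [actL_apply, actL_apply, GLin.IsCoactAlg.coact_mul, hf]
    generalize Comod.coact (k := k) (A := A) c = z
    induction z using TensorProduct.induction_on with
    | zero => simp
    | tmul p q => simp [Algebra.TensorProduct.tmul_mul_tmul]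
    | add u w hu hw => simp only [map_add, add_mul, hu, hw]
  refine ⟨actL α b, actL_mem_fixedPts hα h1 b, f, hf, actL_mem_of_isSubcomod hsub α hb, ?_⟩
  have hone : Comod.coact (k := k) (A := A) (1 : R) = (1 : R) ⊗ₜ[k] (1 : A) :=
    GLin.IsCoactAlg.coact_one (k := k) (A := A) (R := R)
  have hsum : actL α a + actL α b = 1 := by
    rw [← map_add, hab]
    exact actL_eq_self_of_fixed h1 hone
  have hxa : x (actL α a) = 0 :=
    apply_eq_zero_of_orbitHom_eq_zero x (actL_mem_of_isSubcomod (isSubcomod_ker_orbitHom x) α ha)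
  have hx1 := congrArg x hsum
  rw [map_add, hxa, zero_add, map_one] at hx1
  rw [hx1]
  exact one_ne_zero

theorem exists_cutting_set (hlr : IsLinearlyReductive k A) {χ : A} (hχ : IsGroupLikeElem k χ) :
    ∃ E : Set R, E ⊆ GLin.invariants k A R ∧
      ∀ x : R →ₐ[k] k, GLin.IsClosedOrbit k A x → (χ - 1 ∈ GLin.stabIdeal k A x ↔ ∃ f ∈ E, x f ≠ 0) := by
  refine ⟨{e | e ∈ GLin.invariants k A R ∧ ∃ f : R, Comod.coact (k := k) (A := A) f = f ⊗ₜ[k] χ ∧ e ∈ Ideal.span {f}},
    fun e he => he.1, fun x hx => ⟨fun hJ => ?_, ?_⟩⟩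
  · obtain ⟨e, he, f, hf, hef, hxe⟩ := exists_invariant_cutting_of_isClosedOrbit hlr hx hχ hJ
    exact ⟨e, ⟨he, f, hf, hef⟩, hxe⟩
  · rintro ⟨e, ⟨-, f, hf, hef⟩, hxe⟩
    refine sub_one_mem_stabIdeal_of_semi hf fun h => hxe ?_
    obtain ⟨c, rfl⟩ := Ideal.mem_span_singleton'.1 hef
    rw [map_mul, h, mul_zero]

end Frac

end

end Groth.Agent.H20Comod
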