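import Groth.Agent.H20Comod.Coconn
import Mathlib.RingTheory.Bialgebra.Convolution
import Mathlib.RingTheory.Coalgebra.Convolution
import Mathlib.Algebra.MvPolynomial.PDeriv
import Mathlib.Algebra.MvPolynomial.Derivation
import Mathlib.RingTheory.Polynomial.Pochhammer
import Mathlib.Data.Nat.Choose.Cast

/-!
Cocommutative unipotent Hopf algebras in characteristic zero: the logarithm of the identity, and the
structure as polynomial algebras on primitive elements.
-/

set_option autoImplicit false

universe u v w

open TensorProduct HopfRep WithConv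

namespace Groth.Agent.H20Comod.PrimGen

noncomputable section

variable {k : Type u} [Field k] [CharZero k]

theorem poly_unique {R : Type w} [CommRing R] [Algebra k R] {p q : Polynomial R}
    (h : ∀ m : ℕ, p.eval (m : R) = q.eval (m : R)) : p = q := by
  rw [← sub_eq_zero]
  refine Polynomial.ext fun i => ?_
  rw [Polynomial.coeff_zero]
  refine (Module.forall_dual_apply_eq_zero_iff k _).1 fun φ => ?_
  let s : Polynomial k := ∑ j ∈ Finset.range ((p - q).natDegree + i + 1), Polynomial.monomial j (φ ((p - q).coeff j))
  have hs : s = 0 := by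
    refine Polynomial.eq_zero_of_infinite_isRoot _ (Set.Infinite.mono ?_ (Set.infinite_range_of_injective
      (f := fun m : ℕ => (m : k)) Nat.cast_injective))
    rintro _ ⟨m, rfl⟩
    show s.eval (m : k) = 0
    have h1 : φ ((p - q).eval (m : R)) = 0 := by rw [Polynomial.eval_sub, h m, sub_self, map_zero]
    rw [Polynomial.eval_eq_sum_range' (show (p - q).natDegree < (p - q).natDegree + i + 1 by omega), map_sum] at h1
    rw [Polynomial.eval_finsetSum, ← h1]
    refine Finset.sum_congr rfl fun j _ => ?_
    rw [Polynomial.eval_monomial,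
      show (p - q).coeff j * (m : R) ^ j = ((m : k) ^ j) • (p - q).coeff j by
        rw [Algebra.smul_def, map_pow, map_natCast, mul_comm], map_smul, smul_eq_mul, mul_comm]
  have h2 := congrArg (fun r : Polynomial k => r.coeff i) hs
  simpa [s, Polynomial.finsetSum_coeff, Polynomial.coeff_monomial] using h2

/-- `T choose n`. -/
def choosePoly (k : Type u) [Field k] (n : ℕ) : Polynomial k :=
  (n.factorial : k)⁻¹ • descPochhammer k n

theorem eval_choosePoly (n m : ℕ) : (choosePoly k n).eval (m : k) = (m.choose n : k) := by
  rw [choosePoly, Polynomial.eval_smul, descPochhammer_eval_eq_descFactorial,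
    Nat.descFactorial_eq_factorial_mul_choose, Nat.cast_mul, smul_eq_mul, ← mul_assoc,
    inv_mul_cancel₀ (Nat.cast_ne_zero.2 n.factorial_ne_zero), one_mul]

theorem coeff_one_choosePoly_one : (choosePoly k 1).coeff 1 = 1 := by
  simp [choosePoly]

variable {A : Type v} [CommRing A] [HopfAlgebra k A]

/-- The identity minus the unit, in the convolution algebra. -/
def idSubOne (k : Type u) [Field k] (A : Type v) [CommRing A] [HopfAlgebra k A] :
    WithConv (A →ₗ[k] A) := toConv LinearMap.id - 1

theorem idSubOne_apply (a : A) :
    (idSubOne k A).ofConv a = a - algebraMap k A (CoalgebraStruct.counit (R := k) a) := rfl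

theorem idSubOne_pow_apply : ∀ (n r : ℕ) (a : A), r < n → a ∈ coFil k A r → ((idSubOne k A) ^ n).ofConv a = 0
  | 0, _, _, h, _ => absurd h (Nat.not_lt_zero _)
  | n + 1, r, a, h, ha => by
    rw [pow_succ]
    show LinearMap.mul' k A (TensorProduct.map ((idSubOne k A) ^ n).ofConv (idSubOne k A).ofConv
      (CoalgebraStruct.comul (R := k) a)) = 0
    have hle := comul_coFil_le r (Submodule.mem_map_of_mem (f := CoalgebraStruct.comul (R := k) (A := A)) ha)
    refine (iSup₂_le fun i hi => ?_ : _ ≤ LinearMap.ker (LinearMap.mul' k A ∘ₗ
      TensorProduct.map ((idSubOne k A) ^ n).ofConv (idSubOne k A).ofConv)) hle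
    rintro _ ⟨t, rfl⟩
    rw [LinearMap.mem_ker]
    induction t using TensorProduct.induction_on with
    | zero => simp
    | tmul p q =>
      simp only [TensorProduct.mapIncl, LinearMap.comp_apply, TensorProduct.map_tmul, LinearMap.mul'_apply,
        Submodule.coe_subtype]
      by_cases hi0 : i < n
      · rw [idSubOne_pow_apply n i _ hi0 p.2, zero_mul]
      · have hq : (q : A) ∈ coFil k A 0 := by
          have := Finset.mem_range.1 hi
          exact coFil_mono (show r - i ≤ 0 by omega) q.2
        obtain ⟨c, hc⟩ := Submodule.mem_span_singleton.1 (coFil_zero.le hq)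
        rw [idSubOne_apply, ← hc, map_smul, Bialgebra.counit_one, smul_eq_mul, mul_one,
          Algebra.algebraMap_eq_smul_one, sub_self, mul_zero]
    | add x y hx hy => rw [map_add, map_add, hx, hy, add_zero]

/-- The `m`-th power map. -/
def powMap (k : Type u) [Field k] (A : Type v) [CommRing A] [HopfAlgebra k A] (m : ℕ) : A →ₐ[k] A :=
  (toConv (AlgHom.id k A) ^ m).ofConv

theorem powMap_eq (m : ℕ) : (powMap k A m).toLinearMap = ((toConv LinearMap.id : WithConv (A →ₗ[k] A)) ^ m).ofConv :=
  congrArg WithConv.ofConv (AlgHom.toLinearMap_convPow (toConv (AlgHom.id k A)) m)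

variable (hU : IsUnipotent k A)

/-- A bound for the vanishing of the powers of `id - 1` at an element. -/
def bound (a : A) : ℕ := (exists_mem_coFil hU a).choose + 1

theorem pow_eq_zero_of_bound (a : A) {n : ℕ} (h : bound hU a ≤ n) : ((idSubOne k A) ^ n).ofConv a = 0 :=
  idSubOne_pow_apply n _ a h (exists_mem_coFil hU a).choose_spec

/-- The polynomial interpolating the power maps at an element. -/
def powPoly (a : A) : Polynomial A :=
  ∑ n ∈ Finset.range (bound hU a), Polynomial.C (((idSubOne k A) ^ n).ofConv a) *
    (choosePoly k n).map (algebraMap k A)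

theorem eval_powPoly (a : A) (m : ℕ) : (powPoly hU a).eval (m : A) = powMap k A m a := by
  classical
  rw [powPoly, Polynomial.eval_finsetSum, ← AlgHom.toLinearMap_apply, powMap_eq,
    show (toConv LinearMap.id : WithConv (A →ₗ[k] A)) = idSubOne k A + 1 from (sub_add_cancel _ _).symm,
    (Commute.one_right _).add_pow]
  have h : ∀ n, (((idSubOne k A) ^ n * 1 ^ (m - n) * (m.choose n : WithConv (A →ₗ[k] A))).ofConv a : A) =
      (m.choose n : A) * ((idSubOne k A) ^ n).ofConv a := by
    intro n
    rw [one_pow, mul_one, ← nsmul_eq_mul']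
    show (m.choose n • ((idSubOne k A) ^ n).ofConv) a = _
    rw [LinearMap.smul_apply, nsmul_eq_mul]
  rw [show (∑ n ∈ Finset.range (m + 1), (idSubOne k A) ^ n * 1 ^ (m - n) * (m.choose n : WithConv (A →ₗ[k] A))).ofConv a =
      ∑ n ∈ Finset.range (m + 1), (m.choose n : A) * ((idSubOne k A) ^ n).ofConv a from by
    simp only [WithConv.ofConv_sum, LinearMap.sum_apply, h]]
  have h2 : ∀ n, (Polynomial.C (((idSubOne k A) ^ n).ofConv a) * (choosePoly k n).map (algebraMap k A)).eval (m : A) =
      (m.choose n : A) * ((idSubOne k A) ^ n).ofConv a := fun n => by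
    rw [Polynomial.eval_mul, Polynomial.eval_C, ← map_natCast (algebraMap k A) m, Polynomial.eval_map_apply,
      eval_choosePoly, map_natCast, mul_comm]
  simp only [h2]
  rcases le_total (bound hU a) (m + 1) with hle | hle
  · refine Finset.sum_subset (Finset.range_mono hle) fun n _ hn => ?_
    rw [pow_eq_zero_of_bound hU a (not_lt.1 fun h => hn (Finset.mem_range.2 h)), mul_zero]
  · refine (Finset.sum_subset (Finset.range_mono hle) fun n _ hn => ?_).symm
    rw [Nat.choose_eq_zero_of_lt (by simpa using hn), Nat.cast_zero, zero_mul]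

/-- The logarithm of the identity. -/
def logId (a : A) : A := (powPoly hU a).coeff 1

theorem powPoly_coeff_zero (a : A) :
    (powPoly hU a).coeff 0 = algebraMap k A (CoalgebraStruct.counit (R := k) a) := by
  have h := eval_powPoly hU a 0
  rw [Nat.cast_zero, ← Polynomial.coeff_zero_eq_eval_zero, powMap, pow_zero] at h
  exact h

theorem logId_mul (a b : A) :
    logId hU (a * b) = logId hU a * algebraMap k A (CoalgebraStruct.counit (R := k) b) +
      algebraMap k A (CoalgebraStruct.counit (R := k) a) * logId hU b := by
  have h : powPoly hU (a * b) = powPoly hU a * powPoly hU b := poly_unique (k := k) fun m => by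
    rw [Polynomial.eval_mul, eval_powPoly, eval_powPoly, eval_powPoly, map_mul]
  rw [logId, h, Polynomial.coeff_mul, Finset.Nat.antidiagonal_succ]
  simp [powPoly_coeff_zero, logId, add_comm]

/-- The logarithm is linear. -/
def logLin : A →ₗ[k] A where
  toFun := logId hU
  map_add' a b := by
    have h : powPoly hU (a + b) = powPoly hU a + powPoly hU b := poly_unique (k := k) fun m => by
      rw [Polynomial.eval_add, eval_powPoly, eval_powPoly, eval_powPoly, map_add]
    rw [logId, h, Polynomial.coeff_add]; rfl
  map_smul' c a := by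
    have h : powPoly hU (c • a) = c • powPoly hU a := poly_unique (k := k) fun m => by
      rw [Polynomial.eval_smul, eval_powPoly, eval_powPoly, map_smul]
    rw [logId, h, Polynomial.coeff_smul]; rfl

variable [Coalgebra.IsCocomm k A]

theorem comul_powMap (m : ℕ) (a : A) :
    Bialgebra.comulAlgHom k A (powMap k A m a) =
      TensorProduct.map (powMap k A m).toLinearMap (powMap k A m).toLinearMap (CoalgebraStruct.comul (R := k) a) := by
  let ι1 : A →ₐ[k] A ⊗[k] A := Algebra.TensorProduct.includeLeft
  let ι2 : A →ₐ[k] A ⊗[k] A := Algebra.TensorProduct.includeRight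
  have h12 : toConv (Bialgebra.comulAlgHom k A) = toConv ι1 * toConv ι2 := by
    refine WithConv.ofConv_injective (AlgHom.ext fun x => ?_)
    rw [AlgHom.convMul_apply]
    show CoalgebraStruct.comul (R := k) x = _
    generalize CoalgebraStruct.comul (R := k) x = z
    induction z using TensorProduct.induction_on with
    | zero => simp
    | tmul p q => simp [ι1, ι2]
    | add p q hp hq => simp only [map_add, ← hp, ← hq]
  have hcomm : Commute (toConv ι1) (toConv ι2) := mul_comm _ _
  have hpow : ∀ (f : A →ₐ[k] A ⊗[k] A), f.comp (powMap k A m) = (toConv f ^ m).ofConv := by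
    intro f
    unfold powMap
    induction m with
    | zero =>
      rw [pow_zero, pow_zero]
      exact AlgHom.ext fun x => f.commutes _
    | succ m ih =>
      rw [pow_succ, pow_succ, AlgHom.comp_convMul_distrib, ih, AlgHom.comp_id]
  have h := AlgHom.congr_fun (hpow (Bialgebra.comulAlgHom k A)) a
  rw [AlgHom.comp_apply] at h
  rw [h, h12, hcomm.mul_pow, AlgHom.convMul_apply, ← hpow, ← hpow]
  generalize CoalgebraStruct.comul (R := k) a = z
  induction z using TensorProduct.induction_on with
  | zero => simp
  | tmul p q => simp [ι1, ι2]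
  | add p q hp hq => simp only [map_add, hp, hq]

theorem comul_logId (a : A) :
    CoalgebraStruct.comul (R := k) (logId hU a) = logId hU a ⊗ₜ[k] (1 : A) + (1 : A) ⊗ₜ[k] logId hU a := by
  obtain ⟨S, hS⟩ := TensorProduct.exists_finset (CoalgebraStruct.comul (R := k) a)
  let ι1 : A →+* (A ⊗[k] A) := (Algebra.TensorProduct.includeLeft : A →ₐ[k] (A ⊗[k] A)).toRingHom
  let ι2 : A →+* (A ⊗[k] A) := (Algebra.TensorProduct.includeRight : A →ₐ[k] (A ⊗[k] A)).toRingHom
  have h : (powPoly hU a).map (Bialgebra.comulAlgHom k A).toRingHom =
      ∑ p ∈ S, (powPoly hU p.1).map ι1 * (powPoly hU p.2).map ι2 := poly_unique (k := k) fun m => by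
    rw [show ((m : (A ⊗[k] A))) = (Bialgebra.comulAlgHom k A).toRingHom (m : A) from (map_natCast _ _).symm,
      Polynomial.eval_map_apply, eval_powPoly, map_natCast, Polynomial.eval_finsetSum]
    refine (comul_powMap m a).trans ?_
    rw [hS, map_sum]
    refine Finset.sum_congr rfl fun p _ => ?_
    rw [Polynomial.eval_mul, show (m : (A ⊗[k] A)) = ι1 (m : A) from (map_natCast _ _).symm, Polynomial.eval_map_apply,
      map_natCast, show (m : (A ⊗[k] A)) = ι2 (m : A) from (map_natCast _ _).symm, Polynomial.eval_map_apply,
      eval_powPoly, eval_powPoly]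
    simp [ι1, ι2]
  have h1 := congrArg (fun q : Polynomial (A ⊗[k] A) => q.coeff 1) h
  simp only [Polynomial.coeff_map, Polynomial.finsetSum_coeff] at h1
  refine h1.trans ?_
  have hl := congrArg (logLin hU) (congrArg (sliceR (CoalgebraStruct.counit (R := k))) hS)
  have hr := congrArg (logLin hU) (congrArg (sliceL (CoalgebraStruct.counit (R := k))) hS)
  rw [show sliceR (CoalgebraStruct.counit (R := k)) (CoalgebraStruct.comul (R := k) a) = a from actL_counit (V := A) a] at hl
  rw [show sliceL (CoalgebraStruct.counit (R := k)) (CoalgebraStruct.comul (R := k) a) = a by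
    simp [sliceL, Coalgebra.rTensor_counit_comul]] at hr
  simp only [map_sum, sliceR_tmul, sliceL_tmul, map_smul] at hl hr
  conv_rhs => rw [show logId hU a = logLin hU a from rfl]; arg 1; rw [hl]
  conv_rhs => arg 2; rw [hr]
  rw [TensorProduct.sum_tmul, TensorProduct.tmul_sum, ← Finset.sum_add_distrib]
  refine Finset.sum_congr rfl fun p _ => ?_
  rw [Polynomial.coeff_mul, Finset.Nat.antidiagonal_succ]
  simp [ι1, ι2, powPoly_coeff_zero, Algebra.algebraMap_eq_smul_one, TensorProduct.tmul_smul,
    TensorProduct.smul_tmul', logLin, logId]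
  abel

theorem logId_of_primitive {x : A}
    (hx : CoalgebraStruct.comul (R := k) x = x ⊗ₜ[k] (1 : A) + (1 : A) ⊗ₜ[k] x) : logId hU x = x := by
  have h : powPoly hU x = Polynomial.C x * Polynomial.X := poly_unique (k := k) fun m => by
    rw [eval_powPoly, Polynomial.eval_mul, Polynomial.eval_C, Polynomial.eval_X]
    induction m with
    | zero =>
      rw [Nat.cast_zero, mul_zero, powMap, pow_zero]
      show algebraMap k A (CoalgebraStruct.counit (R := k) x) = 0
      have h1 := actL_counit (k := k) (A := A) (V := A) x
      rw [actL_apply, show Comod.coact (k := k) (A := A) x = CoalgebraStruct.comul (R := k) x from rfl, hx, map_add,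
        sliceR_tmul, sliceR_tmul, Bialgebra.counit_one, one_smul, add_eq_left] at h1
      rw [Algebra.algebraMap_eq_smul_one, h1]
    | succ m ih =>
      unfold powMap at ih ⊢
      rw [pow_succ, AlgHom.convMul_apply, hx]
      simp [ih, mul_add]
  rw [logId, h]
  simp

include hU in
theorem mem_adjoin_primitive (a : A) :
    a ∈ Algebra.adjoin k {x : A | CoalgebraStruct.comul (R := k) x = x ⊗ₜ[k] (1 : A) + (1 : A) ⊗ₜ[k] x} := by
  set B := Algebra.adjoin k {x : A | CoalgebraStruct.comul (R := k) x = x ⊗ₜ[k] (1 : A) + (1 : A) ⊗ₜ[k] x}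
  suffices h : ∀ r, ∀ a ∈ coFil k A r, a ∈ B by
    obtain ⟨r, hr⟩ := exists_mem_coFil hU a
    exact h r a hr
  intro r
  induction r using Nat.strong_induction_on with
  | _ r ih =>
    have hsub : ∀ i < r, ∀ n, ∀ p ∈ coFil k A i, ((idSubOne k A) ^ n).ofConv p ∈ B := by
      intro i
      induction i using Nat.strong_induction_on with
      | _ i ihi =>
        intro hi n
        induction n with
        | zero =>
          intro p _
          rw [pow_zero]
          exact B.algebraMap_mem _
        | succ n ihn =>
          intro p hp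
          rw [pow_succ]
          show LinearMap.mul' k A (TensorProduct.map ((idSubOne k A) ^ n).ofConv (idSubOne k A).ofConv
            (CoalgebraStruct.comul (R := k) p)) ∈ Subalgebra.toSubmodule B
          have hle := comul_coFil_le i (Submodule.mem_map_of_mem (f := CoalgebraStruct.comul (R := k) (A := A)) hp)
          refine (iSup₂_le fun j hj => ?_ : _ ≤ (Subalgebra.toSubmodule B).comap (LinearMap.mul' k A ∘ₗ
            TensorProduct.map ((idSubOne k A) ^ n).ofConv (idSubOne k A).ofConv)) hle
          rintro _ ⟨t, rfl⟩
          rw [Submodule.mem_comap]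
          induction t using TensorProduct.induction_on with
          | zero => simp
          | tmul x y =>
            have hji : j ≤ i := by have := Finset.mem_range.1 hj; omega
            have h1 : ((idSubOne k A) ^ n).ofConv (x : A) ∈ B := by
              rcases lt_or_eq_of_le hji with hji' | hji'
              · exact ihi j hji' (by omega) n _ x.2
              · exact ihn _ (by rw [← hji']; exact x.2)
            simp only [TensorProduct.mapIncl, LinearMap.comp_apply, TensorProduct.map_tmul, LinearMap.mul'_apply,
              Submodule.coe_subtype, idSubOne_apply]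
            exact B.mul_mem h1 (B.sub_mem (ih (i - j) (by omega) _ y.2) (B.algebraMap_mem _))
          | add x y hx hy => rw [map_add, map_add]; exact add_mem hx hy
    intro a ha
    have hpow : ∀ n, 2 ≤ n → ((idSubOne k A) ^ n).ofConv a ∈ B := by
      intro n hn
      obtain ⟨l, rfl⟩ : ∃ l, n = l + 2 := ⟨n - 2, by omega⟩
      rw [pow_succ]
      show LinearMap.mul' k A (TensorProduct.map ((idSubOne k A) ^ (l + 1)).ofConv (idSubOne k A).ofConv
        (CoalgebraStruct.comul (R := k) a)) ∈ Subalgebra.toSubmodule B
      have hle := comul_coFil_le r (Submodule.mem_map_of_mem (f := CoalgebraStruct.comul (R := k) (A := A)) ha)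
      refine (iSup₂_le fun j hj => ?_ : _ ≤ (Subalgebra.toSubmodule B).comap (LinearMap.mul' k A ∘ₗ
        TensorProduct.map ((idSubOne k A) ^ (l + 1)).ofConv (idSubOne k A).ofConv)) hle
      rintro _ ⟨t, rfl⟩
      rw [Submodule.mem_comap]
      induction t using TensorProduct.induction_on with
      | zero => simp
      | tmul x y =>
        simp only [TensorProduct.mapIncl, LinearMap.comp_apply, TensorProduct.map_tmul, LinearMap.mul'_apply,
          Submodule.coe_subtype]
        rcases Nat.eq_zero_or_pos j with hj0 | hj0
        · rw [idSubOne_pow_apply (l + 1) j _ (by omega) x.2, zero_mul]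
          exact zero_mem _
        have hji : j ≤ r := by have := Finset.mem_range.1 hj; omega
        rcases lt_or_eq_of_le hji with hji' | hji'
        · exact B.mul_mem (hsub j hji' _ _ x.2)
            (B.sub_mem (ih (r - j) (by omega) _ y.2) (B.algebraMap_mem _))
        · obtain ⟨c, hc⟩ := Submodule.mem_span_singleton.1 (coFil_zero.le (coFil_mono (show r - j ≤ 0 by omega) y.2))
          rw [idSubOne_apply, ← hc, map_smul, Bialgebra.counit_one, smul_eq_mul, mul_one,
            Algebra.algebraMap_eq_smul_one, sub_self, mul_zero]
          exact zero_mem _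
      | add x y hx hy => rw [map_add, map_add]; exact add_mem hx hy
    have hmem : logId hU a ∈ B := Algebra.subset_adjoin (comul_logId hU a)
    have hdiff : ∀ n, n ≠ 1 → ((idSubOne k A) ^ n).ofConv a * algebraMap k A ((choosePoly k n).coeff 1) ∈ B := by
      intro n hn
      refine B.mul_mem ?_ (B.algebraMap_mem _)
      rcases n with _ | n
      · rw [pow_zero]; exact B.algebraMap_mem _
      · exact hpow _ (by omega)
    rw [logId, powPoly, Polynomial.finsetSum_coeff] at hmem
    simp only [Polynomial.coeff_C_mul, Polynomial.coeff_map] at hmem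
    by_cases h1 : 1 ∈ Finset.range (bound hU a)
    · rw [← Finset.add_sum_erase _ _ h1] at hmem
      have h2 := (B.sub_mem hmem (B.sum_mem (t := (Finset.range (bound hU a)).erase 1) fun n hn => hdiff n (Finset.ne_of_mem_erase hn)) :)
      rw [add_sub_cancel_right, coeff_one_choosePoly_one, map_one, mul_one, pow_one, idSubOne_apply] at h2
      have := B.add_mem h2 (B.algebraMap_mem (CoalgebraStruct.counit (R := k) a))
      rwa [sub_add_cancel] at this
    · have h2 := pow_eq_zero_of_bound hU a (n := 1) (by simpa using h1)
      rw [pow_one, idSubOne_apply, sub_eq_zero] at h2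
      rw [h2]
      exact B.algebraMap_mem _

/-- An invariant derivation. -/
def derivOf (φ : A →ₗ[k] k) (hφ : ∀ a b, φ (a * b) =
    φ a * CoalgebraStruct.counit (R := k) b + CoalgebraStruct.counit (R := k) a * φ b) : Derivation k A A :=
  Derivation.mk' (sliceR φ ∘ₗ CoalgebraStruct.comul (R := k) (A := A)) fun a b => by
    have key : ∀ z w : A ⊗[k] A, sliceR φ (z * w) =
        sliceR φ z * sliceR (CoalgebraStruct.counit (R := k)) w +
          sliceR (CoalgebraStruct.counit (R := k)) z * sliceR φ w := by
      intro z w
      induction z using TensorProduct.induction_on with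
      | zero => simp
      | tmul p q =>
        induction w using TensorProduct.induction_on with
        | zero => simp
        | tmul p' q' =>
          simp only [Algebra.TensorProduct.tmul_mul_tmul, sliceR_tmul, hφ, add_smul, smul_mul_smul_comm, mul_smul]
        | add x y hx hy => simp only [mul_add, map_add, hx, hy]; ring
      | add x y hx hy => simp only [add_mul, map_add, hx, hy]; ring
    simp only [LinearMap.comp_apply, Bialgebra.comul_mul, key, smul_eq_mul,
      show ∀ x : A, sliceR (CoalgebraStruct.counit (R := k)) (CoalgebraStruct.comul (R := k) x) = x from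
        fun x => actL_counit (V := A) x]
    ring

include hU in
theorem algebraicIndependent {ι : Type w} [Finite ι] {x : ι → A} (hli : LinearIndependent k x)
    (hx : ∀ i, CoalgebraStruct.comul (R := k) (x i) = x i ⊗ₜ[k] (1 : A) + (1 : A) ⊗ₜ[k] x i) :
    AlgebraicIndependent k x := by
  classical
  haveI := Fintype.ofFinite ι
  have hεx : ∀ j, CoalgebraStruct.counit (R := k) (x j) • (1 : A) = 0 := fun j => by
    have h := powPoly_coeff_zero hU (x j)
    have h1 : powPoly hU (x j) = Polynomial.C (x j) * Polynomial.X := poly_unique (k := k) fun m => by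
      rw [eval_powPoly, Polynomial.eval_mul, Polynomial.eval_C, Polynomial.eval_X]
      induction m with
      | zero =>
        rw [Nat.cast_zero, mul_zero, powMap, pow_zero]
        show algebraMap k A (CoalgebraStruct.counit (R := k) (x j)) = 0
        have h1 := actL_counit (k := k) (A := A) (V := A) (x j)
        rw [actL_apply, show Comod.coact (k := k) (A := A) (x j) = CoalgebraStruct.comul (R := k) (x j) from rfl,
          hx j, map_add, sliceR_tmul, sliceR_tmul, Bialgebra.counit_one, one_smul, add_eq_left] at h1
        rw [Algebra.algebraMap_eq_smul_one, h1]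
      | succ m ih =>
        unfold powMap at ih ⊢
        rw [pow_succ, AlgHom.convMul_apply, hx]
        simp [ih, mul_add]
    rw [h1] at h
    rw [← Algebra.algebraMap_eq_smul_one, ← h]
    simp
  have hphi : ∀ i, ∃ φ : A →ₗ[k] k, ∀ j, φ (x j) = if i = j then 1 else 0 := by
    intro i
    let b := Module.Basis.span hli
    obtain ⟨g, hg⟩ := LinearMap.exists_extend (b.coord i)
    refine ⟨g, fun j => ?_⟩
    have h1 := LinearMap.congr_fun hg (b j)
    rw [LinearMap.comp_apply, Module.Basis.coord_apply, Module.Basis.repr_self] at h1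
    rw [show x j = ((Submodule.span k (Set.range x)).subtype (b j) : A) by simp [b, Module.Basis.span_apply], h1]
    simp [Finsupp.single_apply, eq_comm]
  choose φ hφ using hphi
  let D : ι → Derivation k A A := fun i => derivOf (φ i ∘ₗ logLin hU) fun a b => by
    show φ i (logId hU (a * b)) = φ i (logId hU a) * _ + _ * φ i (logId hU b)
    rw [logId_mul, map_add, mul_comm (logId hU a), ← Algebra.smul_def, ← Algebra.smul_def, map_smul, map_smul,
      smul_eq_mul, smul_eq_mul, mul_comm (φ i (logId hU a))]
  have hD : ∀ i j, D i (x j) = if i = j then 1 else 0 := by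
    intro i j
    show sliceR (φ i ∘ₗ logLin hU) (CoalgebraStruct.comul (R := k) (x j)) = _
    have h1 : logLin hU (x j) = x j := logId_of_primitive hU (hx j)
    have h2 : logLin hU (1 : A) = 0 := by
      have h := logId_mul hU (1 : A) 1
      simp only [Bialgebra.counit_one, map_one, mul_one, one_mul] at h
      exact left_eq_add.1 h
    rw [hx j, map_add, sliceR_tmul, sliceR_tmul, LinearMap.comp_apply, LinearMap.comp_apply, h1, h2, map_zero,
      zero_smul, zero_add, hφ]
    split_ifs <;> simp
  have hchain : ∀ i (p : MvPolynomial ι k),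
      D i (MvPolynomial.aeval x p) = MvPolynomial.aeval x (MvPolynomial.pderiv i p) := by
    intro i p
    induction p using MvPolynomial.induction_on with
    | C a => simp
    | add p q hp hq => simp [hp, hq]
    | mul_X p j hp =>
      simp only [map_mul, MvPolynomial.aeval_X, Derivation.leibniz, hp, hD, map_add, smul_eq_mul,
        MvPolynomial.pderiv_X, Pi.single_apply, apply_ite (MvPolynomial.aeval x), map_one, map_zero]
      rcases eq_or_ne i j with h | h <;> simp [h, eq_comm]
  rw [algebraicIndependent_iff]
  suffices h : ∀ (n : ℕ) (p : MvPolynomial ι k), p.totalDegree ≤ n → MvPolynomial.aeval x p = 0 → p = 0 from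
    fun p hp => h _ p le_rfl hp
  have hconst : ∀ p : MvPolynomial ι k, MvPolynomial.aeval x p = 0 → (∀ α, α ≠ 0 → p.coeff α = 0) → p = 0 := by
    intro p hp h0
    have hp' : p = MvPolynomial.C (p.coeff 0) := MvPolynomial.ext _ _ fun α => by
      rw [MvPolynomial.coeff_C]
      by_cases hα : (0 : ι →₀ ℕ) = α
      · rw [if_pos hα, hα]
      · rw [if_neg hα, h0 α (Ne.symm hα)]
    rw [hp', MvPolynomial.aeval_C] at hp
    have hn : Function.Injective (algebraMap k A) := by
      haveI : Nontrivial A := (Bialgebra.counitAlgHom k A).toRingHom.domain_nontrivial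
      exact (algebraMap k A).injective
    rw [hp', (map_eq_zero_iff _ hn).1 hp, map_zero]
  intro n
  induction n with
  | zero =>
    intro p hp h0
    refine hconst p h0 fun α hα => ?_
    by_contra hne
    have := (MvPolynomial.le_totalDegree (MvPolynomial.mem_support_iff.2 hne)).trans hp
    exact hα (Finsupp.degree_eq_zero_iff α |>.1 (Nat.le_zero.1 this))
  | succ n ih =>
    intro p hp h0
    refine hconst p h0 fun α hα => ?_
    obtain ⟨i, hi⟩ := Finsupp.ne_iff.1 hα
    have hz : MvPolynomial.pderiv i p = 0 := by
      refine ih _ (Finset.sup_le fun β hβ => ?_) (by rw [← hchain, h0, map_zero])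
      rw [MvPolynomial.mem_support_iff, MvPolynomial.coeff_pderiv] at hβ
      have := (MvPolynomial.le_totalDegree (MvPolynomial.mem_support_iff.2 (left_ne_zero_of_mul hβ))).trans hp
      rw [Finsupp.sum_add_index' (fun _ => rfl) (fun _ _ _ => rfl), Finsupp.sum_single_index rfl] at this
      omega
    have h1 := congrArg (fun q => MvPolynomial.coeff (α - Finsupp.single i 1) q) hz
    simp only [MvPolynomial.coeff_pderiv, MvPolynomial.coeff_zero] at h1
    have hle : Finsupp.single i 1 ≤ α := Finsupp.single_le_iff.2 (Nat.one_le_iff_ne_zero.2 hi)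
    rw [tsub_add_cancel_of_le hle] at h1
    refine (mul_eq_zero.1 h1).resolve_right ?_
    norm_cast

end

end Groth.Agent.H20Comod.PrimGen
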