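import Groth.Agent.H20Comod.DualMod
import Groth.Prelude.Def_ComodSub

/-!
Isotypic decomposition helpers for comodules and transport between submodules and restricted comodules.
-/

set_option autoImplicit false

universe u v w w' x

open TensorProduct HopfRep

namespace Groth.Agent.H20Comod

noncomputable section

section Generic

variable {k : Type u} [CommRing k] {R : Type v} [Ring R] [Algebra k R] {M : Type w} [AddCommGroup M]
  [Module k M] [Module R M] [IsScalarTower k R M]

theorem mem_iSup_restrictScalars_iff {ι : Sort x} (p : ι → Submodule R M) (a : M) :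
    a ∈ ⨆ i, (p i).restrictScalars k ↔ a ∈ ⨆ i, p i := by
  constructor <;> intro h
  · induction h using Submodule.iSup_induction' with
    | mem i y hy => exact Submodule.mem_iSup_of_mem i hy
    | zero => exact zero_mem _
    | add a b _ _ ha hb => exact add_mem ha hb
  · induction h using Submodule.iSup_induction' with
    | mem i y hy => exact Submodule.mem_iSup_of_mem i hy
    | zero => exact zero_mem _
    | add a b _ _ ha hb => exact add_mem ha hb

theorem iSup_restrictScalars_eq_top_iff {ι : Sort x} (p : ι → Submodule R M) :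
    (⨆ i, (p i).restrictScalars k) = ⊤ ↔ (⨆ i, p i) = ⊤ := by
  simp only [Submodule.eq_top_iff', mem_iSup_restrictScalars_iff]

theorem iSupIndep_restrictScalars {ι : Type x} (p : ι → Submodule R M) (h : iSupIndep p) :
    iSupIndep fun i => (p i).restrictScalars k := by
  intro i
  refine disjoint_iff_inf_le.2 fun a ha => ?_
  obtain ⟨ha1, ha2⟩ := ha
  rw [iSup_subtype'] at ha2
  refine (h i).le_bot ⟨ha1, ?_⟩
  rw [iSup_subtype']
  exact (mem_iSup_restrictScalars_iff _ a).1 ha2

theorem iSupIndep_isotypicComponent_of_not_equiv {ι : Type x} (S : ι → Type w') [∀ j, AddCommGroup (S j)]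
    [∀ j, Module R (S j)] [∀ j, IsSimpleModule R (S j)]
    (h : ∀ i j, i ≠ j → IsEmpty (S i ≃ₗ[R] S j)) :
    iSupIndep fun j => isotypicComponent R M (S j) := by
  have key : ∀ j, isotypicComponent R M (S j) = ⊥ ∨
      isotypicComponent R M (S j) ∈ isotypicComponents R M ∧
        ∃ m : Submodule R M, Nonempty (m ≃ₗ[R] S j) ∧ m ≤ isotypicComponent R M (S j) := by
    intro j
    by_cases hj : {m : Submodule R M | Nonempty (m ≃ₗ[R] S j)}.Nonempty
    · obtain ⟨m, ⟨e⟩⟩ := hj
      haveI : IsSimpleModule R m := IsSimpleModule.congr e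
      exact Or.inr ⟨⟨m, inferInstance, LinearEquiv.isotypicComponent_eq e.symm⟩, m, ⟨e⟩, le_sSup ⟨e⟩⟩
    · refine Or.inl ?_
      rw [isotypicComponent, Set.not_nonempty_iff_eq_empty.1 hj, sSup_empty]
  intro i
  rcases key i with hi | ⟨hi, m, ⟨e⟩, hm⟩
  · simp only [hi]
    exact disjoint_bot_left
  · refine ((sSupIndep_isotypicComponents (R := R) (M := M)) hi).mono_right (iSup₂_le fun j hji => ?_)
    rcases key j with hj | ⟨hj, -⟩
    · simp only [hj]; exact bot_le
    · refine le_sSup ⟨hj, fun heq => ?_⟩
      haveI : IsSimpleModule R m := IsSimpleModule.congr e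
      rw [Set.mem_singleton_iff] at heq
      rw [← heq] at hm
      let m' : Submodule R ↥(isotypicComponent R M (S j)) := m.comap (isotypicComponent R M (S j)).subtype
      have e' : m' ≃ₗ[R] m := Submodule.comapSubtypeEquivOfLe hm
      haveI : IsSimpleModule R m' := IsSimpleModule.congr e'
      obtain ⟨f⟩ := IsIsotypicOfType.isotypicComponent (R := R) (M := M) (S := S j) m'
      exact (h i j (Ne.symm hji)).false ((e.symm.trans e'.symm).trans f)

end Generic

section Field

variable {k : Type u} [Field k] {A : Type v} [AddCommGroup A] [Module k A] [Coalgebra k A]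
  {V : Type w} [AddCommGroup V] [Module k V] [Comod k A V]

/-- The restricted comodule on a submodule over the convolution algebra. -/
abbrev subComod (q : Submodule (DualAlg k A) V) : Comod k A ↥(q.restrictScalars k) :=
  ComodSub.Comod.restr inferInstance _ (isSubcomod_restrictScalars q)

theorem exists_equiv_subComod (q : Submodule (DualAlg k A) V) :
    letI := subComod q
    ∃ e : ↥(q.restrictScalars k) ≃ₗ[DualAlg k A] ↥q, ∀ x, (e x : V) = x := by
  letI := subComod q
  let f : ↥(q.restrictScalars k) →ₗ[DualAlg k A] ↥q :=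
    (homLin (q.restrictScalars k).subtype (ComodSub.isComodHom_subtype _ _ _)).codRestrict q fun x => x.2
  refine ⟨LinearEquiv.ofBijective f ⟨fun a b hab => Subtype.ext (congrArg Subtype.val hab :), fun y => ?_⟩, fun x => rfl⟩
  exact ⟨⟨y.1, y.2⟩, rfl⟩

variable (k A) in
/-- If the finite-dimensional subcomodules of the regular comodule are semisimple, so is the regular comodule. -/
theorem isSemisimpleModule_regular_of_finite
    (h : ∀ (W : Submodule k A) (hW : IsSubcomod (k := k) (A := A) W), Module.Finite k W →
      @IsSemisimpleComod k A _ _ _ _ ↥W _ _ (ComodSub.Comod.restr inferInstance W hW)) :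
    IsSemisimpleModule (DualAlg k A) A := by
  refine isSemisimpleModule_of_isSemisimpleModule_submodule'
    (p := fun a : A => Submodule.span (DualAlg k A) {a}) (fun a => ?_) ?_
  · letI := subComod (Submodule.span (DualAlg k A) {a})
    obtain ⟨e, -⟩ := exists_equiv_subComod (Submodule.span (DualAlg k A) {a})
    have hs := h _ (isSubcomod_restrictScalars (Submodule.span (DualAlg k A) {a}))
      (finite_span_singleton_dual (k := k) (A := A) a)
    haveI := (isSemisimpleComod_iff (k := k) (A := A) (V := ↥((Submodule.span (DualAlg k A) {a}).restrictScalars k))).1 hs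
    exact IsSemisimpleModule.congr e.symm
  · rw [eq_top_iff]
    exact fun a _ => Submodule.mem_iSup_of_mem a (Submodule.mem_span_singleton_self a)

theorem mem_range_map_subtype_iff' (E : Submodule k V) (D : Submodule k A) (z : V ⊗[k] A) :
    z ∈ LinearMap.range (TensorProduct.map E.subtype D.subtype) ↔
      (∀ f : A →ₗ[k] k, sliceR f z ∈ E) ∧ (∀ g : V →ₗ[k] k, sliceL g z ∈ D) := by
  constructor
  · rintro ⟨y, rfl⟩
    induction y using TensorProduct.induction_on with
    | zero => simp
    | tmul a b => exact ⟨fun f => by simpa using E.smul_mem _ a.2, fun g => by simpa using D.smul_mem _ b.2⟩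
    | add y z hy hz =>
      exact ⟨fun f => by simpa using add_mem (hy.1 f) (hz.1 f), fun g => by simpa using add_mem (hy.2 g) (hz.2 g)⟩
  · rintro ⟨h1, h2⟩
    obtain ⟨y, rfl⟩ := (mem_range_rTensor_subtype_iff E z).2 h1
    obtain ⟨t, rfl⟩ := (mem_range_lTensor_subtype_iff (V := E) D y).2 fun f => by
      obtain ⟨g, hg⟩ := LinearMap.exists_extend f
      rw [← hg, ← sliceL_rTensor]
      exact h2 g
    exact ⟨t, by rw [← LinearMap.rTensor_comp_lTensor]; rfl⟩

end Field

end

end Groth.Agent.H20Comod
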