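import Groth.Agent.H20Comod.Unip
import Mathlib.RingTheory.Valuation.ValuationRing
import Mathlib.RingTheory.DiscreteValuationRing.Basic
import Mathlib.RingTheory.LocalRing.ResidueField.Basic

/-!
Specialisation of unipotent and trigonalisable groups over a valuation ring.
-/

set_option autoImplicit false

universe u v

open TensorProduct HopfRep

namespace Groth.Agent.H20Comod

noncomputable section

variable {A : Type u} [CommRing A] {H : Type v} [CommRing H] [Bialgebra A H]

variable (A H) in
/-- `x ⊗ y ↦ (1 ⊗ x) ⊗ (1 ⊗ y)`. -/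
def dblBase (S : Type u) [CommRing S] [Algebra A S] :
    H ⊗[A] H →ₗ[A] (S ⊗[A] H) ⊗[S] (S ⊗[A] H) :=
  TensorProduct.lift (LinearMap.mk₂ A (fun x y => ((1 : S) ⊗ₜ[A] x) ⊗ₜ[S] ((1 : S) ⊗ₜ[A] y))
    (fun x x' y => by rw [TensorProduct.tmul_add, TensorProduct.add_tmul])
    (fun c x y => by rw [TensorProduct.tmul_smul]; exact (TensorProduct.smul_tmul' c _ _).symm)
    (fun x y y' => by rw [TensorProduct.tmul_add, TensorProduct.tmul_add])
    (fun c x y => by rw [TensorProduct.tmul_smul, TensorProduct.tmul_smul]))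

theorem dblBase_comul (S : Type u) [CommRing S] [Algebra A S] (h : H) :
    Comod.coact (k := S) (A := S ⊗[A] H) ((1 : S) ⊗ₜ[A] h) = dblBase A H S (CoalgebraStruct.comul (R := A) h) :=
  comul_one_tmul h

variable {K : Type u} [Field K] [Algebra A K]

variable (A) in
/-- The elements of the lattice lying in a given subspace of the generic fibre. -/
def latticePart (F : Submodule K (K ⊗[A] H)) : Submodule A H :=
  (F.restrictScalars A).comap (TensorProduct.mk A K H 1)

variable (A) in
/-- The reduction of the part of the lattice lying in a given subspace. -/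
def reduced [IsLocalRing A] (F : Submodule K (K ⊗[A] H)) :
    Submodule (IsLocalRing.ResidueField A) (IsLocalRing.ResidueField A ⊗[A] H) :=
  Submodule.span _ ((fun h : H => (1 : IsLocalRing.ResidueField A) ⊗ₜ[A] h) '' (latticePart A F : Set H))

variable [Module.Flat A H]

theorem mem_range_latticePart (F : Submodule K (K ⊗[A] H)) {z : H ⊗[A] H}
    (hz : dblBase A H K z ∈ LinearMap.range (F.subtype.rTensor (K ⊗[A] H))) :
    z ∈ LinearMap.range ((latticePart A F).subtype.rTensor H) := by
  let j : H →ₗ[A] (K ⊗[A] H) ⧸ F := F.mkQ.restrictScalars A ∘ₗ TensorProduct.mk A K H 1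
  have hker : LinearMap.ker j = latticePart A F := by
    ext h
    exact Submodule.Quotient.mk_eq_zero F
  refine (rTensor_exact H (LinearMap.exact_subtype_mkQ (latticePart A F)) (latticePart A F).mkQ_surjective z).1 ?_
  let j' : H ⧸ latticePart A F →ₗ[A] (K ⊗[A] H) ⧸ F := (latticePart A F).liftQ j hker.ge
  have hj' : Function.Injective j' := by
    rw [← LinearMap.ker_eq_bot, Submodule.ker_liftQ, hker, Submodule.mkQ_map_self]
  apply Module.Flat.rTensor_preserves_injective_linearMap j' hj'
  rw [map_zero, ← LinearMap.rTensor_comp_apply, Submodule.liftQ_mkQ]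
  obtain ⟨t, ht⟩ := hz
  have h0 : F.mkQ.rTensor (K ⊗[A] H) (dblBase A H K z) = 0 := by
    rw [← ht, ← LinearMap.rTensor_comp_apply, show F.mkQ ∘ₗ F.subtype = 0 from
      LinearMap.ext fun x => (Submodule.Quotient.mk_eq_zero F).2 x.2, LinearMap.rTensor_zero, LinearMap.zero_apply]
  have key : ∀ w : H ⊗[A] H, TensorProduct.AlgebraTensorModule.cancelBaseChange A K K ((K ⊗[A] H) ⧸ F) H
      (F.mkQ.rTensor (K ⊗[A] H) (dblBase A H K w)) = j.rTensor H w := by
    intro w
    induction w using TensorProduct.induction_on with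
    | zero => simp
    | tmul x y => simp [dblBase, j]
    | add u v hu hv => simp only [map_add, hu, hv]
  rw [← key, h0, map_zero]

variable [IsLocalRing A]

theorem dblBase_mem_range_reduced (F : Submodule K (K ⊗[A] H)) {z : H ⊗[A] H}
    (hz : z ∈ LinearMap.range ((latticePart A F).subtype.rTensor H)) :
    dblBase A H (IsLocalRing.ResidueField A) z ∈
      LinearMap.range ((reduced A F).subtype.rTensor (IsLocalRing.ResidueField A ⊗[A] H)) := by
  obtain ⟨t, rfl⟩ := hz
  induction t using TensorProduct.induction_on with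
  | zero => simp
  | tmul p q =>
    exact ⟨(⟨_, Submodule.subset_span ⟨p, p.2, rfl⟩⟩ : reduced A F) ⊗ₜ[IsLocalRing.ResidueField A]
      ((1 : IsLocalRing.ResidueField A) ⊗ₜ[A] q), rfl⟩
  | add u v hu hv => rw [map_add, map_add]; exact add_mem hu hv

theorem isSubcomod_reduced {F : Submodule K (K ⊗[A] H)} (hF : IsSubcomod (k := K) (A := K ⊗[A] H) F) :
    IsSubcomod (k := IsLocalRing.ResidueField A) (A := IsLocalRing.ResidueField A ⊗[A] H) (reduced A F) := by
  intro x hx
  induction hx using Submodule.span_induction with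
  | mem y hy =>
    obtain ⟨h, hh, rfl⟩ := hy
    rw [dblBase_comul]
    refine dblBase_mem_range_reduced F (mem_range_latticePart F ?_)
    rw [← dblBase_comul]
    exact hF _ hh
  | zero => rw [map_zero]; exact zero_mem _
  | add u v _ _ hu hv => rw [map_add]; exact add_mem hu hv
  | smul c u _ hu => rw [map_smul]; exact Submodule.smul_mem _ c hu

theorem reduced_bot [IsDomain A] [IsFractionRing A K] : reduced A (⊥ : Submodule K (K ⊗[A] H)) = ⊥ := by
  rw [reduced, Submodule.span_eq_bot]
  rintro _ ⟨h, hh, rfl⟩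
  have hinj : Function.Injective (TensorProduct.mk A K H 1) := by
    have h1 : TensorProduct.mk A K H 1 = (Algebra.linearMap A K).rTensor H ∘ₗ (TensorProduct.lid A H).symm.toLinearMap := by
      ext x; simp
    rw [h1, LinearMap.coe_comp]
    exact (Module.Flat.rTensor_preserves_injective_linearMap _ (IsFractionRing.injective A K)).comp
      (TensorProduct.lid A H).symm.injective
  obtain rfl : h = 0 := hinj (((Submodule.mem_bot K).1 hh).trans (map_zero _).symm)
  exact TensorProduct.tmul_zero _ _

theorem one_tmul_mem_reduced {F : Submodule K (K ⊗[A] H)} {h : H} (hh : (1 : K) ⊗ₜ[A] h ∈ F) :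
    (1 : IsLocalRing.ResidueField A) ⊗ₜ[A] h ∈ reduced A F :=
  Submodule.subset_span ⟨h, hh, rfl⟩

theorem exists_eq_one_tmul (x : IsLocalRing.ResidueField A ⊗[A] H) :
    ∃ h : H, x = (1 : IsLocalRing.ResidueField A) ⊗ₜ[A] h := by
  induction x using TensorProduct.induction_on with
  | zero => exact ⟨0, (TensorProduct.tmul_zero _ _).symm⟩
  | tmul c h =>
    obtain ⟨a, rfl⟩ := IsLocalRing.residue_surjective c
    refine ⟨a • h, ?_⟩
    rw [TensorProduct.tmul_smul, TensorProduct.smul_tmul', Algebra.smul_def, mul_one]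
    rfl
  | add u v hu hv =>
    obtain ⟨a, rfl⟩ := hu
    obtain ⟨b, rfl⟩ := hv
    exact ⟨a + b, (TensorProduct.tmul_add _ _ _).symm⟩

variable [IsDomain A] [IsFractionRing A K] [ValuationRing A]

theorem exists_reduced_step {F F' : Submodule K (K ⊗[A] H)} (hF : ∃ x, F' ≤ F ⊔ Submodule.span K {x}) :
    ∃ x, reduced A F' ≤ reduced A F ⊔ Submodule.span (IsLocalRing.ResidueField A) {x} := by
  classical
  obtain ⟨x, hx⟩ := hF
  by_cases hall : ∀ y ∈ latticePart A F', (1 : IsLocalRing.ResidueField A) ⊗ₜ[A] y ∈ reduced A F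
  · refine ⟨0, Submodule.span_le.2 ?_⟩
    rintro _ ⟨y, hy, rfl⟩
    exact Submodule.mem_sup_left (hall y hy)
  push_neg at hall
  obtain ⟨y, hy, hy'⟩ := hall
  refine ⟨(1 : IsLocalRing.ResidueField A) ⊗ₜ[A] y, Submodule.span_le.2 ?_⟩
  rintro _ ⟨z, hz, rfl⟩
  obtain ⟨a, ha, a', ha', hay⟩ := Submodule.mem_sup.1 (hx hy)
  obtain ⟨b, hb, b', hb', hbz⟩ := Submodule.mem_sup.1 (hx hz)
  obtain ⟨c, rfl⟩ := Submodule.mem_span_singleton.1 ha'
  obtain ⟨d, rfl⟩ := Submodule.mem_span_singleton.1 hb'
  replace hay : a + c • x = (1 : K) ⊗ₜ[A] y := hay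
  replace hbz : b + d • x = (1 : K) ⊗ₜ[A] z := hbz
  have hc : c ≠ 0 := fun e => hy' (one_tmul_mem_reduced (by rw [← hay, e, zero_smul, add_zero]; exact ha))
  have hint : ∀ r : A, algebraMap A K r * c = d →
      (1 : IsLocalRing.ResidueField A) ⊗ₜ[A] z ∈
        reduced A F ⊔ Submodule.span (IsLocalRing.ResidueField A) {(1 : IsLocalRing.ResidueField A) ⊗ₜ[A] y} := by
    intro r hr
    have h1 : (1 : IsLocalRing.ResidueField A) ⊗ₜ[A] (z - r • y) ∈ reduced A F := by
      refine one_tmul_mem_reduced ?_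
      rw [TensorProduct.tmul_sub, TensorProduct.tmul_smul, ← algebraMap_smul K r ((1 : K) ⊗ₜ[A] y), ← hay, ← hbz,
        smul_add, smul_smul, hr, show b + d • x - (algebraMap A K r • a + d • x) = b - algebraMap A K r • a by abel]
      exact F.sub_mem hb (F.smul_mem _ ha)
    rw [show z = (z - r • y) + r • y by abel, TensorProduct.tmul_add, TensorProduct.tmul_smul,
      ← algebraMap_smul (IsLocalRing.ResidueField A) r ((1 : IsLocalRing.ResidueField A) ⊗ₜ[A] y)]
    exact add_mem (Submodule.mem_sup_left h1)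
      (Submodule.mem_sup_right (Submodule.smul_mem _ _ (Submodule.mem_span_singleton_self _)))
  by_cases hd : d = 0
  · exact Submodule.mem_sup_left (one_tmul_mem_reduced (by rw [← hbz, hd, zero_smul, add_zero]; exact hb))
  rcases ValuationRing.isInteger_or_isInteger A (d / c) with ⟨r, hr⟩ | ⟨r, hr⟩
  · exact hint r (by rw [hr, div_mul_cancel₀ d hc])
  · by_cases hu : IsUnit r
    · obtain ⟨r', hr'⟩ := hu.exists_left_inv
      refine hint r' ?_
      have h2 : algebraMap A K r' * algebraMap A K r = 1 := by rw [← map_mul, hr', map_one]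
      rw [hr, inv_div, mul_div_assoc', div_eq_one_iff_eq hd] at h2
      exact h2
    · exfalso
      refine hy' ?_
      have hrc : algebraMap A K r * d = c := by rw [hr, inv_div, div_mul_cancel₀ c hd]
      have h1 : (1 : IsLocalRing.ResidueField A) ⊗ₜ[A] (r • z - y) ∈ reduced A F := by
        refine one_tmul_mem_reduced ?_
        rw [TensorProduct.tmul_sub, TensorProduct.tmul_smul, ← algebraMap_smul K r ((1 : K) ⊗ₜ[A] z), ← hay, ← hbz,
          smul_add, smul_smul, hrc,
          show algebraMap A K r • b + c • x - (a + c • x) = algebraMap A K r • b - a by abel]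
        exact F.sub_mem (F.smul_mem _ hb) ha
      have h2 : (1 : IsLocalRing.ResidueField A) ⊗ₜ[A] (r • z) = 0 := by
        rw [TensorProduct.tmul_smul, ← algebraMap_smul (IsLocalRing.ResidueField A) r,
          show algebraMap A (IsLocalRing.ResidueField A) r = 0 from (IsLocalRing.residue_eq_zero_iff r).2 hu,
          zero_smul]
      rw [TensorProduct.tmul_sub, h2, zero_sub, neg_mem_iff] at h1
      exact h1

theorem isTrigonalizable_residue (hK : IsTrigonalizable K (K ⊗[A] H)) :
    IsTrigonalizable (IsLocalRing.ResidueField A) (IsLocalRing.ResidueField A ⊗[A] H) := by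
  refine isTrigonalizable_of_flags fun x => ?_
  obtain ⟨h, rfl⟩ := exists_eq_one_tmul x
  obtain ⟨F, hF, n, hn⟩ := exists_lineFlag_of_isTrigonalizable hK ((1 : K) ⊗ₜ[A] h)
  exact ⟨fun i => reduced A (F i), ⟨fun i => isSubcomod_reduced (hF.isSub i), by rw [hF.zero, reduced_bot],
    fun i => exists_reduced_step (hF.step i)⟩, n, one_tmul_mem_reduced hn⟩

theorem isUnipotent_residue (hK : IsUnipotent K (K ⊗[A] H)) :
    IsUnipotent (IsLocalRing.ResidueField A) (IsLocalRing.ResidueField A ⊗[A] H) := by
  refine isUnipotent_of_uniFlags fun x => ?_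
  obtain ⟨h, rfl⟩ := exists_eq_one_tmul x
  obtain ⟨F, hF, n, hn⟩ := exists_uniFlag_of_finite hK (Set.finite_singleton ((1 : K) ⊗ₜ[A] h))
  refine ⟨fun i => reduced A (F i), ⟨fun i => isSubcomod_reduced (hF.isSub i), by rw [hF.zero, reduced_bot],
    fun i v hv => ?_⟩, n, one_tmul_mem_reduced (hn rfl)⟩
  induction hv using Submodule.span_induction with
  | mem y hy =>
    obtain ⟨g, hg, rfl⟩ := hy
    rw [dblBase_comul, Algebra.TensorProduct.one_def,
      show ((1 : IsLocalRing.ResidueField A) ⊗ₜ[A] g) ⊗ₜ[IsLocalRing.ResidueField A]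
        ((1 : IsLocalRing.ResidueField A) ⊗ₜ[A] (1 : H)) = dblBase A H (IsLocalRing.ResidueField A) (g ⊗ₜ[A] (1 : H))
        from rfl, ← map_sub]
    refine dblBase_mem_range_reduced _ (mem_range_latticePart _ ?_)
    rw [map_sub, ← dblBase_comul]
    exact hF.step i _ hg
  | zero => rw [map_zero, TensorProduct.zero_tmul, sub_zero]; exact zero_mem _
  | add u v _ _ hu hv => rw [map_add, TensorProduct.add_tmul, add_sub_add_comm]; exact add_mem hu hv
  | smul c u _ hu =>
    rw [map_smul]
    have h2 := Submodule.smul_mem _ c hu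
    simpa only [smul_sub, TensorProduct.smul_tmul'] using h2

end

end Groth.Agent.H20Comod
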