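import Groth.Agent.H20Comod.Reynolds
import Mathlib.LinearAlgebra.Trace
import Mathlib.RingTheory.TensorProduct.Maps

/-!
The trace form of a finite free commutative Hopf algebra is an invariant integral.
-/

set_option autoImplicit false

universe u v

open TensorProduct WithConv

namespace Groth.Agent.H20Comod

noncomputable section

variable {k : Type u} [CommRing k] {A : Type v} [CommRing A] [HopfAlgebra k A]

/-- `a ↦ trace of multiplication by a`. -/
def traceForm (k : Type u) [CommRing k] (A : Type v) [CommRing A] [Algebra k A] : A →ₗ[k] k :=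
  LinearMap.trace k A ∘ₗ LinearMap.mul k A

theorem traceForm_one [Nontrivial k] [Module.Free k A] [Module.Finite k A] :
    traceForm k A 1 = Module.finrank k A := by
  have : LinearMap.mul k A 1 = LinearMap.id := by ext a; simp
  rw [traceForm, LinearMap.comp_apply, this, LinearMap.trace_id]

local notation "i₁" => (Algebra.TensorProduct.includeLeft : A →ₐ[k] A ⊗[k] A)
local notation "i₂" => (Algebra.TensorProduct.includeRight : A →ₐ[k] A ⊗[k] A)

theorem comp_conv (f : A ⊗[k] A →ₐ[k] A ⊗[k] A) (g h : WithConv (A →ₐ[k] A ⊗[k] A)) :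
    toConv (f.comp (g * h).ofConv) = toConv (f.comp g.ofConv) * toConv (f.comp h.ofConv) := by
  rw [AlgHom.comp_convMul_distrib, toConv_ofConv]

/-- The two Galois maps, as endomorphisms over the left factor. -/
def galois (g : WithConv (A →ₐ[k] A ⊗[k] A)) : A ⊗[k] A →ₐ[A] A ⊗[k] A :=
  Algebra.TensorProduct.lift (Algebra.ofId A (A ⊗[k] A)) g.ofConv fun _ _ => Commute.all _ _

theorem galois_left (g : WithConv (A →ₐ[k] A ⊗[k] A)) : ((galois g).restrictScalars k).comp i₁ = i₁ := by
  apply AlgHom.ext
  intro a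
  show galois g (a ⊗ₜ[k] (1 : A)) = _
  rw [galois, Algebra.TensorProduct.lift_tmul, map_one, mul_one]
  rfl

theorem galois_right (g : WithConv (A →ₐ[k] A ⊗[k] A)) : ((galois g).restrictScalars k).comp i₂ = g.ofConv := by
  apply AlgHom.ext
  intro a
  show galois g ((1 : A) ⊗ₜ[k] a) = _
  rw [galois, Algebra.TensorProduct.lift_tmul, map_one, one_mul]

theorem galois_galois (g g' : WithConv (A →ₐ[k] A ⊗[k] A))
    (h : toConv (((galois g).restrictScalars k).comp g'.ofConv) = toConv i₂) :
    (galois g).comp (galois g') = AlgHom.id A (A ⊗[k] A) := by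
  refine Algebra.TensorProduct.ext' fun a b => ?_
  show galois g (galois g' (a ⊗ₜ[k] b)) = _
  rw [show galois g' (a ⊗ₜ[k] b) = (a ⊗ₜ[k] (1 : A)) * g'.ofConv b from Algebra.TensorProduct.lift_tmul .., map_mul]
  have h1 := DFunLike.congr_fun (congrArg WithConv.ofConv h) b
  have h2 := DFunLike.congr_fun (galois_left g) a
  simp only [AlgHom.coe_comp, Function.comp_apply, AlgHom.restrictScalars_apply] at h1 h2
  rw [h1]
  rw [show galois g (a ⊗ₜ[k] (1 : A)) = a ⊗ₜ[k] (1 : A) from h2]
  simp

theorem trace_tmul [Module.Free k A] [Module.Finite k A] (x y : A) :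
    LinearMap.trace A (A ⊗[k] A) (LinearMap.mulLeft A (x ⊗ₜ[k] y)) = x * algebraMap k A (traceForm k A y) := by
  have : LinearMap.mulLeft A (x ⊗ₜ[k] y) = x • (LinearMap.mul k A y).baseChange A := by
    ext a
    simp [Algebra.TensorProduct.tmul_mul_tmul, TensorProduct.smul_tmul']
  rw [this, map_smul, LinearMap.trace_baseChange, smul_eq_mul]
  rfl

theorem isIntegral_traceForm [Module.Free k A] [Module.Finite k A] : IsIntegral (traceForm k A) := by
  intro a
  let β := toConv i₂ * toConv i₁
  let γ := toConv i₂ * (toConv i₁)⁻¹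
  have hinv : ∀ g : WithConv (A →ₐ[k] A ⊗[k] A),
      toConv (((galois g).restrictScalars k).comp ((toConv i₁)⁻¹).ofConv) = (toConv i₁)⁻¹ := by
    intro g
    show toConv (((galois g).restrictScalars k).comp (AlgHom.comp i₁ (HopfAlgebra.antipodeAlgHom k A))) = _
    rw [← AlgHom.comp_assoc, galois_left]
    rfl
  have hγβ : (galois γ).comp (galois β) = AlgHom.id A (A ⊗[k] A) := galois_galois _ _ (by
    rw [show β = toConv i₂ * toConv i₁ from rfl, comp_conv, ofConv_toConv, ofConv_toConv, galois_left,
      galois_right, toConv_ofConv]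
    show (toConv i₂ * (toConv i₁)⁻¹) * toConv i₁ = toConv i₂
    exact inv_mul_cancel_right (G := WithConv (A →ₐ[k] A ⊗[k] A)) (toConv i₂) (toConv i₁))
  have hβγ : (galois β).comp (galois γ) = AlgHom.id A (A ⊗[k] A) := galois_galois _ _ (by
    rw [show γ = toConv i₂ * (toConv i₁)⁻¹ from rfl, comp_conv, ofConv_toConv, hinv, galois_right, toConv_ofConv]
    show (toConv i₂ * toConv i₁) * (toConv i₁)⁻¹ = toConv i₂
    exact mul_inv_cancel_right (G := WithConv (A →ₐ[k] A ⊗[k] A)) (toConv i₂) (toConv i₁))
  let e : (A ⊗[k] A) ≃ₐ[A] A ⊗[k] A := AlgEquiv.ofAlgHom _ _ hβγ hγβ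
  have htr := LinearMap.trace_conj' (LinearMap.mulLeft A ((1 : A) ⊗ₜ[k] a)) e.toLinearEquiv
  have hc : e.toLinearEquiv.conj (LinearMap.mulLeft A ((1 : A) ⊗ₜ[k] a)) =
      LinearMap.mulLeft A (e ((1 : A) ⊗ₜ[k] a)) := by
    apply LinearMap.ext
    intro t
    rw [LinearEquiv.conj_apply, LinearMap.comp_apply, LinearMap.comp_apply]
    show e ((1 : A) ⊗ₜ[k] a * e.symm t) = e ((1 : A) ⊗ₜ[k] a) * t
    rw [map_mul, AlgEquiv.apply_symm_apply]
  rw [hc, trace_tmul, one_mul] at htr
  have he : e ((1 : A) ⊗ₜ[k] a) = TensorProduct.comm k A A (CoalgebraStruct.comul (R := k) a) := by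
    refine (DFunLike.congr_fun (galois_right β) a).trans ?_
    show β.ofConv a = _
    rw [show β = toConv i₂ * toConv i₁ from rfl, AlgHom.convMul_apply]
    generalize CoalgebraStruct.comul (R := k) a = z
    induction z using TensorProduct.induction_on with
    | zero => simp
    | tmul x y => simp [Algebra.TensorProduct.tmul_mul_tmul]
    | add x y hx hy => simp only [map_add, hx, hy]
  rw [he] at htr
  rw [← Algebra.algebraMap_eq_smul_one, ← htr]
  generalize CoalgebraStruct.comul (R := k) a = z
  induction z using TensorProduct.induction_on with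
  | zero => simp
  | tmul x y => rw [TensorProduct.comm_tmul, trace_tmul, sliceL_tmul, Algebra.smul_def, mul_comm]
  | add x y hx hy =>
    have : LinearMap.mulLeft A (TensorProduct.comm k A A x + TensorProduct.comm k A A y) =
        LinearMap.mulLeft A (TensorProduct.comm k A A x) + LinearMap.mulLeft A (TensorProduct.comm k A A y) := by
      ext t; simp [add_mul]
    rw [map_add, map_add, this, map_add, hx, hy]

end

end Groth.Agent.H20Comod
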