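import Groth.Agent.H20Comod.UniExt

/-!
Quotients and extensions of unipotent groups.
-/

set_option autoImplicit false

universe u v w

open TensorProduct HopfRep

namespace Groth.Agent.H20Comod

noncomputable section

variable {k : Type u} [Field k]

theorem sliceR_mem_coFil_of_vanish {A : Type v} [CommRing A] [Bialgebra k A] {r i j : ℕ} (h : r ≤ i + j + 1)
    {a : A} (ha : a ∈ coFil k A r) {f : A →ₗ[k] k} (hf : ∀ x ∈ coFil k A i, f x = 0) :
    sliceR f (CoalgebraStruct.comul (R := k) a) ∈ coFil k A j := by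
  refine mem_coFil.2 fun q hq => ?_
  rw [← conv_apply_sliceR, conv_apply_sliceL]
  refine hf _ (mem_coFil.2 fun p hp => ?_)
  rw [← conv_apply_sliceL]
  refine mem_coFil.1 ha _ (augPow_anti h ?_)
  have := conv_mem_augPow hq hp
  rwa [show i + 1 + (j + 1) = i + j + 1 + 1 by omega] at this

theorem isUnipotent_of_injective {A : Type v} [CommRing A] [Bialgebra k A] {C : Type v} [CommRing C] [Bialgebra k C]
    (ψ : C →ₐc[k] A) (hψ : Function.Injective ψ) (hU : IsUnipotent k A) : IsUnipotent k C := by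
  intro V _ _ cV hfin hnt
  letI c' := pushComod ψ V cV
  obtain ⟨w, hw, hw0⟩ := Submodule.exists_mem_ne_zero_of_ne_bot (@hU V _ _ c' hfin hnt)
  refine fun hbot => hw0 ((Submodule.mem_bot k).1 (hbot ▸ ?_))
  show cV.coact w = w ⊗ₜ[k] (1 : C)
  refine Module.Flat.lTensor_preserves_injective_linearMap (M := V) (ψ : C →ₗ[k] A) hψ ?_
  rw [LinearMap.lTensor_tmul, show (ψ : C →ₗ[k] A) 1 = 1 from map_one ψ]
  exact hw

/-- An extension of a unipotent group by a unipotent group is unipotent. -/
theorem isUnipotent_of_extension {A : Type v} [CommRing A] [HopfAlgebra k A] {C : Type v} [CommRing C] [HopfAlgebra k C]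
    [Algebra.FiniteType k A] [Algebra.FiniteType k C] {A' : Type v} [CommRing A'] [Bialgebra k A']
    (ι : C →ₐc[k] A) (hι : Function.Injective ι) (π : A →ₐc[k] A') (hπ : Function.Surjective π)
    (hker : ∀ a : A, π a = 0 → a ∈ Ideal.map (ι : C →+* A) (RingHom.ker (Bialgebra.counitAlgHom k C)))
    (hC : IsUnipotent k C) (hU : IsUnipotent k A') : IsUnipotent k A := by
  classical
  intro V _ _ cV hfin hnt
  letI c' := pushComod π V cV
  obtain ⟨w, hw, hw0⟩ := Submodule.exists_mem_ne_zero_of_ne_bot (@hU V _ _ c' hfin hnt)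
  have hw' : (π : A →ₗ[k] A').lTensor V (cV.coact w) = w ⊗ₜ[k] (1 : A') := hw
  have hcoeff : ∀ g : V →ₗ[k] k, ∃ b, ι b = sliceL g (cV.coact w) := by
    intro g
    refine H20FF.mem_range_of_coinvariant ι π hι hπ hker ?_
    show LinearMap.lTensor A (π : A →ₗ[k] A') (CoalgebraStruct.comul (R := k) (@coeff k _ A _ _ _ V _ _ cV g w)) =
        (@coeff k _ A _ _ _ V _ _ cV g w) ⊗ₜ[k] (1 : A')
    rw [@comul_coeff k _ A _ _ _ V _ _ cV g w, ← LinearMap.comp_apply, LinearMap.lTensor_comp_rTensor,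
      ← LinearMap.rTensor_comp_lTensor, LinearMap.comp_apply, hw', LinearMap.rTensor_tmul]
  let Bn : ℕ → Submodule k A := fun n => (coFil k C n).map (ι : C →ₗ[k] A)
  have hBmono : Monotone Bn := fun a b h => Submodule.map_mono (coFil_mono h)
  have hex : ∃ n, ∃ y : V, y ≠ 0 ∧ cV.coact y ∈ LinearMap.range ((Bn n).subtype.lTensor V) := by
    let bV := Module.finBasis k V
    choose b hb using hcoeff
    choose d hd using exists_mem_coFil hC
    refine ⟨Finset.univ.sup fun j => d (b (bV.coord j)), w, hw0, ?_⟩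
    rw [mem_range_lTensor_subtype_iff]
    intro g
    have h1 : sliceL g (cV.coact w) = ∑ j, g (bV j) • sliceL (bV.coord j) (cV.coact w) := by
      conv_lhs => rw [eq_sum_basis_tmul_sliceL bV (cV.coact w)]
      simp [map_sum]
    rw [h1]
    refine Submodule.sum_mem _ fun j _ => Submodule.smul_mem _ _ ?_
    rw [← hb]
    exact hBmono (Finset.le_sup (f := fun j => d (b (bV.coord j))) (Finset.mem_univ j))
      (Submodule.mem_map_of_mem (f := (ι : C →ₗ[k] A)) (hd _))
  intro hbot
  obtain ⟨y, hy0, hy⟩ := Nat.find_spec hex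
  generalize hn : Nat.find hex = n at hy
  have hfix : ∀ v : V, cV.coact v ∈ LinearMap.range ((Bn 0).subtype.lTensor V) → v = 0 := by
    rintro v ⟨t, ht⟩
    refine (Submodule.mem_bot k).1 (hbot ▸ ?_)
    show cV.coact v = v ⊗ₜ[k] (1 : A)
    have h1 : ∀ t : V ⊗[k] Bn 0, (Bn 0).subtype.lTensor V t =
        sliceR (CoalgebraStruct.counit (R := k)) ((Bn 0).subtype.lTensor V t) ⊗ₜ[k] (1 : A) := by
      intro t
      induction t using TensorProduct.induction_on with
      | zero => simp
      | tmul p q =>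
        obtain ⟨c, hc, hcq⟩ := q.2
        obtain ⟨r, rfl⟩ := Submodule.mem_span_singleton.1 (coFil_zero.le hc)
        rw [map_smul, show (ι : C →ₗ[k] A) 1 = 1 from map_one ι] at hcq
        simp [← hcq, Bialgebra.counit_one, TensorProduct.smul_tmul]
      | add a b ha hb => rw [map_add, map_add, TensorProduct.add_tmul, ← ha, ← hb]
    conv_rhs => rw [← @actL_counit k _ A _ _ _ V _ _ cV v, @actL_apply k _ A _ _ _ V _ _ cV, ← ht]
    rw [← ht]
    exact h1 t
  rcases n with _ | n
  · exact hy0 (hfix y hy)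
  · refine Nat.find_min hex (by omega : n < Nat.find hex) ⟨y, hy0, ?_⟩
    refine (lTensor_exact V (LinearMap.exact_subtype_mkQ (Bn n)) (Bn n).mkQ_surjective _).1
      (eq_zero_of_forall_sliceR fun ψ => ?_)
    rw [sliceR_lTensor, ← @actL_apply k _ A _ _ _ V _ _ cV]
    refine hfix _ ?_
    rw [@coact_actL' k _ A _ _ _ V _ _ cV]
    obtain ⟨t, ht⟩ := hy
    rw [← ht, ← LinearMap.lTensor_comp_apply]
    have hact : ∀ q : Bn (n + 1), actL (ψ ∘ₗ (Bn n).mkQ) (q : A) ∈ Bn 0 := by
      rintro ⟨_, c, hc, rfl⟩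
      refine ⟨sliceR ((ψ ∘ₗ (Bn n).mkQ) ∘ₗ (ι : C →ₗ[k] A)) (CoalgebraStruct.comul (R := k) c),
        sliceR_mem_coFil_of_vanish (i := n) (j := 0) (by omega) hc (fun x hx => ?_), ?_⟩
      · rw [LinearMap.comp_apply, LinearMap.comp_apply, Submodule.mkQ_apply,
          (Submodule.Quotient.mk_eq_zero _).2 (Submodule.mem_map_of_mem (f := (ι : C →ₗ[k] A)) hx), map_zero]
      · show _ = sliceR (ψ ∘ₗ (Bn n).mkQ) (CoalgebraStruct.comul (R := k) ((ι : C →ₗ[k] A) c))
        rw [show CoalgebraStruct.comul (R := k) ((ι : C →ₗ[k] A) c) =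
          TensorProduct.map (ι : C →ₗ[k] A) (ι : C →ₗ[k] A) (CoalgebraStruct.comul (R := k) c) from
            (CoalgHomClass.map_comp_comul_apply ι c).symm]
        generalize CoalgebraStruct.comul (R := k) c = z
        induction z using TensorProduct.induction_on with
        | zero => simp
        | tmul p q => simp
        | add p q hp hq => simp only [map_add, hp, hq]
    exact ⟨((actL (ψ ∘ₗ (Bn n).mkQ) ∘ₗ (Bn (n + 1)).subtype).codRestrict _ hact).lTensor V t, by
      rw [← LinearMap.lTensor_comp_apply, LinearMap.subtype_comp_codRestrict]⟩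

end

end Groth.Agent.H20Comod
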